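import Cfsg.Agent.S0033
import Cfsg.Agent.OddOrderLocal.HallPi
import Cfsg.Agent.Lib.NilpotentCoprime

/-!
# Three pairwise non-adjacent primes: the group is not solvable

* `nilpotent_of_fpf` : Thompson's theorem for a normal subgroup.
* `not_isSolvable` : if `p`, `q`, `r` are distinct prime divisors of `|G|` and `G` has no element of
  order `pq`, `pr`, `qr` then `G` is not solvable.
-/

set_option autoImplicit false

open Subgroup Cfsg.Agent

namespace Cfsg.Agent.H366.Coclique

/-- Thompson's theorem for the action of an element of prime order on a normal subgroup. -/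
theorem nilpotent_of_fpf {G : Type*} [Group G] [Finite G] (M : Subgroup G) [M.Normal] {y : G}
    {r : ℕ} (hr : r.Prime) (hy : y ^ r = 1) (hf : ∀ m ∈ M, y * m = m * y → m = 1) :
    Group.IsNilpotent M := by
  have : Fact r.Prime := ⟨hr⟩
  by_cases hM : M = ⊥
  · subst hM
    infer_instance
  let φ : MulAut M := MulAut.conjNormal y
  have hφ : ∀ m : M, φ m = m → m = 1 := by
    intro m hm
    have h1 : y * (m : G) * y⁻¹ = m := by
      have := congrArg Subtype.val hm
      rwa [MulAut.conjNormal_apply] at this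
    have h2 := hf m m.2 (by rw [mul_inv_eq_iff_eq_mul] at h1; exact h1)
    exact Subtype.ext h2
  have hpow : φ ^ r = 1 := by
    change (MulAut.conjNormal y) ^ r = 1
    rw [← map_pow, hy, map_one]
  have hne : φ ≠ 1 := by
    intro h
    apply hM
    rw [eq_bot_iff]
    intro m hm
    have := hφ ⟨m, hm⟩ (by rw [h]; rfl)
    exact congrArg Subtype.val this
  exact S0033.result φ (fun m hm => hφ m hm) r hr (orderOf_eq_prime hpow hne)

/-- no element of order `a * b` -/
def NA (G : Type*) [Group G] (a b : ℕ) : Prop := ∀ g : G, orderOf g ≠ a * b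

theorem NA.of_injective {G H : Type*} [Group G] [Group H] {a b : ℕ} (h : NA G a b) (f : H →* G)
    (hf : Function.Injective f) : NA H a b := by
  intro g hg
  apply h (f g)
  rw [← hg]
  exact orderOf_injective f hf g

theorem NA.not_commute {G : Type*} [Group G] {a b : ℕ} (ha : a.Prime) (hb : b.Prime) (hab : a ≠ b)
    (h : NA G a b) {x y : G} (hx : orderOf x = a) (hy : orderOf y = b) : x * y ≠ y * x := by
  intro hc
  apply h (x * y)
  have hcop : (orderOf x).Coprime (orderOf y) := by
    rw [hx, hy]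
    exact (Nat.coprime_primes ha hb).2 hab
  rw [(show Commute x y from hc).orderOf_mul_eq_mul_orderOf_of_coprime hcop, hx, hy]

theorem NA.symm {G : Type*} [Group G] {a b : ℕ} (h : NA G a b) : NA G b a := by
  intro g
  rw [Nat.mul_comm]
  exact h g

/-- Key step: a normal subgroup divisible by two non-adjacent primes, a third prime outside. -/
theorem false_of_normal {G : Type*} [Group G] [Finite G] (M : Subgroup G) [M.Normal] {p q r : ℕ}
    (hp : p.Prime) (hq : q.Prime) (hr : r.Prime) (hpq : p ≠ q)
    (hM : ∀ s : ℕ, s.Prime → s ∣ Nat.card M → s ≠ r ∧ NA G s r)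
    (hpM : p ∣ Nat.card M) (hqM : q ∣ Nat.card M) (hrG : r ∣ Nat.card G) (h : NA G p q) : False := by
  have : Fact p.Prime := ⟨hp⟩
  have : Fact q.Prime := ⟨hq⟩
  have : Fact r.Prime := ⟨hr⟩
  obtain ⟨y, hy⟩ := exists_prime_orderOf_dvd_card' (G := G) r hrG
  have hnil : Group.IsNilpotent M := by
    refine nilpotent_of_fpf M hr (by rw [← hy, pow_orderOf_eq_one]) ?_
    intro m hm hc
    by_contra hne
    -- some power of m has prime order s
    have h1 : orderOf m ≠ 1 := by rwa [Ne, orderOf_eq_one_iff]
    obtain ⟨s, hs, hsm⟩ := Nat.exists_prime_and_dvd h1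
    have hsM : s ∣ Nat.card M := by
      refine hsm.trans ?_
      have : orderOf (⟨m, hm⟩ : M) ∣ Nat.card M := orderOf_dvd_natCard _
      rwa [Subgroup.orderOf_mk] at this
    obtain ⟨hsr, hna⟩ := hM s hs hsM
    have hord : orderOf (m ^ (orderOf m / s)) = s := orderOf_pow_orderOf_div (orderOf_pos m).ne' hsm
    refine hna.not_commute hs hr hsr hord hy ?_
    have hcm : Commute y m := hc
    exact (hcm.pow_right _).symm
  obtain ⟨a, ha⟩ := exists_prime_orderOf_dvd_card' (G := M) p hpM
  obtain ⟨b, hb⟩ := exists_prime_orderOf_dvd_card' (G := M) q hqM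
  have hab : a * b = b * a := by
    have hcop : (orderOf a).Coprime (orderOf b) := by
      rw [ha, hb]; exact (Nat.coprime_primes hp hq).2 hpq
    exact Lib.NilpotentCoprime.commute_of_coprime_orderOf hcop
  have h2 : NA M p q := h.of_injective M.subtype M.subtype_injective
  exact h2.not_commute hp hq hpq ha hb hab

/-- In a nontrivial finite solvable group there is a proper characteristic subgroup with a quotient of
prime power order. -/
theorem exists_char {M : Type*} [Group M] [Finite M] [Nontrivial M] (hs : Group.IsSolvable M) :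
    ∃ (t : ℕ) (N : Subgroup M), t.Prime ∧ N.Characteristic ∧ N ≠ ⊤ ∧
      ∀ s : ℕ, s.Prime → s ≠ t → s ∣ Nat.card M → s ∣ Nat.card N := by
  have hlt : commutator M < ⊤ := Group.IsSolvable.commutator_lt_top_of_nontrivial M
  have hnt : Nontrivial (Abelianization M) := by
    rw [← not_subsingleton_iff_nontrivial]
    intro hsub
    apply hlt.ne
    rw [eq_top_iff]
    intro x _
    have h1 : (Abelianization.of x : Abelianization M) = 1 := Subsingleton.elim _ _
    have h2 : x ∈ (Abelianization.of : M →* Abelianization M).ker := h1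
    rwa [Abelianization.ker_of] at h2
  have hc1 : Nat.card (Abelianization M) ≠ 1 := by
    intro h
    have := Finite.one_lt_card (α := Abelianization M)
    omega
  obtain ⟨t, ht, htd⟩ := Nat.exists_prime_and_dvd hc1
  have : Fact t.Prime := ⟨ht⟩
  let f : Abelianization M →* Abelianization M := powMonoidHom t
  let N : Subgroup M := f.range.comap Abelianization.of
  have hmem : ∀ x : M, x ∈ N ↔ ∃ a : Abelianization M, a ^ t = Abelianization.of x := by
    intro x
    rfl
  have hchar : N.Characteristic := by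
    rw [Subgroup.characteristic_iff_map_le]
    rintro φ _ ⟨x, hx, rfl⟩
    obtain ⟨a, ha⟩ := (hmem x).1 hx
    refine (hmem _).2 ⟨Abelianization.map φ.toMonoidHom a, ?_⟩
    rw [← map_pow, ha]
    rfl
  have hntop : N ≠ ⊤ := by
    intro h
    have hsurj : Function.Surjective f := by
      intro b
      obtain ⟨x, rfl⟩ := QuotientGroup.mk_surjective b
      have : x ∈ N := by rw [h]; trivial
      exact (hmem x).1 this
    have hinj : Function.Injective f := Finite.injective_iff_surjective.2 hsurj
    obtain ⟨a, ha⟩ := exists_prime_orderOf_dvd_card' (G := Abelianization M) t htd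
    have h1 : f a = f 1 := by
      change a ^ t = 1 ^ t
      rw [← ha, pow_orderOf_eq_one, one_pow]
    have h2 : a = 1 := hinj h1
    rw [h2, orderOf_one] at ha
    exact ht.one_lt.ne ha
  refine ⟨t, N, ht, hchar, hntop, ?_⟩
  intro s hs' hst hsd
  have hpg : IsPGroup t (M ⧸ N) := by
    intro g
    obtain ⟨x, rfl⟩ := QuotientGroup.mk_surjective g
    refine ⟨1, ?_⟩
    rw [pow_one, ← QuotientGroup.mk_pow, QuotientGroup.eq_one_iff]
    exact (hmem _).2 ⟨Abelianization.of x, by rw [map_pow]⟩
  obtain ⟨k, hk⟩ := IsPGroup.iff_card.1 hpg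
  rw [Subgroup.card_eq_card_quotient_mul_card_subgroup N, hk] at hsd
  rcases (Nat.Prime.dvd_mul hs').1 hsd with h | h
  · exact absurd ((Nat.prime_dvd_prime_iff_eq hs' ht).1 (hs'.dvd_of_dvd_pow h)) hst
  · exact h

/-- **Three pairwise non-adjacent primes: not solvable.** -/
theorem not_isSolvable {G : Type*} [Group G] [Finite G] {p q r : ℕ} (hp : p.Prime) (hq : q.Prime)
    (hr : r.Prime) (hpq : p ≠ q) (hpr : p ≠ r) (hqr : q ≠ r) (h1 : NA G p q) (h2 : NA G p r)
    (h3 : NA G q r) (hpG : p ∣ Nat.card G) (hqG : q ∣ Nat.card G) (hrG : r ∣ Nat.card G) :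
    ¬ Group.IsSolvable G := by
  intro hs
  let π : Set ℕ := {p, q, r}
  obtain ⟨K, hK1, hK2, -⟩ := OddOrderLocal.HallPi.exists_hall_ge_top (G := G) π (X := ⊥)
    (fun s hs' hd => by
      rw [Subgroup.card_bot] at hd
      exact absurd (Nat.dvd_one.1 hd) hs'.one_lt.ne')
  have hdv : ∀ s ∈ π, s.Prime ∧ s ∣ Nat.card K := by
    intro s hsπ
    have hsp : s.Prime ∧ s ∣ Nat.card G := by
      rcases hsπ with rfl | rfl | rfl
      · exact ⟨hp, hpG⟩
      · exact ⟨hq, hqG⟩
      · exact ⟨hr, hrG⟩
    refine ⟨hsp.1, ?_⟩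
    have := hsp.2
    rw [← K.card_mul_index] at this
    exact ((Nat.Prime.dvd_mul hsp.1).1 this).resolve_right (hK2 s hsp.1 hsπ)
  have hNA : ∀ a ∈ π, ∀ b ∈ π, a ≠ b → NA K a b := by
    intro a ha b hb hab
    have : NA G a b := by
      rcases ha with rfl | rfl | rfl <;> rcases hb with rfl | rfl | rfl <;>
        first | exact absurd rfl hab | assumption | exact NA.symm (by assumption)
    exact this.of_injective K.subtype K.subtype_injective
  let T : Subgroup K → Prop := fun M => M.Normal ∧ ∃ a ∈ π, ∃ b ∈ π, a ≠ b ∧ a ∣ Nat.card M ∧ b ∣ Nat.card M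
  have hpπ : p ∈ π := Or.inl rfl
  have hqπ : q ∈ π := Or.inr (Or.inl rfl)
  have hrπ : r ∈ π := Or.inr (Or.inr rfl)
  obtain ⟨M, hM⟩ := (Set.toFinite {M : Subgroup K | T M}).exists_minimal
    ⟨⊤, inferInstance, p, hpπ, q, hqπ, hpq, by
      rw [Subgroup.card_top]; exact (hdv p hpπ).2, by rw [Subgroup.card_top]; exact (hdv q hqπ).2⟩
  obtain ⟨⟨hMn, a, ha, b, hb, hab, haM, hbM⟩, hmin⟩ := hM
  have hMs : Group.IsSolvable M := inferInstance
  have hMnt : Nontrivial M := by
    rw [← Finite.one_lt_card_iff_nontrivial]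
    have h0 : 0 < Nat.card M := Nat.card_pos
    by_contra hcon
    have h1' : Nat.card M = 1 := by omega
    rw [h1'] at haM
    exact (hdv a ha).1.one_lt.ne' (Nat.dvd_one.1 haM)
  -- a third prime outside
  have hex : ∃ c ∈ π, ¬ c ∣ Nat.card M := by
    by_contra hcon
    push Not at hcon
    obtain ⟨t, N, ht, hchar, hntop, hN⟩ := exists_char hMs
    have hNn : (N.map M.subtype).Normal := inferInstance
    have hcard : Nat.card (N.map M.subtype) = Nat.card N :=
      Subgroup.card_map_of_injective M.subtype_injective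
    have hT : T (N.map M.subtype) := by
      refine ⟨hNn, ?_⟩
      have hgood : ∀ s ∈ π, s ≠ t → s ∣ Nat.card (N.map M.subtype) := by
        intro s hsπ hst
        rw [hcard]
        exact hN s (hdv s hsπ).1 hst (hcon s hsπ)
      by_cases hpt : p = t
      · exact ⟨q, hqπ, r, hrπ, hqr, hgood q hqπ (fun h => hpq (hpt.trans h.symm)),
          hgood r hrπ (fun h => hpr (hpt.trans h.symm))⟩
      · by_cases hqt : q = t
        · exact ⟨p, hpπ, r, hrπ, hpr, hgood p hpπ hpt, hgood r hrπ (fun h => hqr (hqt.trans h.symm))⟩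
        · exact ⟨p, hpπ, q, hqπ, hpq, hgood p hpπ hpt, hgood q hqπ hqt⟩
    have hle : M ≤ N.map M.subtype := hmin hT (Subgroup.map_subtype_le N)
    apply hntop
    rw [eq_top_iff]
    intro x _
    obtain ⟨y, hy, hyx⟩ := hle x.2
    have : y = x := Subtype.ext hyx
    rwa [← this]
  obtain ⟨c, hc, hcM⟩ := hex
  refine false_of_normal M (hdv a ha).1 (hdv b hb).1 (hdv c hc).1 hab ?_ haM hbM (hdv c hc).2
    (hNA a ha b hb hab)
  intro s hs' hsM
  have hsπ : s ∈ π := hK1 s hs' (hsM.trans (Subgroup.card_subgroup_dvd_card M))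
  have hsc : s ≠ c := by
    rintro rfl
    exact hcM hsM
  exact ⟨hsc, hNA s hsπ c hc hsc⟩

end Cfsg.Agent.H366.Coclique
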