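import Cfsg.Agent.S1313

/-!
# Reduction to almost simple groups by commuting nonsolvable subgroups

* `exists_radical` : a largest normal solvable subgroup `R`, the quotient has no nontrivial one.
* `exists_simple_normal` : in a finite group without nontrivial solvable normal subgroups in which two
  nonsolvable subgroups never commute elementwise there is a normal simple subgroup with trivial
  centralizer.
-/

set_option autoImplicit false

open Subgroup Cfsg

namespace Cfsg.Agent.H366.AlmostSimple

open Cfsg.Agent.SignalizersComponents.Components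

theorem isSolvable_comap {G : Type*} [Group G] (R : Subgroup G) [R.Normal]
    (hR : Group.IsSolvable R) (M : Subgroup (G ⧸ R)) (hM : Group.IsSolvable M) :
    Group.IsSolvable (M.comap (QuotientGroup.mk' R)) := by
  let f : M.comap (QuotientGroup.mk' R) →* M :=
    ((QuotientGroup.mk' R).comp (M.comap (QuotientGroup.mk' R)).subtype).codRestrict M
      (fun x => x.2)
  have hk : f.ker ≤ (R.subgroupOf (M.comap (QuotientGroup.mk' R))) := by
    intro x hx
    rw [Subgroup.mem_subgroupOf]
    have h1 : f x = 1 := hx
    have h2 : ((QuotientGroup.mk' R) (x : G) : G ⧸ R) = 1 := congrArg Subtype.val h1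
    exact (QuotientGroup.eq_one_iff _).1 h2
  have hle : R ≤ M.comap (QuotientGroup.mk' R) := by
    intro x hx
    rw [Subgroup.mem_comap]
    have : (QuotientGroup.mk' R) x = 1 := (QuotientGroup.eq_one_iff _).2 hx
    rw [this]
    exact M.one_mem
  have hs1 : Group.IsSolvable (R.subgroupOf (M.comap (QuotientGroup.mk' R))) :=
    Group.isSolvable_of_isSolvable_injective
      (f := (Subgroup.subgroupOfEquivOfLe hle).toMonoidHom) (Subgroup.subgroupOfEquivOfLe hle).injective
  have hs2 : Group.IsSolvable f.ker :=
    Group.isSolvable_of_isSolvable_injective (f := Subgroup.inclusion hk)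
      (Subgroup.inclusion_injective hk)
  exact Group.isSolvable_of_ker_le_range f.ker.subtype f (by rw [Subgroup.range_subtype])

/-- **The solvable radical.** -/
theorem exists_radical (G : Type*) [Group G] [Finite G] :
    ∃ (R : Subgroup G) (_ : R.Normal), Group.IsSolvable R ∧
      ∀ M : Subgroup (G ⧸ R), M.Normal → Group.IsSolvable M → M = ⊥ := by
  obtain ⟨R, hR⟩ := (Set.toFinite {N : Subgroup G | N.Normal ∧ Group.IsSolvable N}).exists_maximal
    ⟨⊥, inferInstance, inferInstance⟩
  obtain ⟨⟨hn, hs⟩, hmax⟩ := hR
  refine ⟨R, hn, hs, ?_⟩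
  intro M hMn hMs
  have h1 : Group.IsSolvable (M.comap (QuotientGroup.mk' R)) := isSolvable_comap R hs M hMs
  have h2 : M.comap (QuotientGroup.mk' R) ≤ R := by
    apply hmax ⟨inferInstance, h1⟩
    intro x hx
    rw [Subgroup.mem_comap]
    have : (QuotientGroup.mk' R) x = 1 := (QuotientGroup.eq_one_iff _).2 hx
    rw [this]
    exact M.one_mem
  rw [eq_bot_iff]
  intro x hx
  obtain ⟨g, rfl⟩ := QuotientGroup.mk'_surjective R x
  have : g ∈ R := h2 hx
  exact (QuotientGroup.eq_one_iff _).2 this

/-- **A simple normal subgroup with trivial centralizer.** -/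
theorem exists_simple_normal {G : Type*} [Group G] [Finite G] [Nontrivial G]
    (hrad : ∀ M : Subgroup G, M.Normal → Group.IsSolvable M → M = ⊥)
    (hcomm : ∀ A B : Subgroup G, ¬ Group.IsSolvable A → ¬ Group.IsSolvable B →
      ¬ ∀ a ∈ A, ∀ b ∈ B, a * b = b * a) :
    ∃ S : Subgroup G, S.Normal ∧ IsSimpleGroup S ∧ ¬ Group.IsSolvable S ∧
      centralizer (S : Set G) = ⊥ := by
  have hF : fittingSubgroup G = ⊥ := by
    rw [eq_bot_iff, fittingSubgroup, sSup_le_iff]
    rintro N ⟨hN, hNn⟩
    have : Group.IsSolvable N := inferInstance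
    exact (hrad N hN this).le
  have hex : ∃ K : Subgroup G, IsComponent K := by
    by_contra h
    push Not at h
    have hL : layer G = ⊥ := by
      rw [eq_bot_iff, layer_le_iff]
      intro K hK
      exact absurd hK (h K)
    have h1 := S1313.centralizer_le G
    rw [generalizedFittingSubgroup, hF, hL, sup_bot_eq] at h1
    have h2 : (⊤ : Subgroup G) ≤ ⊥ := by
      refine le_trans ?_ h1
      intro x _
      rw [Subgroup.mem_centralizer_iff]
      intro y hy
      have : y = 1 := Subgroup.mem_bot.1 hy
      rw [this]; simp
    exact top_ne_bot (eq_bot_iff.2 h2)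
  obtain ⟨K, hK⟩ := hex
  have hKns : ¬ Group.IsSolvable K := quasisimple_not_isSolvable hK.2
  have hKn : K.Normal := by
    rw [← normalizer_eq_top_iff, eq_top_iff]
    intro g _
    rw [Subgroup.mem_normalizer_iff_map_conj_eq]
    by_contra hne
    have hK' := isComponent_conj g hK
    have hle := component_le_centralizer_of_ne hK' hK hne
    have hns' : ¬ Group.IsSolvable (K.map (MulAut.conj g).toMonoidHom) :=
      quasisimple_not_isSolvable hK'.2
    refine hcomm _ _ hns' hKns ?_
    intro a ha b hb
    exact ((Subgroup.mem_centralizer_iff.1 (hle ha)) b hb).symm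
  have hKc : center K = ⊥ := by
    have h1 : ((center K).map K.subtype).Normal := inferInstance
    have h2 : Group.IsSolvable ((center K).map K.subtype) := by
      have hc : Group.IsSolvable (center K) :=
        Group.isSolvable_of_comm fun a b => Subtype.ext (Subgroup.mem_center_iff.1 b.2 a)
      exact Group.isSolvable_of_surjective (f := (K.subtype.subgroupMap (center K)))
        (K.subtype.subgroupMap_surjective _)
    have h3 := hrad _ h1 h2
    exact (Subgroup.map_eq_bot_iff_of_injective _ K.subtype_injective).1 h3
  have hKs : IsSimpleGroup K := by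
    have h1 := hK.2.2
    have e : K ⧸ center K ≃* K :=
      (QuotientGroup.quotientMulEquivOfEq hKc).trans QuotientGroup.quotientBot
    exact e.symm.isSimpleGroup
  refine ⟨K, hKn, hKs, hKns, ?_⟩
  by_contra hC
  have hCn : (centralizer (K : Set G)).Normal := inferInstance
  have hCs : ¬ Group.IsSolvable (centralizer (K : Set G)) := fun h => hC (hrad _ hCn h)
  refine hcomm _ _ hKns hCs ?_
  intro a ha b hb
  exact (Subgroup.mem_centralizer_iff.1 hb) a ha

end Cfsg.Agent.H366.AlmostSimple
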