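import Cfsg.Agent.H437.Iso.Untw
import Cfsg.Agent.H378.AdjE6

/-!
# Isolated numbers of `E₆(u)` (helper366)

* `e6_row`: `n g = u⁶ + u³ + 1`, `g = (3, u - 1)`;
* `e6_orderA`: elements of order `(u⁵ - 1)(u + 1) / g`; `e6_orderC`: elements of order `(u² + u + 1)(u⁴ - u² + 1) / g`.
-/

set_option autoImplicit false

namespace Cfsg.Agent.H366.Iso

open CoxeterSystem Cfsg Cfsg.Lie Cfsg.Lie.ChevalleyDatum
open Cfsg.Agent.ChevalleyStructure.CoxeterGeomTypes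
open Cfsg.Agent.BpExc.FamInst Cfsg.Agent.BpExc.RowsUntw Cfsg.Agent.Nodes.RGDChev Cfsg.Agent.BpExc.FamExt
open Cfsg.Agent.H378.AdjTab Cfsg.Agent.H378.CycTab Cfsg.Agent.H378.ExcAdj Cfsg.Agent.H378.ExcNear
open Cfsg.Agent.H493.PGTorus Cfsg.Agent.H129.WData Cfsg.Agent.H360.Iso Cfsg.Agent.H437.Iso

universe u

/-- the partial products -/
def LE6a : List (Fin 6 × Mat 6) := [
    (5, ![![-1, -1, -1, -1, 0, 0],
        ![0, 0, 0, 1, 0, 0],
        ![1, 0, 0, 0, 0, 0],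
        ![0, 0, 1, 0, 0, 0],
        ![0, 1, 0, 1, 1, 1],
        ![0, 0, 0, 0, 0, -1]]),
    (1, ![![-1, -1, -1, -1, 0, 0],
        ![0, 0, 0, 1, 0, 0],
        ![1, 0, 0, 0, 0, 0],
        ![0, 0, 1, 0, 0, 0],
        ![0, 1, 0, 1, 1, 0],
        ![0, 0, 0, 0, 0, 1]]),
    (3, ![![-1, 0, -1, -1, 0, 0],
        ![0, 1, 0, 1, 0, 0],
        ![1, 0, 0, 0, 0, 0],
        ![0, 0, 1, 0, 0, 0],
        ![0, 0, 0, 1, 1, 0],
        ![0, 0, 0, 0, 0, 1]]),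
    (2, ![![-1, 0, -1, 0, 0, 0],
        ![0, 1, 0, 0, 0, 0],
        ![1, 0, 0, 0, 0, 0],
        ![0, 0, 1, 1, 0, 0],
        ![0, 0, 0, 0, 1, 0],
        ![0, 0, 0, 0, 0, 1]]),
    (0, ![![-1, 0, 0, 0, 0, 0],
        ![0, 1, 0, 0, 0, 0],
        ![1, 0, 1, 0, 0, 0],
        ![0, 0, 0, 1, 0, 0],
        ![0, 0, 0, 0, 1, 0],
        ![0, 0, 0, 0, 0, 1]])]

/-- the eigenvector -/
def VE6a : Fin (5 + 1) → Fin 6 → ℤ := ![![0, 0, 0, 1, 1, 1],
      ![1, 1, 1, 2, 2, 1],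
      ![1, 1, 2, 2, 2, 1],
      ![1, 1, 2, 3, 2, 1],
      ![1, 2, 2, 3, 2, 1],
      ![0, 1, 1, 1, 1, 0]]

/-- the functional -/
def UE6a : Fin 6 → ℤ := ![-1, 0, 0, 0, 0, 1]

/-- the polynomial -/
def kE6a : Fin (5 + 1) → ℤ := ![-1, -1, 0, 0, 0, 1]

theorem chainE6a : ChainOK H378.AdjE6.Am LE6a := by decide +kernel

theorem eigE6a : EigOK (hd LE6a) kE6a VE6a UE6a := by decide +kernel

theorem pvE6a (q : ℤ) : pv kE6a q = (q ^ 5 - 1) * (q + 1) := by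
  simp [pv, kE6a, Fin.sum_univ_succ]
  ring

/-- the eigenvector -/
def VE6c : Fin (5 + 1) → Fin 6 → ℤ := ![![-3, 1, -1, -2, 1, -2],
      ![0, 2, -1, 0, 1, 1],
      ![1, -2, 1, 0, -1, 0],
      ![1, 0, 0, 1, -1, 1],
      ![-1, -1, 0, -1, 0, -2],
      ![-2, 3, -1, -1, 2, 0]]

/-- the functional -/
def UE6c : Fin 6 → ℤ := ![-1, -1, -1, 0, 0, 1]

/-- the polynomial -/
def kE6c : Fin (5 + 1) → ℤ := ![1, 1, 0, -1, 0, 1]

theorem eigE6c : EigOK (hd H378.AdjE6.T12) kE6c VE6c UE6c := by decide +kernel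

theorem pvE6c (q : ℤ) : pv kE6c q = (q ^ 2 + q + 1) * (q ^ 4 - q ^ 2 + 1) := by
  simp [pv, kE6c, Fin.sum_univ_succ]
  ring

/-- an element of order `m / gcd(d, q - 1)` in a cyclic torus -/
theorem exists_order_d {D : ChevalleyDatum} {l : ℕ} {M : CoxeterMatrix (Fin l)} (hp : IsType D l M)
    {W : Type*} [Group W] [Finite W] (cs : CoxeterSystem M W) {d : ℕ}
    {B : Fin l → Fin l → ℤ} (hB : InvC D l d B) (hd0 : d ≠ 0) {A : Mat l}
    (hA : ∀ i j, A i j = cartanOf D l i j) {L : List (Fin l × Mat l)} (hL : ChainOK A L)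
    {f : ℕ} {c : Fin (f + 1) → ℤ} {V : Fin (f + 1) → Fin l → ℤ} {U : Fin l → ℤ} (h : EigOK (hd L) c V U)
    {F : Type u} [Field F] [Finite F] {m k : ℕ} (hk : 0 < k) (hm : m = k * Nat.gcd d (Nat.card F - 1))
    (hdv : (m : ℤ) ∣ pv c (Nat.card F : ℕ)) : ∃ x : ↥(D.group F), orderOf x = k := by
  have hg : 0 < Nat.gcd d (Nat.card F - 1) := Nat.gcd_pos_of_pos_left _ (Nat.pos_of_ne_zero hd0)
  have hm0 : 0 < m := by rw [hm]; exact Nat.mul_pos hk hg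
  obtain ⟨x, -, -, h1, -⟩ := exists_comm_torus hp cs hB hd0 hA hL h h (F := F) hm0 hm0 hdv hdv
  rw [hm] at h1
  exact exists_order ⟨x, Nat.dvd_of_mul_dvd_mul_right hg h1⟩

theorem eval_cyc9 (q : ℤ) : (Polynomial.cyclotomic 9 ℤ).eval q = q ^ 6 + q ^ 3 + 1 := by
  have h := Polynomial.cyclotomic_prime_pow_eq_geom_sum (R := ℤ) Nat.prime_three (n := 1)
  rw [show 3 ^ (1 + 1) = 9 from rfl] at h
  rw [h]
  simp [Finset.sum_range_succ, Polynomial.eval_add, Polynomial.eval_pow]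
  ring

variable {F : Type u} [Field F] [Finite F]

theorem g3_dvd (u : ℕ) (hu : 1 ≤ u) : Nat.gcd 3 (u - 1) ∣ u ^ 2 + u + 1 := by
  have h1 : Nat.gcd 3 (u - 1) = 1 ∨ Nat.gcd 3 (u - 1) = 3 := (Nat.dvd_prime Nat.prime_three).1 (Nat.gcd_dvd_left _ _)
  rcases h1 with h1 | h1
  · rw [h1]; exact one_dvd _
  · rw [h1]
    have h2 : 3 ∣ u - 1 := by rw [← h1]; exact Nat.gcd_dvd_right _ _
    obtain ⟨k, hk⟩ := h2
    have e : u = 3 * k + 1 := by omega
    rw [e]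
    exact ⟨3 * k ^ 2 + 3 * k + 1, by ring⟩

theorem g3_dvd9 (u : ℕ) (hu : 1 ≤ u) : Nat.gcd 3 (u - 1) ∣ u ^ 6 + u ^ 3 + 1 := by
  have h1 : Nat.gcd 3 (u - 1) = 1 ∨ Nat.gcd 3 (u - 1) = 3 := (Nat.dvd_prime Nat.prime_three).1 (Nat.gcd_dvd_left _ _)
  rcases h1 with h1 | h1
  · rw [h1]; exact one_dvd _
  · rw [h1]
    have h2 : 3 ∣ u - 1 := by rw [← h1]; exact Nat.gcd_dvd_right _ _
    have h3 : u % 3 = 1 := by omega
    apply Nat.dvd_of_mod_eq_zero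
    rw [Nat.add_mod, Nat.add_mod (u ^ 6), Nat.pow_mod, Nat.pow_mod u 3, h3]

/-- elements of order `(u⁵ - 1)(u + 1) / g` -/
theorem e6_orderA : ∃ x : ↥(chevE6.group F), orderOf x =
    (Nat.card F ^ 5 - 1) * (Nat.card F + 1) / Nat.gcd 3 (Nat.card F - 1) := by
  let cs : CoxeterSystem CoxeterMatrix.E₆ CoxeterMatrix.E₆.Group := CoxeterMatrix.E₆.toCoxeterSystem
  have := finite_W e6T cs
  have h2 : 1 < Nat.card F := Finite.one_lt_card
  have h3 : 1 < Nat.card F ^ 5 := Nat.one_lt_pow (by norm_num) h2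
  have hg0 : 0 < Nat.gcd 3 (Nat.card F - 1) := Nat.gcd_pos_of_pos_left _ (by norm_num)
  have hgd : Nat.gcd 3 (Nat.card F - 1) ∣ (Nat.card F ^ 5 - 1) * (Nat.card F + 1) := by
    refine Dvd.dvd.mul_right ((Nat.gcd_dvd_right _ _).trans ?_) _
    have := Nat.sub_dvd_pow_sub_pow (Nat.card F) 1 5
    rwa [one_pow] at this
  have hpos : 0 < (Nat.card F ^ 5 - 1) * (Nat.card F + 1) := Nat.mul_pos (by omega) (by omega)
  refine exists_order_d e6T cs inv_E6 three_ne_zero H378.AdjE6.hA chainE6a eigE6a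
    (Nat.div_pos (Nat.le_of_dvd hpos hgd) hg0) (Nat.div_mul_cancel hgd).symm ?_
  rw [pvE6a]
  push_cast [h3.le]
  exact dvd_rfl

/-- elements of order `(u² + u + 1)(u⁴ - u² + 1) / g` -/
theorem e6_orderC : ∃ x : ↥(chevE6.group F), orderOf x =
    (Nat.card F ^ 2 + Nat.card F + 1) * (Nat.card F ^ 4 - Nat.card F ^ 2 + 1) / Nat.gcd 3 (Nat.card F - 1) := by
  let cs : CoxeterSystem CoxeterMatrix.E₆ CoxeterMatrix.E₆.Group := CoxeterMatrix.E₆.toCoxeterSystem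
  have := finite_W e6T cs
  have h2 : 1 < Nat.card F := Finite.one_lt_card
  have hg0 : 0 < Nat.gcd 3 (Nat.card F - 1) := Nat.gcd_pos_of_pos_left _ (by norm_num)
  have hgd : Nat.gcd 3 (Nat.card F - 1) ∣ (Nat.card F ^ 2 + Nat.card F + 1) * (Nat.card F ^ 4 - Nat.card F ^ 2 + 1) :=
    Dvd.dvd.mul_right (g3_dvd _ h2.le) _
  have hpos : 0 < (Nat.card F ^ 2 + Nat.card F + 1) * (Nat.card F ^ 4 - Nat.card F ^ 2 + 1) :=
    Nat.mul_pos (by positivity) (by omega)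
  refine exists_order_d e6T cs inv_E6 three_ne_zero H378.AdjE6.hA H378.AdjE6.chain12 eigE6c
    (Nat.div_pos (Nat.le_of_dvd hpos hgd) hg0) (Nat.div_mul_cancel hgd).symm ?_
  rw [pvE6c, ← f4_cast12]
  push_cast
  exact dvd_rfl

/-- elements of order `(u⁶ + u³ + 1) / g` -/
theorem e6_order9 : ∃ x : ↥(chevE6.group F), orderOf x =
    (Nat.card F ^ 6 + Nat.card F ^ 3 + 1) / Nat.gcd 3 (Nat.card F - 1) := by
  let cs : CoxeterSystem CoxeterMatrix.E₆ CoxeterMatrix.E₆.Group := CoxeterMatrix.E₆.toCoxeterSystem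
  have := finite_W e6T cs
  have h2 : 1 < Nat.card F := Finite.one_lt_card
  have hg0 : 0 < Nat.gcd 3 (Nat.card F - 1) := Nat.gcd_pos_of_pos_left _ (by norm_num)
  have hgd := g3_dvd9 _ h2.le
  refine exists_order_d e6T cs inv_E6 three_ne_zero H378.AdjE6.hA H378.AdjE6.chain9 H378.AdjE6.tor9_9
    (Nat.div_pos (Nat.le_of_dvd (by positivity) hgd) hg0) (Nat.div_mul_cancel hgd).symm ?_
  rw [pv9]
  push_cast
  exact dvd_rfl

/-- **`E₆(u)`.** -/
theorem e6_row {n : ℕ} (h : IsoN ↥(chevE6.group F) n) :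
    n * Nat.gcd 3 (Nat.card F - 1) = Nat.card F ^ 6 + Nat.card F ^ 3 + 1 := by
  obtain ⟨r, hr, hrn⟩ := h.exists_prime
  have h2 : 1 < Nat.card F := Finite.one_lt_card
  have hgd := g3_dvd9 _ h2.le
  rcases near_E6 F hr (h.prime_dvd_card hrn) with h1 | h1
  · exact absurd h1 (h.not_near hrn)
  · have hcast : ((Nat.card F : ℕ) : ℤ) ^ 6 + ((Nat.card F : ℕ) : ℤ) ^ 3 + 1 =
        ((Nat.card F ^ 6 + Nat.card F ^ 3 + 1 : ℕ) : ℤ) := by push_cast; rfl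
    have hcent : ∀ x : ↥(chevE6.group F), orderOf x = r →
        Nat.card ↥(Subgroup.centralizer {x}) ∣ Nat.card F ^ 6 + Nat.card F ^ 3 + 1 := by
      intro x hx
      have h3 := (H378.RegFin.cent_od e6T inv_E6 three_ne_zero hr hx h1 (by decide) (by norm_num)).2
      rw [eval_cyc9, hcast, Int.natAbs_natCast] at h3
      exact h3
    have hd1 : n ∣ Nat.card F ^ 6 + Nat.card F ^ 3 + 1 := by
      obtain ⟨g, hg⟩ := h.elt
      obtain ⟨k, hk⟩ := hrn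
      have hn0 : 0 < n := by have := h.big; omega
      have hk0 : k ≠ 0 := by
        rintro rfl
        omega
      have h4 : orderOf (g ^ k) = r := by
        rw [orderOf_pow_of_dvd hk0 (by rw [hg, hk]; exact dvd_mul_left _ _), hg, hk,
          Nat.mul_div_cancel _ (Nat.pos_of_ne_zero hk0)]
      have h5 := hcent _ h4
      have h6 : g ∈ Subgroup.centralizer {g ^ k} := by
        rw [Subgroup.mem_centralizer_singleton_iff]
        exact (Commute.self_pow g k).eq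
      have h7 : orderOf (⟨g, h6⟩ : ↥(Subgroup.centralizer {g ^ k})) ∣ Nat.card ↥(Subgroup.centralizer {g ^ k}) :=
        orderOf_dvd_natCard _
      rw [Subgroup.orderOf_mk, hg] at h7
      exact h7.trans h5
    have hco : Nat.Coprime n (Nat.gcd 3 (Nat.card F - 1)) :=
      Nat.Coprime.coprime_dvd_right (Nat.gcd_dvd_left _ _)
        ((Nat.Prime.coprime_iff_not_dvd Nat.prime_three).2 h.not_three_dvd).symm
    have hd2 : n ∣ (Nat.card F ^ 6 + Nat.card F ^ 3 + 1) / Nat.gcd 3 (Nat.card F - 1) :=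
      hco.dvd_of_dvd_mul_right (by rw [Nat.div_mul_cancel hgd]; exact hd1)
    have hr3 : r ≠ 3 := h.ne_three hrn
    have hd3 : (Nat.card F ^ 6 + Nat.card F ^ 3 + 1) / Nat.gcd 3 (Nat.card F - 1) ∣ n := by
      refine h.dvd_of_elt e6_order9 hr hrn ?_
      have h3 := dvd9 hr h1
      rw [pv9, hcast] at h3
      have h4 : r ∣ Nat.card F ^ 6 + Nat.card F ^ 3 + 1 := by exact_mod_cast h3
      rw [← Nat.div_mul_cancel hgd] at h4
      rcases hr.dvd_mul.1 h4 with h5 | h5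
      · exact h5
      · exfalso
        exact hr3 ((Nat.prime_dvd_prime_iff_eq hr Nat.prime_three).1 (h5.trans (Nat.gcd_dvd_left _ _)))
    rw [Nat.dvd_antisymm hd2 hd3, Nat.div_mul_cancel hgd]

end Cfsg.Agent.H366.Iso
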