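import Cfsg.Agent.H366.ConjMod

/-!
# Elementary abelian normal subgroups when all element orders are at most eight
-/

set_option autoImplicit false

open Subgroup Cfsg.Agent Cfsg.Agent.H422

namespace Cfsg.Agent.H366.EightMod

universe u

/-- A module for `7 : 3` without fixed points of the kernel on which the norm of the complement vanishes is killed
by 7. -/
theorem seven_nsmul {Q V : Type*} [Group Q] [AddCommGroup V] [DistribMulAction Q V] {b y : Q}
    (hy : y ^ 7 = 1) (hby : b * y = y ^ 2 * b) (hfp : ∀ v : V, y • v = v → v = 0)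
    (hN : ∀ v : V, v + b • v + b • b • v = 0) (v : V) : 7 • v = 0 := by
  have yk : ∀ (k : ℕ) (u : V), y ^ (k + 7) • u = y ^ k • u := fun k u => by
    rw [pow_add, hy, mul_one]
  have key : ∀ i : ℕ, v + y ^ i • b • v + y ^ (3 * i) • b • b • v = 0 := by
    intro i
    have h1 := hN (y ^ i • v)
    rw [b_smul_pow hby, b_smul_pow hby] at h1
    have h2 : y ^ i • (v + y ^ i • b • v + y ^ (3 * i) • b • b • v) = 0 := by
      have m22 : ∀ (j k : ℕ) (u : V), y ^ j • y ^ k • u = y ^ (j + k) • u := fun j k u => by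
        rw [← mul_smul, ← pow_add]
      rw [smul_add, smul_add, m22, m22, show i + i = 2 * i by ring, show i + 3 * i = 2 * (2 * i) by ring, h1]
    have h3 : y ^ i • (v + y ^ i • b • v + y ^ (3 * i) • b • b • v) = y ^ i • (0 : V) := by
      rw [h2, smul_zero]
    exact smul_left_cancel _ h3
  have e0 := key 0
  have e1 := key 1
  have e2 := key 2
  have e3 := key 3
  have e4 := key 4
  have e5 := key 5
  have e6 := key 6
  have s1 := sum_seven hy hfp (b • v)
  have s2 := sum_seven hy hfp (b • b • v)
  have r9 : ∀ u : V, y ^ 9 • u = y ^ 2 • u := fun u => yk 2 u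
  have r12 : ∀ u : V, y ^ 12 • u = y ^ 5 • u := fun u => yk 5 u
  have r15 : ∀ u : V, y ^ 15 • u = y • u := fun u => by
    have h1 := yk 8 u
    have h2 := yk 1 u
    rw [pow_one] at h2
    exact h1.trans h2
  have r18 : ∀ u : V, y ^ 18 • u = y ^ 4 • u := fun u => (yk 11 u).trans (yk 4 u)
  norm_num [r9, r12, r15, r18] at e0 e1 e2 e3 e4 e5 e6
  calc 7 • v = (v + b • v + b • b • v) + (v + y • b • v + y ^ 3 • b • b • v) +
        (v + y ^ 2 • b • v + y ^ 6 • b • b • v) + (v + y ^ 3 • b • v + y ^ 2 • b • b • v) +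
        (v + y ^ 4 • b • v + y ^ 5 • b • b • v) + (v + y ^ 5 • b • v + y • b • b • v) +
        (v + y ^ 6 • b • v + y ^ 4 • b • b • v) -
        (b • v + y • b • v + y ^ 2 • b • v + y ^ 3 • b • v + y ^ 4 • b • v + y ^ 5 • b • v + y ^ 6 • b • v) -
        (b • b • v + y • b • b • v + y ^ 2 • b • b • v + y ^ 3 • b • b • v + y ^ 4 • b • b • v +
          y ^ 5 • b • b • v + y ^ 6 • b • b • v) := by abel
    _ = 0 := by rw [e0, e1, e2, e3, e4, e5, e6, s1, s2]; simp

section

variable {G : Type u} [Group G] [Finite G] (h8 : ∀ g : G, orderOf g ≤ 8) (V : Subgroup G) [V.Normal]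

include h8

/-- elements of order 5 and 7 of the quotient act without fixed points -/
theorem fpf {p r : ℕ} (hp : p.Prime) (hr : r.Prime) (hr5 : 5 ≤ r) (hpr : p ≠ r)
    (hpx : ∀ x ∈ V, x ^ p = 1) {g : G} (hg : orderOf (QuotientGroup.mk g : G ⧸ V) = r) {v : G} (hv : v ∈ V)
    (hc : g * v = v * g) : v = 1 := by
  by_contra hv1
  have : Fact p.Prime := ⟨hp⟩
  have hov : orderOf v = p := orderOf_eq_prime (hpx v hv) hv1
  have h1 : r ∣ orderOf g := by
    rw [← hg]
    exact orderOf_map_dvd (QuotientGroup.mk' V) g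
  have h2 : orderOf g = r := by
    obtain ⟨k, hk⟩ := h1
    have h3 := h8 g
    have h4 : 0 < orderOf g := orderOf_pos g
    have : k = 1 := by
      rcases Nat.lt_or_ge k 2 with h5 | h5
      · interval_cases k
        · omega
        · rfl
      · have : r * 2 ≤ r * k := Nat.mul_le_mul_left r h5
        omega
    rw [hk, this, mul_one]
  have h5 := h8 (g * v)
  rw [(show Commute g v from hc).orderOf_mul_eq_mul_orderOf_of_coprime (by
    rw [h2, hov]; exact (Nat.coprime_primes hr hp).2 hpr.symm), h2, hov] at h5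
  have := hp.two_le
  nlinarith

/-- The top chief factor `V` is trivial if `G / V` contains a suitable group `Γ`. -/
theorem eq_bot {p : ℕ} (hp : p = 2 ∨ p = 3) (hab : ∀ x ∈ V, ∀ y ∈ V, x * y = y * x)
    (hpx : ∀ x ∈ V, x ^ p = 1) {Γ : Type*} [Group Γ] (f : Γ →* G ⧸ V) (hf : Function.Injective f)
    (hk2 : ∀ (A : Type u) [AddCommGroup A] [Finite A] [DistribMulAction Γ A], (∀ a : A, a + a = 0) →
      Fpf Γ A 5 → Fpf Γ A 7 → ∀ a : A, a = 0)
    {b y : Γ} (hb : orderOf b = 3) (hy : orderOf y = 7) (hby : b * y = y ^ 2 * b) : V = ⊥ := by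
  let i1 := ConjMod.addCommGroup V hab
  let i2 := ConjMod.act V hab f
  have hpp : p.Prime := by rcases hp with rfl | rfl <;> norm_num
  have hact : ∀ (γ : Γ) (g : G), QuotientGroup.mk g = f γ → ∀ v : V,
      ((Additive.toMul (γ • (Additive.ofMul v)) : V) : G) = g * v * g⁻¹ := by
    intro γ g hg v
    change ((ConjMod.conjHom V hab (f γ) v : V) : G) = _
    rw [← hg, ConjMod.conjHom_mk]
  have hfpf : ∀ r : ℕ, r.Prime → 5 ≤ r → Fpf Γ (Additive V) r := by
    intro r hr hr5 γ hγ v hv
    obtain ⟨g, hg⟩ := QuotientGroup.mk_surjective (f γ)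
    have h1 := hact γ g hg v.toMul
    rw [ofMul_toMul, hv] at h1
    have h2 : orderOf (QuotientGroup.mk g : G ⧸ V) = r := by
      rw [hg, orderOf_injective f hf, hγ]
    have h3 := fpf h8 V hpp hr hr5 (by rcases hp with rfl | rfl <;> omega) hpx h2 (v := (v.toMul : G))
      (v.toMul).2 (by
        nth_rw 2 [h1]
        group)
    exact Subtype.ext h3
  have hzero : ∀ v : Additive V, v = 0 := by
    rcases hp with rfl | rfl
    · refine hk2 (Additive V) ?_ (hfpf 5 (by norm_num) le_rfl) (hfpf 7 (by norm_num) (by norm_num))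
      intro a
      have := hpx (a.toMul : G) (a.toMul).2
      apply Subtype.ext
      change ((a.toMul : V) : G) * (a.toMul : V) = 1
      rw [← pow_two, this]
    · -- the norm of `b` vanishes
      obtain ⟨g, hg⟩ := QuotientGroup.mk_surjective (f b)
      have horder : ∀ v ∈ V, (g * v) ^ 3 = 1 := by
        intro v hv
        have h1 : (QuotientGroup.mk (g * v) : G ⧸ V) = f b := by
          rw [← hg, QuotientGroup.mk_mul, (QuotientGroup.eq_one_iff v).2 hv, mul_one]
        have h2 : orderOf (QuotientGroup.mk (g * v) : G ⧸ V) = 3 := by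
          rw [h1, orderOf_injective f hf, hb]
        have h3 : 3 ∣ orderOf (g * v) := by
          rw [← h2]
          exact orderOf_map_dvd (QuotientGroup.mk' V) (g * v)
        have h4 : (g * v) ^ 3 ∈ V := by
          rw [← QuotientGroup.eq_one_iff, QuotientGroup.mk_pow, ← h2, pow_orderOf_eq_one]
        have h5 : (g * v) ^ 9 = 1 := by
          rw [show 9 = 3 * 3 by norm_num, pow_mul]
          exact hpx _ h4
        have h6 := orderOf_dvd_of_pow_eq_one h5
        have h7 := h8 (g * v)
        have h8' : orderOf (g * v) = 3 := by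
          have h9 : 0 < orderOf (g * v) := orderOf_pos _
          interval_cases orderOf (g * v) <;> omega
        rw [← h8', pow_orderOf_eq_one]
      have hN : ∀ v : Additive V, v + b • v + b • b • v = 0 := by
        intro v
        have h1 := hact b g hg v.toMul
        have h2 := hact b g hg (Additive.toMul (b • v))
        rw [ofMul_toMul] at h1 h2
        apply Subtype.ext
        change ((v.toMul : V) : G) * ((Additive.toMul (b • v) : V) : G) *
          ((Additive.toMul (b • b • v) : V) : G) = 1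
        rw [h2, h1]
        have h3 := horder (v.toMul : G) (v.toMul).2
        have h4 := horder 1 (one_mem V)
        rw [mul_one] at h4
        have c1 : (v.toMul : G) * (g * (v.toMul : G) * g⁻¹) = (g * (v.toMul : G) * g⁻¹) * (v.toMul : G) :=
          hab _ (v.toMul).2 _ (‹V.Normal›.conj_mem _ (v.toMul).2 g)
        have m1 : g * (v.toMul : G) * g⁻¹ ∈ V := ‹V.Normal›.conj_mem _ (v.toMul).2 g
        have m2 : g * (g * (v.toMul : G) * g⁻¹) * g⁻¹ ∈ V := ‹V.Normal›.conj_mem _ m1 g
        have h5 : (g * (v.toMul : G)) ^ 3 =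
            (g * (v.toMul : G) * g⁻¹) * ((g * (g * (v.toMul : G) * g⁻¹) * g⁻¹) *
              (g ^ 3 * (v.toMul : G) * (g ^ 3)⁻¹)) * g ^ 3 := by
          simp only [pow_succ, pow_zero, one_mul]
          group
        rw [h4, inv_one, mul_one, mul_one, one_mul, h3] at h5
        rw [c1, mul_assoc, hab _ (v.toMul).2 _ m2]
        exact h5.symm
      intro v
      have hy7 : y ^ 7 = 1 := by rw [← hy, pow_orderOf_eq_one]
      have h1 := seven_nsmul hy7 hby (fun v hv => hfpf 7 (by norm_num) (by norm_num) y hy v hv) hN v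
      have h3 : 3 • v = 0 := by
        apply Subtype.ext
        change ((v.toMul : V) ^ 3 : V).1 = 1
        rw [Subgroup.coe_pow]
        exact hpx _ (v.toMul).2
      calc v = 7 • v - 2 • (3 • v) := by abel
        _ = 0 := by rw [h1, h3]; simp
  rw [eq_bot_iff]
  intro v hv
  have := hzero (Additive.ofMul ⟨v, hv⟩)
  exact Subgroup.mem_bot.2 (congrArg Subtype.val (show (⟨v, hv⟩ : V) = 1 from this))

end

end Cfsg.Agent.H366.EightMod
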