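import Cfsg.Agent.H366.Coclique

/-!
# An odd prime dividing a normal subgroup and not adjacent to two

* `inverts` : an involution normalising a subgroup `P` and commuting with no nontrivial element of `P`
  inverts `P`.
* `no_four` : two distinct commuting involutions cannot normalise a nontrivial `p`-subgroup, `p` odd, if
  `2` and `p` are not adjacent.
* `exists_central` : `R` normal in `G`, `p` an odd prime divisor of `|R|` not adjacent to `2`, `G / R` contains a
  four-group: there is an involution `z` of `G` with `C_G(z) R = G`.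
-/

set_option autoImplicit false

open Subgroup Cfsg.Agent Cfsg.Agent.H366.Coclique

namespace Cfsg.Agent.H366.FrobTwo

theorem inverts {G : Type*} [Group G] [Finite G] (P : Subgroup G) {t : G} (ht : t * t = 1)
    (hn : ∀ x ∈ P, t * x * t⁻¹ ∈ P) (hf : ∀ x ∈ P, t * x = x * t → x = 1) :
    ∀ x ∈ P, t * x * t⁻¹ = x⁻¹ := by
  let φ : P →* P :=
    { toFun := fun x => ⟨t * x * t⁻¹, hn x x.2⟩
      map_one' := by ext; simp
      map_mul' := fun x y => by ext; simp [mul_assoc] }
  have hinv : t⁻¹ = t := by rw [inv_eq_iff_mul_eq_one]; exact ht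
  have hφ : MonoidHom.FixedPointFree φ := by
    intro x hx
    have h1 : t * (x : G) * t⁻¹ = x := congrArg Subtype.val hx
    exact Subtype.ext (hf x x.2 (by rwa [mul_inv_eq_iff_eq_mul] at h1))
  have h2 : Function.Involutive φ := by
    intro x
    apply Subtype.ext
    change t * (t * (x : G) * t⁻¹) * t⁻¹ = x
    calc t * (t * (x : G) * t⁻¹) * t⁻¹ = (t * t) * x * (t * t)⁻¹ := by group
      _ = x := by rw [ht]; simp
  intro x hx
  have h3 := congrFun (hφ.coe_eq_inv_of_involutive h2) ⟨x, hx⟩
  exact congrArg Subtype.val h3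

theorem no_four {G : Type*} [Group G] [Finite G] {p : ℕ} (hp : p.Prime) (hp2 : p ≠ 2)
    (hna : NA G 2 p) (P : Subgroup G) (hP : IsPGroup p P) (hP1 : P ≠ ⊥) {s t : G}
    (hs : orderOf s = 2) (ht : orderOf t = 2) (hsn : s ∈ normalizer (P : Set G))
    (htn : t ∈ normalizer (P : Set G)) (hc : s * t = t * s) : s = t := by
  by_contra hne
  have hss : s * s = 1 := by rw [← pow_two, ← hs, pow_orderOf_eq_one]
  have htt : t * t = 1 := by rw [← pow_two, ← ht, pow_orderOf_eq_one]
  -- involutions in the normalizer act without fixed points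
  have hfix : ∀ u : G, orderOf u = 2 → ∀ x ∈ P, u * x = x * u → x = 1 := by
    intro u hu x hx hux
    by_contra hx1
    have h1 : orderOf x ≠ 1 := by rwa [Ne, orderOf_eq_one_iff]
    obtain ⟨k, hk⟩ := hP ⟨x, hx⟩
    have hk' : x ^ p ^ k = 1 := congrArg Subtype.val hk
    obtain ⟨j, _, hj⟩ := (Nat.dvd_prime_pow hp).1 (orderOf_dvd_of_pow_eq_one hk')
    have hpx : p ∣ orderOf x := by
      rw [hj]
      apply dvd_pow_self
      rintro rfl
      exact h1 (by rw [hj, pow_zero])
    have hord : orderOf (x ^ (orderOf x / p)) = p := orderOf_pow_orderOf_div (orderOf_pos x).ne' hpx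
    refine hna.not_commute Nat.prime_two hp (Ne.symm hp2) hu hord ?_
    have hcm : Commute u x := hux
    exact hcm.pow_right _
  have hnorm : ∀ u ∈ normalizer (P : Set G), ∀ x ∈ P, u * x * u⁻¹ ∈ P := by
    intro u hu x hx
    exact (mem_normalizer_iff.1 hu x).1 hx
  have hinv : ∀ u : G, orderOf u = 2 → u ∈ normalizer (P : Set G) → ∀ x ∈ P, u * x * u⁻¹ = x⁻¹ := by
    intro u hu hun
    refine inverts P ?_ (hnorm u hun) (hfix u hu)
    rw [← pow_two, ← hu, pow_orderOf_eq_one]
  have hst : orderOf (s * t) = 2 := by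
    apply orderOf_eq_prime
    · rw [pow_two]
      calc s * t * (s * t) = s * (t * s) * t := by group
        _ = s * (s * t) * t := by rw [hc]
        _ = (s * s) * (t * t) := by group
        _ = 1 := by rw [hss, htt, one_mul]
    · intro h
      apply hne
      have : s = t⁻¹ := eq_inv_of_mul_eq_one_left h
      rw [this, inv_eq_iff_mul_eq_one, htt]
  have hPnt : Nontrivial P := (Subgroup.nontrivial_iff_ne_bot P).2 hP1
  obtain ⟨x, hx⟩ := exists_ne (1 : P)
  apply hx
  apply Subtype.ext
  refine hfix (s * t) hst x x.2 ?_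
  have h1 := hinv t ht htn x x.2
  have h2 := hinv s hs hsn _ (P.inv_mem x.2)
  have h3 : s * t * (x : G) * (s * t)⁻¹ = x := by
    calc s * t * (x : G) * (s * t)⁻¹ = s * (t * x * t⁻¹) * s⁻¹ := by group
      _ = s * (x : G)⁻¹ * s⁻¹ := by rw [h1]
      _ = x := by rw [h2, inv_inv]
  rwa [mul_inv_eq_iff_eq_mul] at h3

/-- A group without four-groups mapping onto a group with a four-group. -/
theorem exists_central_of_surjective {N Q : Type*} [Group N] [Finite N] [Group Q] (f : N →* Q)
    (hf : Function.Surjective f)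
    (hno : ∀ s t : N, orderOf s = 2 → orderOf t = 2 → s * t = t * s → s = t)
    (E : Subgroup Q) (hE : Nat.card E = 4) (hE2 : ∀ x ∈ E, x * x = 1) :
    ∃ z : N, orderOf z = 2 ∧ z ∈ f.ker ∧ ∀ q : Q, ∃ c : N, f c = q ∧ c * z = z * c := by
  have h2 : Fact (Nat.Prime 2) := ⟨Nat.prime_two⟩
  have hfinQ : Finite Q := Finite.of_surjective f hf
  -- two divides the order of the kernel
  have h2M : 2 ∣ Nat.card f.ker := by
    by_contra hodd
    let N1 : Subgroup N := E.comap f
    have hcard : Nat.card N1 = 4 * Nat.card f.ker := by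
      have hi : N1.index = E.index := Subgroup.index_comap_of_surjective E hf
      have ha := N1.card_mul_index
      have hb := E.card_mul_index
      have hc : Nat.card N = Nat.card Q * Nat.card f.ker := by
        rw [Subgroup.card_eq_card_quotient_mul_card_subgroup f.ker,
          Nat.card_congr (QuotientGroup.quotientKerEquivOfSurjective f hf).toEquiv]
      have hpos : 0 < E.index := Nat.pos_of_ne_zero Subgroup.index_ne_zero_of_finite
      apply Nat.eq_of_mul_eq_mul_right hpos
      rw [hi] at ha
      rw [ha, hc, ← hb, hE]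
      ring
    obtain ⟨T, hT⟩ := Sylow.exists_subgroup_card_pow_prime (G := N1) 2 (n := 2)
      (by rw [hcard]; exact ⟨Nat.card f.ker, rfl⟩)
    have hT4 : Nat.card T = 4 := by simpa using hT
    -- all elements of `T` have square one
    have hsq : ∀ x ∈ T, x * x = 1 := by
      intro x hx
      have h1 : f ((x * x : N1) : N) = 1 := by
        have : f (x : N) ∈ E := x.2
        rw [Subgroup.coe_mul, map_mul]
        exact hE2 _ this
      have hord : orderOf (x * x) ∣ 4 := by
        have : orderOf (⟨x * x, T.mul_mem hx hx⟩ : T) ∣ Nat.card T := orderOf_dvd_natCard _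
        rwa [Subgroup.orderOf_mk, hT4] at this
      have h1' : ((x * x : N1) : N) ∈ f.ker := h1
      have hord2 : orderOf ((x * x : N1) : N) ∣ Nat.card f.ker := by
        have : orderOf (⟨((x * x : N1) : N), h1'⟩ : f.ker) ∣ Nat.card f.ker := orderOf_dvd_natCard _
        rwa [Subgroup.orderOf_mk] at this
      rw [Subgroup.orderOf_coe] at hord2
      have hcop : Nat.Coprime 4 (Nat.card f.ker) := by
        have : Nat.Coprime 2 (Nat.card f.ker) := (Nat.Prime.coprime_iff_not_dvd Nat.prime_two).2 hodd
        exact Nat.Coprime.pow_left 2 this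
      have := Nat.dvd_gcd hord hord2
      rw [hcop] at this
      exact orderOf_eq_one_iff.1 (Nat.dvd_one.1 this)
    -- two distinct involutions
    have hcomm : ∀ x ∈ T, ∀ y ∈ T, x * y = y * x := by
      intro x hx y hy
      have h1 := hsq x hx
      have h2 := hsq y hy
      have h3 := hsq (x * y) (T.mul_mem hx hy)
      have hx' : x⁻¹ = x := by rw [inv_eq_iff_mul_eq_one]; exact h1
      have hy' : y⁻¹ = y := by rw [inv_eq_iff_mul_eq_one]; exact h2
      have h4 : (x * y)⁻¹ = x * y := by rw [inv_eq_iff_mul_eq_one]; exact h3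
      rw [mul_inv_rev, hx', hy'] at h4
      exact h4.symm
    have hle : Nat.card T ≤ 2 := by
      have hfin : Finite T := inferInstance
      by_contra hlt
      push Not at hlt
      have h3 : 2 < Nat.card T := hlt
      -- elements: 1, a, b
      have hnt : Nontrivial T := by
        rw [← Finite.one_lt_card_iff_nontrivial]; omega
      obtain ⟨a, ha⟩ := exists_ne (1 : T)
      have hex : ∃ b : T, b ≠ 1 ∧ b ≠ a := by
        by_contra hcon
        push Not at hcon
        have := Fintype.ofFinite T
        classical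
        have hcover : (Finset.univ : Finset T) ⊆ {1, a} := by
          intro b _
          by_cases hb : b = 1
          · simp [hb]
          · simp [hcon b hb]
        have h5 := Finset.card_le_card hcover
        have h6 : Finset.card ({1, a} : Finset T) ≤ 2 := Finset.card_le_two
        rw [Finset.card_univ, ← Nat.card_eq_fintype_card] at h5
        omega
      obtain ⟨b, hb1, hba⟩ := hex
      have hordN : ∀ x : T, x ≠ 1 → orderOf ((x : N1) : N) = 2 := by
        intro x hx
        apply orderOf_eq_prime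
        · rw [pow_two]
          have := hsq x x.2
          rw [← Subgroup.coe_mul, this]; rfl
        · intro h
          apply hx
          exact Subtype.ext (Subtype.ext h)
      have h7 := hno ((a : N1) : N) ((b : N1) : N) (hordN a ha) (hordN b hb1)
        (congrArg Subtype.val (hcomm a a.2 b b.2))
      exact hba (Subtype.ext (Subtype.ext h7.symm))
    omega
  -- Frattini
  let T0 : Sylow 2 f.ker := default
  have hT0nt : Nontrivial T0 := by
    by_contra hcon
    have hb : (T0 : Subgroup f.ker) = ⊥ := by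
      by_contra h
      exact hcon ((Subgroup.nontrivial_iff_ne_bot _).2 h)
    have hi := T0.not_dvd_index
    rw [hb, Subgroup.index_bot] at hi
    exact hi h2M
  have hcen := IsPGroup.center_nontrivial T0.isPGroup'
  have hcard2 : 2 ∣ Nat.card (Subgroup.center T0) := by
    have hpg : IsPGroup 2 (Subgroup.center T0) := T0.isPGroup'.to_subgroup _
    obtain ⟨k, hk⟩ := IsPGroup.iff_card.1 hpg
    rw [hk]
    apply dvd_pow_self
    rintro rfl
    rw [pow_zero] at hk
    have := Finite.one_lt_card (α := Subgroup.center T0)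
    omega
  obtain ⟨z, hz⟩ := exists_prime_orderOf_dvd_card' (G := Subgroup.center T0) 2 hcard2
  let z0 : N := (((z : T0) : f.ker) : N)
  have hz0 : orderOf z0 = 2 := by
    change orderOf (((z : T0) : f.ker) : N) = 2
    rw [Subgroup.orderOf_coe, Subgroup.orderOf_coe, Subgroup.orderOf_coe, hz]
  refine ⟨z0, hz0, ((z : T0) : f.ker).2, ?_⟩
  intro q
  obtain ⟨n, rfl⟩ := hf q
  have hfr := Sylow.normalizer_sup_eq_top T0
  have hn : n ∈ normalizer (((T0 : Subgroup f.ker).map f.ker.subtype : Subgroup N) : Set N) ⊔ f.ker := by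
    rw [hfr]; trivial
  rw [Subgroup.mem_sup_of_normal_right] at hn
  obtain ⟨c, hc, k, hk, hck⟩ := hn
  refine ⟨c, ?_, ?_⟩
  · have hk1 : f k = 1 := hk
    rw [← hck, map_mul, hk1, mul_one]
  · have hzT : z0 ∈ (T0 : Subgroup f.ker).map f.ker.subtype := ⟨((z : T0) : f.ker), (z : T0).2, rfl⟩
    have hcz : c * z0 * c⁻¹ ∈ (T0 : Subgroup f.ker).map f.ker.subtype := (mem_normalizer_iff.1 hc z0).1 hzT
    obtain ⟨y, hy, hyc⟩ := hcz
    have hyo : orderOf (c * z0 * c⁻¹) = 2 := by
      rw [← hz0]
      exact orderOf_injective (MulAut.conj c).toMonoidHom (MulAut.conj c).injective z0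
    have hcomm : c * z0 * c⁻¹ * z0 = z0 * (c * z0 * c⁻¹) := by
      rw [← hyc]
      have := Subgroup.mem_center_iff.1 z.2 ⟨y, hy⟩
      exact congrArg (fun x : T0 => ((x : f.ker) : N)) this
    have heq := hno _ _ hyo hz0 hcomm
    calc c * z0 = (c * z0 * c⁻¹) * c := by group
      _ = z0 * c := by rw [heq]

/-- **An involution whose centralizer covers the quotient.** -/
theorem exists_central {G : Type*} [Group G] [Finite G] {p : ℕ} (hp : p.Prime) (hp2 : p ≠ 2)
    (hna : NA G 2 p) (R : Subgroup G) [R.Normal] (hpR : p ∣ Nat.card R)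
    (E : Subgroup (G ⧸ R)) (hE : Nat.card E = 4) (hE2 : ∀ x ∈ E, x * x = 1) :
    ∃ z : G, orderOf z = 2 ∧ z ∈ R ∧ ∀ q : G ⧸ R, ∃ c : G, (QuotientGroup.mk c : G ⧸ R) = q ∧ c * z = z * c := by
  have : Fact p.Prime := ⟨hp⟩
  let P : Sylow p R := default
  let P' : Subgroup G := (P : Subgroup R).map R.subtype
  have hP' : IsPGroup p P' := P.isPGroup'.map _
  have hP1 : P' ≠ ⊥ := by
    intro h
    have hb : (P : Subgroup R) = ⊥ := (Subgroup.map_eq_bot_iff_of_injective _ R.subtype_injective).1 h
    have hi := P.not_dvd_index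
    rw [hb, Subgroup.index_bot] at hi
    exact hi hpR
  let N : Subgroup G := normalizer (P' : Set G)
  have hfr : N ⊔ R = ⊤ := Sylow.normalizer_sup_eq_top P
  let f : N →* G ⧸ R := (QuotientGroup.mk' R).comp N.subtype
  have hf : Function.Surjective f := by
    intro q
    obtain ⟨g, rfl⟩ := QuotientGroup.mk'_surjective R q
    have hg : g ∈ N ⊔ R := by rw [hfr]; trivial
    rw [Subgroup.mem_sup_of_normal_right] at hg
    obtain ⟨n, hn, r, hr, rfl⟩ := hg
    refine ⟨⟨n, hn⟩, ?_⟩
    change (QuotientGroup.mk' R) n = (QuotientGroup.mk' R) (n * r)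
    rw [map_mul]
    have : (QuotientGroup.mk' R) r = 1 := (QuotientGroup.eq_one_iff r).2 hr
    rw [this, mul_one]
  obtain ⟨z, hz, hzk, hz2⟩ := exists_central_of_surjective f hf (fun s t hs ht hc => by
    apply Subtype.ext
    refine no_four hp hp2 hna P' hP' hP1 ?_ ?_ s.2 t.2 ?_
    · rw [Subgroup.orderOf_coe]; exact hs
    · rw [Subgroup.orderOf_coe]; exact ht
    · exact congrArg Subtype.val hc) E hE hE2
  refine ⟨z, by rw [Subgroup.orderOf_coe]; exact hz, (QuotientGroup.eq_one_iff (z : G)).1 hzk, ?_⟩
  intro q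
  obtain ⟨c, hc, hcz⟩ := hz2 q
  exact ⟨c, hc, congrArg Subtype.val hcz⟩

end Cfsg.Agent.H366.FrobTwo
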