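import Mathlib

/-!
# The index of a normal subgroup from the normalizer of a Sylow subgroup of prime order
-/

set_option autoImplicit false

open Subgroup

namespace Cfsg.Agent.H366.IndexFrat

variable {G : Type*} [Group G] [Finite G]

/-- the normalizer of a subgroup of prime order whose centralizer is a `r`-group -/
theorem card_normalizer {r : ℕ} (hr : r.Prime) {y : G} (hy : orderOf y = r)
    (hC : ∀ g : G, g * y = y * g → ∃ k : ℕ, g ^ r ^ k = 1) :
    ∃ a m : ℕ, m ∣ r - 1 ∧ Nat.card (normalizer (zpowers y : Set G)) = r ^ a * m := by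
  have : Fact r.Prime := ⟨hr⟩
  set N := normalizer (zpowers y : Set G) with hN
  let f := (zpowers y).normalizerMonoidHom
  have hker : IsPGroup r f.ker := by
    intro x
    have hx : (x : N) ∈ (centralizer ((zpowers y : Subgroup G) : Set G)).subgroupOf N :=
      (le_of_eq (zpowers y).normalizerMonoidHom_ker) x.2
    rw [Subgroup.mem_subgroupOf, mem_centralizer_iff] at hx
    obtain ⟨k, hk⟩ := hC ((x : N) : G) (hx y (mem_zpowers y)).symm
    exact ⟨k, Subtype.ext (Subtype.ext hk)⟩
  obtain ⟨a, ha⟩ := IsPGroup.iff_card.1 hker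
  have hcyc : IsCyclic (zpowers y) := inferInstance
  have hrange : Nat.card f.range ∣ r - 1 := by
    have h1 : Nat.card f.range ∣ Nat.card (MulAut (zpowers y)) := Subgroup.card_subgroup_dvd_card _
    rwa [IsCyclic.card_mulAut, Nat.card_zpowers, hy, Nat.totient_prime hr] at h1
  refine ⟨a, Nat.card f.range, hrange, ?_⟩
  rw [← ha, ← Subgroup.index_ker f, mul_comm, Subgroup.index_mul_card]

theorem index_mul {r : ℕ} (hr : r.Prime) (S : Subgroup G) [S.Normal] {y : G} (hyS : y ∈ S) (hy : orderOf y = r)
    (hr2 : ¬ r ^ 2 ∣ Nat.card S) :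
    S.index * Nat.card (normalizer (zpowers y : Set G) ⊓ S : Subgroup G) =
      Nat.card (normalizer (zpowers y : Set G)) := by
  have : Fact r.Prime := ⟨hr⟩
  set N := normalizer (zpowers y : Set G) with hN
  have hle : zpowers y ≤ S := by rwa [zpowers_le]
  have hcard : Nat.card ((zpowers y).subgroupOf S) = r := by
    rw [Nat.card_congr (Subgroup.subgroupOfEquivOfLe hle).toEquiv, Nat.card_zpowers, hy]
  let P : Sylow r S := Sylow.ofCard ((zpowers y).subgroupOf S) (by
    rw [hcard]
    have h1 : r ∣ Nat.card S := by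
      rw [← hcard]
      exact Subgroup.card_subgroup_dvd_card _
    have h2 : (Nat.card S).factorization r = 1 := by
      have h3 : 1 ≤ (Nat.card S).factorization r :=
        (hr.dvd_iff_one_le_factorization Nat.card_pos.ne').1 h1
      have h4 : ¬ 2 ≤ (Nat.card S).factorization r := by
        intro h
        exact hr2 ((hr.pow_dvd_iff_le_factorization Nat.card_pos.ne').2 h)
      omega
    rw [h2, pow_one])
  have hPm : (P : Subgroup S).map S.subtype = zpowers y := by
    rw [Sylow.coe_ofCard, Subgroup.subgroupOf_map_subtype, inf_eq_left]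
    exact hle
  have h1 := Sylow.normalizer_sup_eq_top P
  rw [hPm] at h1
  have h2 : S.relIndex N = S.index := by
    rw [← Subgroup.relIndex_sup_right, h1, Subgroup.relIndex_top_right]
  rw [← h2, ← Subgroup.inf_relIndex_left, ← Subgroup.index_mul_card ((N ⊓ S).subgroupOf N),
    Nat.card_congr (Subgroup.subgroupOfEquivOfLe (inf_le_left : N ⊓ S ≤ N)).toEquiv]
  rfl

end Cfsg.Agent.H366.IndexFrat
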