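import Cfsg.Agent.H422.ASevenTwo

/-!
# Explicit elements of `A₇`
-/

set_option autoImplicit false

open Equiv Subgroup Cfsg.Agent.H422

namespace Cfsg.Agent.H366.SevenPerm

/-- the alternating group of degree 7 -/
abbrev A7 := alternatingGroup (Fin 7)

/-- `i ↦ i + 1` -/
def y7 : A7 := ⟨mkP ![1,2,3,4,5,6,0] ![6,0,1,2,3,4,5] (by decide), Perm.mem_alternatingGroup.mpr (by decide)⟩
/-- `i ↦ 2 i` -/
def b3 : A7 := ⟨mkP ![0,2,4,6,1,3,5] ![0,4,1,5,2,6,3] (by decide), Perm.mem_alternatingGroup.mpr (by decide)⟩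
/-- `(0 1 2 3 4)` -/
def z5 : A7 := ⟨mkP ![1,2,3,4,0,5,6] ![4,0,1,2,3,5,6] (by decide), Perm.mem_alternatingGroup.mpr (by decide)⟩
/-- `i ↦ 2 i` on `0, ..., 4` times `(5 6)` -/
def n4 : A7 := ⟨mkP ![0,2,4,1,3,6,5] ![0,3,1,4,2,6,5] (by decide), Perm.mem_alternatingGroup.mpr (by decide)⟩
/-- `(0 1)(2 3)` -/
def t1 : A7 := ⟨mkP ![1,0,3,2,4,5,6] ![1,0,3,2,4,5,6] (by decide), Perm.mem_alternatingGroup.mpr (by decide)⟩
/-- `(0 2)(1 3)` -/
def t2 : A7 := ⟨mkP ![2,3,0,1,4,5,6] ![2,3,0,1,4,5,6] (by decide), Perm.mem_alternatingGroup.mpr (by decide)⟩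

theorem ord_y7 : orderOf y7 = 7 := by
  have : Fact (Nat.Prime 7) := ⟨by norm_num⟩
  exact orderOf_eq_prime (Subtype.ext (by decide)) (by decide)

theorem ord_b3 : orderOf b3 = 3 := by
  have : Fact (Nat.Prime 3) := ⟨by norm_num⟩
  exact orderOf_eq_prime (Subtype.ext (by decide)) (by decide)

theorem ord_z5 : orderOf z5 = 5 := by
  have : Fact (Nat.Prime 5) := ⟨by norm_num⟩
  exact orderOf_eq_prime (Subtype.ext (by decide)) (by decide)

theorem ord_t1 : orderOf t1 = 2 := by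
  exact orderOf_eq_prime (Subtype.ext (by decide)) (by decide)

theorem ord_t2 : orderOf t2 = 2 := by
  exact orderOf_eq_prime (Subtype.ext (by decide)) (by decide)

theorem ord_n4 : orderOf n4 = 4 := by
  have h := orderOf_eq_prime_pow (p := 2) (n := 1) (x := n4) (by decide) (Subtype.ext (by decide))
  rw [h]; norm_num

theorem rel_b3 : b3 * y7 = y7 ^ 2 * b3 := by decide
theorem rel_n4 : n4 * z5 = z5 ^ 2 * n4 := by decide
theorem comm_t : t1 * t2 = t2 * t1 := by decide
theorem ne_t : t1 ≠ t2 := by decide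

theorem orderOf_ne_eight (g : A7) : orderOf g ≠ 8 := by
  intro h
  have h1 : orderOf (g : Perm (Fin 7)) = 8 := by rw [Subgroup.orderOf_coe, h]
  have h2 : orderOf (g : Perm (Fin 7)) ∣ 420 := by
    rw [← Perm.lcm_cycleType, Multiset.lcm_dvd]
    intro n hn
    have h3 := Perm.le_card_support_of_mem_cycleType hn
    have h4 : (g : Perm (Fin 7)).support.card ≤ 7 := by
      have := Finset.card_le_univ (g : Perm (Fin 7)).support
      rwa [Fintype.card_fin] at this
    have h5 := Perm.two_le_of_mem_cycleType hn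
    have h6 : n ≤ 7 := h3.trans h4
    interval_cases n <;> norm_num
  rw [h1] at h2
  omega

theorem card_A7 : Nat.card A7 = 2520 := by
  rw [nat_card_alternatingGroup]
  rw [Nat.card_eq_fintype_card, Fintype.card_fin]
  decide

end Cfsg.Agent.H366.SevenPerm
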