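import Cfsg.Agent.H372.Unit

/-!
# An element of order 12 in `PSU₄(3)`
-/

set_option autoImplicit false

open Matrix Cfsg Subgroup
open Cfsg.Agent.LieClassical.HermBasic Cfsg.Agent.LieClassical.HermSiegel Cfsg.Agent.LieClassical.SUBasic
  Cfsg.Agent.H372

namespace Cfsg.Agent.H366.UFourThree

variable {F : Type*} [Field F]

/-- the explicit matrix -/
def M1 (i : F) : Matrix (Fin 4) (Fin 4) F :=
  !![i, 0, 0, 0; 0, -i, 0, 0; 0, 0, 1 + i, 1 + i; 0, 0, i - 1, 1 - i]
def M2 (i : F) : Matrix (Fin 4) (Fin 4) F :=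
  !![-1, 0, 0, 0; 0, -1, 0, 0; 0, 0, 1 - i, -1 - i; 0, 0, 1 - i, 1 + i]
def M4 (i : F) : Matrix (Fin 4) (Fin 4) F :=
  !![1, 0, 0, 0; 0, 1, 0, 0; 0, 0, 1 + i, 1 + i; 0, 0, i - 1, 1 - i]
def M6 (F : Type*) [Field F] : Matrix (Fin 4) (Fin 4) F :=
  !![-1, 0, 0, 0; 0, -1, 0, 0; 0, 0, 1, 0; 0, 0, 0, 1]

variable {i : F} (hi : i * i = -1) (h3 : (3 : F) = 0)

include hi h3

theorem e2 : M1 i * M1 i = M2 i := by
  ext a b
  fin_cases a <;> fin_cases b <;> simp [M1, M2, Matrix.mul_apply, Fin.sum_univ_four] <;> grind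

theorem e4 : M2 i * M2 i = M4 i := by
  ext a b
  fin_cases a <;> fin_cases b <;> simp [M2, M4, Matrix.mul_apply, Fin.sum_univ_four] <;> grind

theorem e6 : M4 i * M2 i = M6 F := by
  ext a b
  fin_cases a <;> fin_cases b <;> simp [M2, M4, M6, Matrix.mul_apply, Fin.sum_univ_four] <;> grind

omit hi h3 in
theorem e12 : M6 F * M6 F = 1 := by
  ext a b
  fin_cases a <;> fin_cases b <;> simp [M6, Matrix.mul_apply, Fin.sum_univ_four]

theorem det_eq : (M1 i).det = 1 := by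
  rw [M1]
  simp [Matrix.det_succ_row_zero, Fin.sum_univ_succ, Fin.succAbove]
  grind

theorem herm_eq [Fintype F] (hF : Fintype.card F = 3 ^ 2) : (M1 i)ᵀ * (M1 i).map (conj hF) = 1 := by
  have hc : conj hF i = -i := by
    rw [conj_apply, pow_succ, pow_two, hi]; ring
  ext a b
  fin_cases a <;> fin_cases b <;> simp [M1, Matrix.mul_apply, Fin.sum_univ_four, hc] <;> grind

omit hi h3

/-- **An element of order 12.** -/
theorem exists_twelve [Fintype F] (hF : Fintype.card F = 9) : ∃ y : PSU 4 F 3, orderOf y = 12 := by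
  have hF' : Fintype.card F = 3 ^ 2 := by rw [hF]; norm_num
  have h3 : (3 : F) = 0 := by
    have h9 : (9 : F) = 0 := by
      have := FiniteField.cast_card_eq_zero F
      rw [hF] at this
      exact_mod_cast this
    have : (3 : F) * 3 = 0 := by rw [← h9]; norm_num
    rcases mul_eq_zero.1 this with h | h <;> exact h
  have h2 : (2 : F) ≠ 0 := by
    intro h
    have : (1 : F) = 0 := by linear_combination h3 - h
    exact one_ne_zero this
  obtain ⟨i, hi⟩ : ∃ i : F, i * i = -1 := by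
    have := (FiniteField.isSquare_neg_one_iff (F := F)).2 (by rw [hF]; norm_num)
    obtain ⟨r, hr⟩ := this
    exact ⟨r, hr.symm⟩
  let x : SU 4 F 3 := mkSU (M1 i) (det_eq hi h3) (herm_of_mul hF' (herm_eq hi h3 hF'))
  have hxm : mat x = M1 i := rfl
  have hx2 : mat (x ^ 2) = M2 i := by rw [mat_pow, hxm, pow_two, e2 hi h3]
  have hx4 : mat (x ^ 4) = M4 i := by
    have : x ^ 4 = x ^ 2 * x ^ 2 := by rw [← pow_add]
    rw [this, mat_mul, hx2, e4 hi h3]
  have hx6 : mat (x ^ 6) = M6 F := by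
    have : x ^ 6 = x ^ 4 * x ^ 2 := by rw [← pow_add]
    rw [this, mat_mul, hx4, hx2, e6 hi h3]
  have hx12 : x ^ 12 = 1 := by
    apply mat_injective
    have : x ^ 12 = x ^ 6 * x ^ 6 := by rw [← pow_add]
    rw [this, mat_mul, hx6, e12, mat_one]
  have hi0 : i ≠ 0 := by
    rintro rfl
    rw [mul_zero] at hi
    exact one_ne_zero (neg_eq_zero.1 hi.symm)
  have n4 : x ^ 4 ∉ center (SU 4 F 3) := by
    apply su_not_mem_center_of_diag hF' (by norm_num) (i := 0) (j := 2)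
    rw [hx4]
    simp [M4, hi0]
  have n6 : x ^ 6 ∉ center (SU 4 F 3) := by
    apply su_not_mem_center_of_diag hF' (by norm_num) (i := 0) (j := 2)
    rw [hx6]
    simp [M6]
    intro h
    apply h2
    linear_combination -h
  refine ⟨QuotientGroup.mk x, ?_⟩
  have q12 : (QuotientGroup.mk x : PSU 4 F 3) ^ 12 = 1 := by
    rw [← QuotientGroup.mk_pow, hx12, QuotientGroup.mk_one]
  have q4 : (QuotientGroup.mk x : PSU 4 F 3) ^ 4 ≠ 1 := by
    rw [← QuotientGroup.mk_pow, Ne, QuotientGroup.eq_one_iff]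
    exact n4
  have q6 : (QuotientGroup.mk x : PSU 4 F 3) ^ 6 ≠ 1 := by
    rw [← QuotientGroup.mk_pow, Ne, QuotientGroup.eq_one_iff]
    exact n6
  have hd := orderOf_dvd_of_pow_eq_one q12
  have hd4 : ¬ orderOf (QuotientGroup.mk x : PSU 4 F 3) ∣ 4 := fun h => q4 (orderOf_dvd_iff_pow_eq_one.1 h)
  have hd6 : ¬ orderOf (QuotientGroup.mk x : PSU 4 F 3) ∣ 6 := fun h => q6 (orderOf_dvd_iff_pow_eq_one.1 h)
  generalize orderOf (QuotientGroup.mk x : PSU 4 F 3) = n at hd hd4 hd6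
  have hn : n ≤ 12 := Nat.le_of_dvd (by norm_num) hd
  interval_cases n <;> revert hd hd4 hd6 <;> decide

end Cfsg.Agent.H366.UFourThree
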