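import Cfsg.Agent.H310.PerfTools
import Cfsg.Agent.H366.SimpleEight
import Cfsg.Agent.H366.SevenPerm
import Cfsg.Agent.H366.LThreeFour
import Cfsg.Agent.H366.EightMod
import Cfsg.Agent.H366.IndexFrat
import Cfsg.Agent.H366.FrobTwo
import Cfsg.Agent.H366.AlmostSimple

/-!
# Finite groups with element orders at most eight

Preparations for the group with spectrum `{1, ..., 8}`.
-/

set_option autoImplicit false

open Subgroup Cfsg.Agent

namespace Cfsg.Agent.H366.EightFinal

universe u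

section

variable {G : Type*} [Group G] [Finite G] (h8 : ∀ g : G, orderOf g ≤ 8)

include h8

theorem pow_of_comm {r : ℕ} (hr : r.Prime) (hr5 : 5 ≤ r) {y g : G} (hy : orderOf y = r) (hc : g * y = y * g) :
    ∃ k : ℕ, g ^ r ^ k = 1 := by
  refine ⟨1, ?_⟩
  rw [pow_one, ← orderOf_dvd_iff_pow_eq_one]
  have h1 := h8 g
  have h2 : 0 < orderOf g := orderOf_pos g
  by_cases hcop : (orderOf g).Coprime (orderOf y)
  · have h3 := h8 (g * y)
    rw [(show Commute g y from hc).orderOf_mul_eq_mul_orderOf_of_coprime hcop, hy] at h3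
    have : orderOf g = 1 := by nlinarith
    rw [this]
    exact one_dvd _
  · have h3 : r ∣ orderOf g := by
      by_contra h4
      apply hcop
      rw [hy, Nat.coprime_comm]
      exact (Nat.Prime.coprime_iff_not_dvd hr).2 h4
    obtain ⟨k, hk⟩ := h3
    have : k = 1 := by
      rcases Nat.lt_or_ge k 2 with h5 | h5
      · interval_cases k
        · omega
        · rfl
      · have : r * 2 ≤ r * k := Nat.mul_le_mul_left r h5
        omega
    rw [hk, this, mul_one]

theorem quot_eight (K : Subgroup G) [K.Normal] (q : G ⧸ K) : orderOf q ≤ 8 := by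
  obtain ⟨x, rfl⟩ := QuotientGroup.mk_surjective q
  exact (Nat.le_of_dvd (orderOf_pos x) (orderOf_map_dvd (QuotientGroup.mk' K) x)).trans (h8 x)

theorem index_dvd (S : Subgroup G) [S.Normal] {y5 y7 b : G} (m5 : y5 ∈ S) (m7 : y7 ∈ S) (mb : b ∈ S)
    (o5 : orderOf y5 = 5) (o7 : orderOf y7 = 7) (ob : orderOf b = 3) (hb : b * y7 = y7 ^ 2 * b)
    (n5 : ¬ 5 ^ 2 ∣ Nat.card S) (n7 : ¬ 7 ^ 2 ∣ Nat.card S) : S.index ∣ 2 := by
  have p5 : Nat.Prime 5 := by norm_num
  have p7 : Nat.Prime 7 := by norm_num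
  obtain ⟨a, m, hm, h1⟩ := IndexFrat.card_normalizer p5 o5 (fun g hg => pow_of_comm h8 p5 le_rfl o5 hg)
  obtain ⟨c, k, hk, h2⟩ := IndexFrat.card_normalizer p7 o7
    (fun g hg => pow_of_comm h8 p7 (by norm_num) o7 hg)
  have e1 := IndexFrat.index_mul p5 S m5 o5 n5
  have e2 := IndexFrat.index_mul p7 S m7 o7 n7
  rw [h1] at e1
  rw [h2] at e2
  have d1 : S.index ∣ 5 ^ a * 4 := by
    have h3 : S.index ∣ 5 ^ a * m := ⟨_, e1.symm⟩
    exact h3.trans (Nat.mul_dvd_mul_left _ hm)
  have hbN : b ∈ normalizer (zpowers y7 : Set G) := by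
    have hle : ∀ x ∈ zpowers y7, b * x * b⁻¹ ∈ zpowers y7 := by
      intro x hx
      obtain ⟨j, rfl⟩ := mem_zpowers_iff.1 hx
      refine mem_zpowers_iff.2 ⟨2 * j, ?_⟩
      have h3 : b * y7 * b⁻¹ = y7 ^ 2 := by rw [hb]; group
      rw [← conj_zpow, h3, zpow_mul]
      norm_cast
    apply Subgroup.mem_normalizer_iff.2
    intro x
    constructor
    · exact hle x
    · intro hx
      -- finite order
      have h3 : ∀ n : ℕ, ∀ x ∈ zpowers y7, b ^ n * x * (b ^ n)⁻¹ ∈ zpowers y7 := by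
        intro n
        induction n with
        | zero => intro x hx; simpa using hx
        | succ n ih =>
          intro x hx
          have := hle _ (ih x hx)
          rw [pow_succ']
          convert this using 1
          group
      have h4 := h3 2 _ hx
      have h5 : b ^ 2 * (b * x * b⁻¹) * (b ^ 2)⁻¹ = b ^ 3 * x * (b ^ 3)⁻¹ := by group
      have h6 : b ^ 3 = 1 := by rw [← ob, pow_orderOf_eq_one]
      rw [h5, h6] at h4
      simpa using h4
  have h3 : 3 ∣ Nat.card (normalizer (zpowers y7 : Set G) ⊓ S : Subgroup G) := by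
    have h4 : orderOf (⟨b, mem_inf.2 ⟨hbN, mb⟩⟩ : (normalizer (zpowers y7 : Set G) ⊓ S : Subgroup G)) = 3 := by
      rw [Subgroup.orderOf_mk, ob]
    rw [← h4]
    exact orderOf_dvd_natCard _
  have d2 : S.index ∣ 7 ^ c * 2 := by
    obtain ⟨t, ht⟩ := h3
    rw [ht] at e2
    have h5 : 3 * S.index ∣ 3 * (7 ^ c * 2) := by
      have h6 : 3 * S.index ∣ 7 ^ c * k := ⟨t, by rw [← e2]; ring⟩
      have h7 : 7 ^ c * k ∣ 7 ^ c * 6 := Nat.mul_dvd_mul_left _ hk
      have h9 : 3 * (7 ^ c * 2) = 7 ^ c * 6 := by ring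
      rw [h9]
      exact h6.trans h7
    exact Nat.dvd_of_mul_dvd_mul_left (by norm_num) h5
  have hcop : Nat.Coprime S.index (7 ^ c) := by
    apply Nat.Coprime.coprime_dvd_left d1
    apply Nat.Coprime.mul_left
    · exact (Nat.Coprime.pow _ _ (by norm_num))
    · exact Nat.Coprime.pow_right _ (by norm_num)
  exact hcop.dvd_of_dvd_mul_left d2

theorem index_eq_one (S : Subgroup G) [S.Normal] {y5 n : G} (m5 : y5 ∈ S) (mn : n ∈ S)
    (o5 : orderOf y5 = 5) (on : orderOf n = 4) (hn : n * y5 = y5 ^ 2 * n)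
    (n5 : ¬ 5 ^ 2 ∣ Nat.card S) (h2 : S.index ∣ 2) : S.index = 1 := by
  have p5 : Nat.Prime 5 := by norm_num
  obtain ⟨a, m, hm, h1⟩ := IndexFrat.card_normalizer p5 o5 (fun g hg => pow_of_comm h8 p5 le_rfl o5 hg)
  have e1 := IndexFrat.index_mul p5 S m5 o5 n5
  rw [h1] at e1
  have hbN : n ∈ normalizer (zpowers y5 : Set G) := by
    have hle : ∀ x ∈ zpowers y5, n * x * n⁻¹ ∈ zpowers y5 := by
      intro x hx
      obtain ⟨j, rfl⟩ := mem_zpowers_iff.1 hx
      refine mem_zpowers_iff.2 ⟨2 * j, ?_⟩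
      have h3 : n * y5 * n⁻¹ = y5 ^ 2 := by rw [hn]; group
      rw [← conj_zpow, h3, zpow_mul]
      norm_cast
    apply Subgroup.mem_normalizer_iff.2
    intro x
    constructor
    · exact hle x
    · intro hx
      have h3 : ∀ k : ℕ, ∀ x ∈ zpowers y5, n ^ k * x * (n ^ k)⁻¹ ∈ zpowers y5 := by
        intro k
        induction k with
        | zero => intro x hx; simpa using hx
        | succ k ih =>
          intro x hx
          have := hle _ (ih x hx)
          rw [pow_succ']
          convert this using 1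
          group
      have h4 := h3 3 _ hx
      have h5 : n ^ 3 * (n * x * n⁻¹) * (n ^ 3)⁻¹ = n ^ 4 * x * (n ^ 4)⁻¹ := by group
      have h6 : n ^ 4 = 1 := by rw [← on, pow_orderOf_eq_one]
      rw [h5, h6] at h4
      simpa using h4
  have h3 : 4 ∣ Nat.card (normalizer (zpowers y5 : Set G) ⊓ S : Subgroup G) := by
    have h4 : orderOf (⟨n, mem_inf.2 ⟨hbN, mn⟩⟩ : (normalizer (zpowers y5 : Set G) ⊓ S : Subgroup G)) = 4 := by
      rw [Subgroup.orderOf_mk, on]
    rw [← h4]
    exact orderOf_dvd_natCard _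
  have d2 : S.index ∣ 5 ^ a := by
    obtain ⟨t, ht⟩ := h3
    rw [ht] at e1
    have h5 : 4 * S.index ∣ 4 * 5 ^ a := by
      have h6 : 4 * S.index ∣ 5 ^ a * m := ⟨t, by rw [← e1]; ring⟩
      have h7 : 5 ^ a * m ∣ 5 ^ a * 4 := Nat.mul_dvd_mul_left _ hm
      have h9 : 4 * 5 ^ a = 5 ^ a * 4 := by ring
      rw [h9]
      exact h6.trans h7
    exact Nat.dvd_of_mul_dvd_mul_left (by norm_num) h5
  have hcop : Nat.Coprime S.index (5 ^ a) := by
    apply Nat.Coprime.coprime_dvd_left h2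
    exact Nat.Coprime.pow_right _ (by norm_num)
  exact Nat.Coprime.eq_one_of_dvd hcop d2

/-- elements of order 5 and 7 outside a solvable radical: no prime `≥ 5` divides `|R|` -/
theorem not_dvd {r : ℕ} (hr : r.Prime) (hr5 : 5 ≤ r) (R : Subgroup G) [R.Normal]
    (E : Subgroup (G ⧸ R)) (hE : Nat.card E = 4) (hE2 : ∀ x ∈ E, x * x = 1)
    (hq : ∃ q : G ⧸ R, orderOf q = 5 ∨ orderOf q = 7) : ¬ r ∣ Nat.card R := by
  intro hd
  obtain ⟨z, hz, -, hcov⟩ := FrobTwo.exists_central hr (by omega)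
    (fun g hg => by have := h8 g; omega) R hd E hE hE2
  obtain ⟨q, hq⟩ := hq
  obtain ⟨c, hc, hcz⟩ := hcov q
  have h1 : orderOf q ∣ orderOf c := by
    rw [← hc]
    exact orderOf_map_dvd (QuotientGroup.mk' R) c
  have h2 : orderOf c = orderOf q := by
    obtain ⟨k, hk⟩ := h1
    have h3 := h8 c
    have h4 : 0 < orderOf c := orderOf_pos c
    have : k = 1 := by
      rcases Nat.lt_or_ge k 2 with h5 | h5
      · interval_cases k
        · omega
        · rfl
      · have : orderOf q * 2 ≤ orderOf q * k := Nat.mul_le_mul_left _ h5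
        omega
    rw [hk, this, mul_one]
  have h3 := h8 (c * z)
  rw [(show Commute c z from hcz).orderOf_mul_eq_mul_orderOf_of_coprime (by
    rw [h2, hz]; rcases hq with h | h <;> rw [h] <;> norm_num), h2, hz] at h3
  omega

/-- `5` and `7` divide the order of the simple normal subgroup -/
theorem dvd_card {r : ℕ} (hr : r.Prime) (hr5 : 5 ≤ r) (S : Subgroup G) [S.Normal]
    (hS : ¬ Group.IsSolvable S) (hd : r ∣ Nat.card G) : r ∣ Nat.card S := by
  by_contra hS5
  have : Fact r.Prime := ⟨hr⟩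
  obtain ⟨y, hy⟩ := exists_prime_orderOf_dvd_card' (G := G) r hd
  have hnil : Group.IsNilpotent S := by
    refine Coclique.nilpotent_of_fpf S hr (by rw [← hy, pow_orderOf_eq_one]) ?_
    intro m hm hc
    by_contra hm1
    have h1 : orderOf m ∣ Nat.card S := by
      have := orderOf_dvd_natCard (⟨m, hm⟩ : S)
      rwa [Subgroup.orderOf_mk] at this
    have hcop : (orderOf y).Coprime (orderOf m) := by
      rw [hy, Nat.Prime.coprime_iff_not_dvd hr]
      exact fun h => hS5 (h.trans h1)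
    have h2 := h8 (y * m)
    rw [(show Commute y m from hc).orderOf_mul_eq_mul_orderOf_of_coprime hcop, hy] at h2
    have h3 : 1 < orderOf m := by
      have h4 : 0 < orderOf m := orderOf_pos m
      have h5 : orderOf m ≠ 1 := fun h => hm1 (orderOf_eq_one_iff.1 h)
      omega
    nlinarith
  exact hS inferInstance

end

/-- The solvable radical is trivial. -/
theorem eq_bot {G : Type u} [Group G] [Finite G] (h8 : ∀ g : G, orderOf g ≤ 8) (R : Subgroup G) [R.Normal]
    (hs : Group.IsSolvable R) (h5 : ¬ 5 ∣ Nat.card R) (h7 : ¬ 7 ∣ Nat.card R)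
    {Γ : Type*} [Group Γ] (f : Γ →* G ⧸ R) (hf : Function.Injective f)
    (hk2 : ∀ (A : Type u) [AddCommGroup A] [Finite A] [DistribMulAction Γ A], (∀ a : A, a + a = 0) →
      H422.Fpf Γ A 5 → H422.Fpf Γ A 7 → ∀ a : A, a = 0)
    {b y : Γ} (hb : orderOf b = 3) (hy : orderOf y = 7) (hby : b * y = y ^ 2 * b) : R = ⊥ := by
  by_contra hR
  obtain ⟨K, hKn, p, hKR, hKne, hp, hab, hpx⟩ := ConjMod.exists_chief R hR hs
  have : Fact p.Prime := ⟨hp⟩
  set V := R.map (QuotientGroup.mk' K) with hV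
  have hVn : V.Normal := Subgroup.Normal.map inferInstance _ (QuotientGroup.mk'_surjective K)
  have h8K := quot_eight h8 K
  have hVne : V ≠ ⊥ := by
    intro h
    rw [hV, Subgroup.map_eq_bot_iff, QuotientGroup.ker_mk'] at h
    exact hKne (le_antisymm hKR h)
  have hpR : p ∣ Nat.card R := by
    have hnt : Nontrivial V := (Subgroup.nontrivial_iff_ne_bot V).2 hVne
    obtain ⟨v, hv⟩ := exists_ne (1 : V)
    have h1 : orderOf v = p := orderOf_eq_prime (Subtype.ext (hpx v v.2)) hv
    have h2 : p ∣ Nat.card V := by rw [← h1]; exact orderOf_dvd_natCard v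
    exact h2.trans (Subgroup.card_map_dvd _ _)
  have hp23 : p = 2 ∨ p = 3 := by
    rcases SimpleEight.prime_dvd h8 hp (hpR.trans (Subgroup.card_subgroup_dvd_card R)) with h | h | rfl | rfl
    · exact Or.inl h
    · exact Or.inr h
    · exact absurd hpR h5
    · exact absurd hpR h7
  let e : (G ⧸ K) ⧸ V ≃* G ⧸ R := QuotientGroup.quotientQuotientEquivQuotient K R hKR
  exact hVne (EightMod.eq_bot h8K V hp23 hab hpx (e.symm.toMonoidHom.comp f)
    (e.symm.injective.comp hf) hk2 hb hy hby)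

end Cfsg.Agent.H366.EightFinal
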