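import Cfsg.Agent.H422.SevenThree
import Cfsg.Agent.Lib.MinNormalNonabelian

/-!
# Chief factors as modules

`exists_chief` : a nontrivial solvable normal subgroup has a top chief factor, elementary abelian.
`conjAct` : the action of `G / V` on an abelian normal subgroup `V`, additively.
-/

set_option autoImplicit false

open Subgroup Cfsg.Agent Cfsg.Agent.H422

namespace Cfsg.Agent.H366.ConjMod

theorem exists_chief {G : Type*} [Group G] [Finite G] (R : Subgroup G) [R.Normal] (hR : R ≠ ⊥)
    (hs : Group.IsSolvable R) :
    ∃ (K : Subgroup G) (_ : K.Normal) (p : ℕ), K ≤ R ∧ K ≠ R ∧ p.Prime ∧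
      (∀ x ∈ R.map (QuotientGroup.mk' K), ∀ y ∈ R.map (QuotientGroup.mk' K), x * y = y * x) ∧
      (∀ x ∈ R.map (QuotientGroup.mk' K), x ^ p = 1) := by
  obtain ⟨K, hK⟩ := (Set.toFinite {N : Subgroup G | N.Normal ∧ N ≤ R ∧ N ≠ R}).exists_maximal
    ⟨⊥, inferInstance, bot_le, fun h => hR h.symm⟩
  obtain ⟨⟨hKn, hKR, hKne⟩, hmax⟩ := hK
  set V := R.map (QuotientGroup.mk' K) with hV
  have hVn : V.Normal := Subgroup.Normal.map inferInstance _ (QuotientGroup.mk'_surjective K)
  have hcom : V.comap (QuotientGroup.mk' K) = R := by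
    rw [hV, Subgroup.comap_map_eq, QuotientGroup.ker_mk', sup_eq_left]
    exact hKR
  have hVne : V ≠ ⊥ := by
    intro h
    apply hKne
    rw [h, MonoidHom.comap_bot, QuotientGroup.ker_mk'] at hcom
    exact hcom
  have hmin : ∀ M : Subgroup (G ⧸ K), M.Normal → M ≤ V → M = ⊥ ∨ M = V := by
    intro M hM hMV
    have h1 : (M.comap (QuotientGroup.mk' K)).Normal := hM.comap _
    have h2 : M.comap (QuotientGroup.mk' K) ≤ R := by
      rw [← hcom]
      exact Subgroup.comap_mono hMV
    have h3 : K ≤ M.comap (QuotientGroup.mk' K) := by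
      intro x hx
      rw [Subgroup.mem_comap]
      have : QuotientGroup.mk' K x = 1 := (QuotientGroup.eq_one_iff x).2 hx
      rw [this]
      exact one_mem _
    have hsurj := QuotientGroup.mk'_surjective K
    by_cases h4 : M.comap (QuotientGroup.mk' K) = R
    · right
      rw [hV, ← h4, Subgroup.map_comap_eq_self_of_surjective hsurj]
    · left
      have h5 : M.comap (QuotientGroup.mk' K) ≤ K := hmax ⟨h1, h2, h4⟩ h3
      have h6 : M.comap (QuotientGroup.mk' K) = K := le_antisymm h5 h3
      rw [← Subgroup.map_comap_eq_self_of_surjective hsurj M, h6, Subgroup.map_eq_bot_iff,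
        QuotientGroup.ker_mk']
  have hVs : Group.IsSolvable V := by
    have : Function.Surjective ((QuotientGroup.mk' K).subgroupMap R) :=
      MonoidHom.subgroupMap_surjective _ _
    exact Group.isSolvable_of_surjective this
  have hab : ∀ x ∈ V, ∀ y ∈ V, x * y = y * x := by
    have hnt : Nontrivial V := (Subgroup.nontrivial_iff_ne_bot V).2 hVne
    have hlt : commutator V < ⊤ := Group.IsSolvable.commutator_lt_top_of_nontrivial V
    have hmn : ((commutator V).map V.subtype).Normal := by
      have : (commutator V).Characteristic := inferInstance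
      infer_instance
    rcases hmin _ hmn (Subgroup.map_subtype_le _) with h | h
    · have h1 : commutator V = ⊥ := (Subgroup.map_eq_bot_iff_of_injective _ V.subtype_injective).1 h
      intro x hx y hy
      have h2 := Subgroup.commutator_mem_commutator (H₁ := (⊤ : Subgroup V)) (H₂ := ⊤) (g₁ := ⟨x, hx⟩)
        (g₂ := ⟨y, hy⟩) trivial trivial
      rw [← commutator_def, h1, Subgroup.mem_bot] at h2
      have h3 := congrArg Subtype.val (commutatorElement_eq_one_iff_mul_comm.1 h2)
      exact h3
    · exfalso
      apply hlt.ne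
      apply Subgroup.map_injective V.subtype_injective
      rw [h, ← MonoidHom.range_eq_map, Subgroup.range_subtype]
  obtain ⟨p, hp, -, hpx⟩ := Lib.MinNormalNonabelian.abelian_structure V hVne hmin
    (fun x hx y hy => hab x hx y hy)
  exact ⟨K, hKn, p, hKR, hKne, hp, hab, hpx⟩

section Act

variable {G : Type*} [Group G] (V : Subgroup G) [V.Normal]

/-- the action of `G / V` on the abelian normal subgroup `V` -/
def conjHom (hab : ∀ x ∈ V, ∀ y ∈ V, x * y = y * x) : (G ⧸ V) →* MulAut V :=
  QuotientGroup.lift V MulAut.conjNormal (by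
    intro x hx
    ext v
    rw [MulAut.conjNormal_apply, hab x hx v v.2, mul_inv_cancel_right]
    rfl)

theorem conjHom_mk (hab : ∀ x ∈ V, ∀ y ∈ V, x * y = y * x) (g : G) (v : V) :
    ((conjHom V hab (QuotientGroup.mk g) v : V) : G) = g * v * g⁻¹ :=
  MulAut.conjNormal_apply _ _

/-- the additive group of the abelian group `V` -/
@[reducible] def commGroup (hab : ∀ x ∈ V, ∀ y ∈ V, x * y = y * x) : CommGroup V :=
  { (inferInstance : Group V) with mul_comm := fun a b => Subtype.ext (hab a a.2 b b.2) }

/-- the additive group of the abelian group `V` -/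
@[reducible] def addCommGroup (hab : ∀ x ∈ V, ∀ y ∈ V, x * y = y * x) : AddCommGroup (Additive V) :=
  @Additive.addCommGroup V (commGroup V hab)

/-- the module -/
@[reducible] def act {Γ : Type*} [Group Γ] (hab : ∀ x ∈ V, ∀ y ∈ V, x * y = y * x) (f : Γ →* G ⧸ V) :
    letI := addCommGroup V hab
    DistribMulAction Γ (Additive V) :=
  letI := addCommGroup V hab
  { smul := fun g v => Additive.ofMul (conjHom V hab (f g) v.toMul)
    one_smul := fun v => by
      change Additive.ofMul (conjHom V hab (f 1) v.toMul) = v
      rw [map_one, map_one]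
      rfl
    mul_smul := fun a b v => by
      change Additive.ofMul (conjHom V hab (f (a * b)) v.toMul) =
        Additive.ofMul (conjHom V hab (f a) (conjHom V hab (f b) v.toMul))
      rw [map_mul, map_mul]
      rfl
    smul_zero := fun a => by
      change Additive.ofMul (conjHom V hab (f a) 1) = 0
      rw [map_one]
      rfl
    smul_add := fun a v w => by
      change Additive.ofMul (conjHom V hab (f a) (v.toMul * w.toMul)) = _
      rw [map_mul]
      rfl }

end Act

end Cfsg.Agent.H366.ConjMod
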