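import Cfsg.Agent.H422.SevenThree

/-!
# Fixed points of `3²` on modules in characteristic two

`fix_zero` : a certificate for `C_V(3²) = 0`.
`card_four` : if `C_V(3²) = 0` then the fixed spaces of the four subgroups of order three are independent.
-/

set_option autoImplicit false

open Cfsg.Agent Cfsg.Agent.H422

namespace Cfsg.Agent.H366.NineFix

variable {Q V : Type*} [Group Q] [AddCommGroup V] [DistribMulAction Q V]

/-- the norm of `⟨x, y⟩ = 3²` -/
def nrm (x y : Q) (v : V) : V :=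
  (v + y • v + y ^ 2 • v) + (x • v + (x * y) • v + (x * y ^ 2) • v) +
    (x ^ 2 • v + (x ^ 2 * y) • v + (x ^ 2 * y ^ 2) • v)

theorem nrm_add (x y : Q) (v w : V) : nrm x y (v + w) = nrm x y v + nrm x y w := by
  unfold nrm
  simp only [smul_add]
  abel

theorem nrm_y {x y : Q} (hy : y ^ 3 = 1) (v : V) : nrm x y (y • v) = nrm x y v := by
  unfold nrm
  have e : ∀ (a b : Q) (w : V), a • b • w = (a * b) • w := fun a b w => (mul_smul a b w).symm
  have h1 : y ^ 2 * y = 1 := by rw [← pow_succ]; exact hy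
  simp only [e]
  rw [h1, ← pow_two, mul_assoc x y y, mul_assoc x (y ^ 2) y, mul_assoc (x ^ 2) y y,
    mul_assoc (x ^ 2) (y ^ 2) y, h1, ← pow_two, mul_one, mul_one, one_smul]
  abel

theorem nrm_comm {x y : Q} (hxy : x * y = y * x) (v : V) : nrm x y v = nrm y x v := by
  unfold nrm
  have h1 : x * y = y * x := hxy
  have h2 : x * y ^ 2 = y ^ 2 * x := ((show Commute x y from hxy).pow_right 2).eq
  have h3 : x ^ 2 * y = y * x ^ 2 := ((show Commute x y from hxy).pow_left 2).eq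
  have h4 : x ^ 2 * y ^ 2 = y ^ 2 * x ^ 2 := ((show Commute x y from hxy).pow_pow 2 2).eq
  rw [h1, h2, h3, h4]
  abel

theorem nrm_x {x y : Q} (hx : x ^ 3 = 1) (hxy : x * y = y * x) (v : V) :
    nrm x y (x • v) = nrm x y v := by
  rw [nrm_comm hxy, nrm_y hx, nrm_comm hxy.symm]

theorem nrm_of_fixed {x y : Q} (h2 : ∀ v : V, v + v = 0) {v : V} (hx : x • v = v) (hy : y • v = v) :
    nrm x y v = v := by
  unfold nrm
  have e : ∀ (a b : Q) (w : V), (a * b) • w = a • b • w := fun a b w => mul_smul a b w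
  simp only [pow_two, e, hx, hy]
  have := h2 v
  calc v + v + v + (v + v + v) + (v + v + v) = (v + v) + (v + v) + (v + v) + (v + v) + v := by abel
    _ = v := by rw [this]; simp

/-- The certificate: `c⁴ = y c y` and `c³ = e c² e` with `e ∈ ⟨x, y⟩` give `C_V(⟨x, y⟩) = 0` in
characteristic two as soon as `c` (of order 5) has no fixed vector. -/
theorem fix_zero {x y c e : Q} (hx : x ^ 3 = 1) (hy : y ^ 3 = 1) (hxy : x * y = y * x)
    (he : e = x * y ^ 2) (hc : c ^ 5 = 1) (h4 : c ^ 4 = y * c * y) (h3 : c ^ 3 = e * c ^ 2 * e)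
    (hfp : ∀ v : V, c • v = v → v = 0) (h2 : ∀ v : V, v + v = 0) {v : V} (hvx : x • v = v)
    (hvy : y • v = v) : v = 0 := by
  have hsum : v + c • v + c ^ 2 • v + c ^ 3 • v + c ^ 4 • v = 0 := by
    apply hfp
    simp only [smul_add, smul_smul, ← pow_succ']
    rw [← pow_two, hc, one_smul]
    abel
  have hey : ∀ w : V, nrm x y (e • w) = nrm x y w := by
    intro w
    rw [he, mul_smul, nrm_x hx hxy, pow_two, mul_smul, nrm_y hy, nrm_y hy]
  have hev : e • v = v := by
    rw [he, mul_smul, pow_two, mul_smul, hvy, hvy, hvx]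
  have a4 : nrm x y (c ^ 4 • v) = nrm x y (c • v) := by
    rw [h4, mul_smul, mul_smul, hvy, nrm_y hy]
  have a3 : nrm x y (c ^ 3 • v) = nrm x y (c ^ 2 • v) := by
    rw [h3, mul_smul, mul_smul, hev, hey]
  have h0 := congrArg (nrm x y) hsum
  simp only [nrm_add] at h0
  rw [a4, a3, nrm_of_fixed h2 hvx hvy] at h0
  have hz : nrm x y (0 : V) = 0 := by unfold nrm; simp
  rw [hz] at h0
  calc v = v + (nrm x y (c • v) + nrm x y (c • v)) + (nrm x y (c ^ 2 • v) + nrm x y (c ^ 2 • v)) := by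
        rw [h2, h2]; simp
    _ = v + nrm x y (c • v) + nrm x y (c ^ 2 • v) + nrm x y (c ^ 2 • v) + nrm x y (c • v) := by abel
    _ = 0 := h0

/-- the norm of `x` -/
theorem three_norm {x z : Q} (hx : x ^ 3 = 1) (hxz : x * z = z * x)
    (h0 : ∀ v : V, x • v = v → z • v = v → v = 0) {v : V} (hv : z • v = v) :
    v + x • v + x ^ 2 • v = 0 := by
  apply h0
  · simp only [smul_add, smul_smul, ← pow_succ']
    rw [← pow_two, hx, one_smul]
    abel
  · have e1 : z • x • v = x • v := by rw [← mul_smul, ← hxz, mul_smul, hv]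
    have e2 : z • x ^ 2 • v = x ^ 2 • v := by
      rw [pow_two, ← mul_smul, ← mul_assoc, ← hxz, mul_assoc, ← hxz, ← mul_assoc, mul_smul, hv]
    rw [smul_add, smul_add, hv, e1, e2]

theorem indep {x z1 z2 z3 : Q} (hx : x ^ 3 = 1) (h1 : x * z1 = z1 * x) (h2' : x * z2 = z2 * x)
    (h3 : x * z3 = z3 * x) (h2 : ∀ v : V, v + v = 0) (f1 : ∀ v : V, x • v = v → z1 • v = v → v = 0)
    (f2 : ∀ v : V, x • v = v → z2 • v = v → v = 0) (f3 : ∀ v : V, x • v = v → z3 • v = v → v = 0)
    {v v1 v2 v3 : V} (hv : x • v = v) (hv1 : z1 • v1 = v1) (hv2 : z2 • v2 = v2) (hv3 : z3 • v3 = v3)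
    (hs : v + v1 + v2 + v3 = 0) : v = 0 := by
  have a1 := three_norm hx h1 f1 hv1
  have a2 := three_norm hx h2' f2 hv2
  have a3 := three_norm hx h3 f3 hv3
  have b0 : x • (v + v1 + v2 + v3) = 0 := by rw [hs, smul_zero]
  have b1 : x ^ 2 • (v + v1 + v2 + v3) = 0 := by rw [hs, smul_zero]
  have hx2 : x ^ 2 • v = v := by rw [pow_two, mul_smul, hv, hv]
  rw [smul_add, smul_add, smul_add, hv] at b0
  rw [smul_add, smul_add, smul_add, hx2] at b1
  calc v = (v + v1 + v2 + v3) + (v + x • v1 + x • v2 + x • v3) +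
        (v + x ^ 2 • v1 + x ^ 2 • v2 + x ^ 2 • v3) - (v1 + x • v1 + x ^ 2 • v1) -
        (v2 + x • v2 + x ^ 2 • v2) - (v3 + x • v3 + x ^ 2 • v3) - (v + v) := by abel
    _ = 0 := by rw [hs, b0, b1, a1, a2, a3, h2 v]; simp

/-- If `C_V(⟨x, y⟩) = 0` the product of the four fixed point spaces has order at most `|V|`. -/
theorem card_four [Finite V] {x y : Q} (hx : x ^ 3 = 1) (hy : y ^ 3 = 1) (hxy : x * y = y * x)
    (h2 : ∀ v : V, v + v = 0) (h0 : ∀ v : V, x • v = v → y • v = v → v = 0) :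
    Nat.card (fx V x) * Nat.card (fx V y) * Nat.card (fx V (x * y)) * Nat.card (fx V (x * y ^ 2)) ≤
      Nat.card V := by
  have hc : Commute x y := hxy
  have e : ∀ (a b : Q) (w : V), (a * b) • w = a • b • w := fun a b w => mul_smul a b w
  have inj : ∀ (g : Q) (v w : V), g • v = g • w → v = w := fun g v w h => smul_left_cancel g h
  have yyy : ∀ v : V, y • y • y • v = v := fun v => by
    rw [← mul_smul, ← mul_smul, ← pow_two, ← pow_succ, hy, one_smul]
  have xxx : ∀ v : V, x • x • x • v = v := fun v => by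
    rw [← mul_smul, ← mul_smul, ← pow_two, ← pow_succ, hx, one_smul]
  have cxy : ∀ v : V, x • y • v = y • x • v := fun v => by rw [← mul_smul, hxy, mul_smul]
  -- the six pairs
  have p1 : ∀ v : V, x • v = v → (x * y) • v = v → v = 0 := by
    intro v a b
    rw [e, cxy, a] at b
    exact h0 v a b
  have p2 : ∀ v : V, x • v = v → (x * y ^ 2) • v = v → v = 0 := by
    intro v a b
    rw [e, pow_two, e, cxy, cxy, a] at b
    refine h0 v a ?_
    have := yyy v
    rw [b] at this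
    exact this
  have p3 : ∀ v : V, y • v = v → (x * y) • v = v → v = 0 := by
    intro v a b
    rw [e, a] at b
    exact h0 v b a
  have p4 : ∀ v : V, y • v = v → (x * y ^ 2) • v = v → v = 0 := by
    intro v a b
    rw [e, pow_two, e, a, a] at b
    exact h0 v b a
  have p5 : ∀ v : V, (x * y) • v = v → (x * y ^ 2) • v = v → v = 0 := by
    intro v a b
    have h3 : x • y • v = x • y • y • v := by
      rw [← e x y v, a]
      rw [pow_two, e, e] at b
      exact b.symm
    have h4 : y • v = v := (inj y _ _ (inj x _ _ h3)).symm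
    exact p3 v h4 a
  have hmem : ∀ (g : Q) (v : V), v ∈ fx V g ↔ g • v = v := fun g v => Iff.rfl
  have hinj : Function.Injective (fun w : (fx V x) × (fx V y) × (fx V (x * y)) × (fx V (x * y ^ 2)) =>
      (w.1 : V) + (w.2.1 : V) + (w.2.2.1 : V) + (w.2.2.2 : V)) := by
    rintro ⟨a0, a1, a2, a3⟩ ⟨c0, c1, c2, c3⟩ h
    simp only at h
    have m0 : x • ((a0 : V) - c0) = (a0 : V) - c0 := sub_mem a0.2 c0.2
    have m1 : y • ((a1 : V) - c1) = (a1 : V) - c1 := sub_mem a1.2 c1.2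
    have m2 : (x * y) • ((a2 : V) - c2) = (a2 : V) - c2 := sub_mem a2.2 c2.2
    have m3 : (x * y ^ 2) • ((a3 : V) - c3) = (a3 : V) - c3 := sub_mem a3.2 c3.2
    have h' : ((a0 : V) - c0) + ((a1 : V) - c1) + ((a2 : V) - c2) + ((a3 : V) - c3) = 0 := by
      rw [← sub_eq_zero.mpr h]
      abel
    have cx : Commute x (x * y) := (Commute.refl x).mul_right hc
    have cx2 : Commute x (x * y ^ 2) := (Commute.refl x).mul_right (hc.pow_right 2)
    have cy : Commute y (x * y) := hc.symm.mul_right (Commute.refl y)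
    have cy2 : Commute y (x * y ^ 2) := hc.symm.mul_right ((Commute.refl y).pow_right 2)
    have cxy' : Commute (x * y) (x * y ^ 2) :=
      ((Commute.refl x).mul_left hc.symm).mul_right ((hc.mul_left (Commute.refl y)).pow_right 2)
    have oxy : (x * y) ^ 3 = 1 := by rw [hc.mul_pow, hx, hy, one_mul]
    have oxy2 : (x * y ^ 2) ^ 3 = 1 := by
      rw [(hc.pow_right 2).mul_pow, hx, ← pow_mul, mul_comm 2 3, pow_mul, hy, one_pow, one_mul]
    have z0 := indep hx hxy cx.eq cx2.eq h2 h0 p1 p2 m0 m1 m2 m3 h'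
    have z1 := indep hy hxy.symm cy.eq cy2.eq h2 (fun v a b => h0 v b a) p3 p4 m1 m0 m2 m3
      (by rw [← h']; abel)
    have z2 := indep oxy cx.eq.symm cy.eq.symm cxy'.eq h2 (fun v a b => p1 v b a)
      (fun v a b => p3 v b a) p5 m2 m0 m1 m3 (by rw [← h']; abel)
    have z3 := indep oxy2 cx2.eq.symm cy2.eq.symm cxy'.eq.symm h2 (fun v a b => p2 v b a)
      (fun v a b => p4 v b a) (fun v a b => p5 v b a) m3 m0 m1 m2 (by rw [← h']; abel)
    rw [sub_eq_zero] at z0 z1 z2 z3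
    rw [Subtype.ext z0, Subtype.ext z1, Subtype.ext z2, Subtype.ext z3]
  have h1 := Nat.card_le_card_of_injective _ hinj
  rw [Nat.card_prod, Nat.card_prod, Nat.card_prod] at h1
  calc _ = Nat.card (fx V x) * (Nat.card (fx V y) * (Nat.card (fx V (x * y)) * Nat.card (fx V (x * y ^ 2)))) := by
        ring
    _ ≤ _ := h1

/-- `7 : 3` for all four subgroups of order three and the certificate: `V = 0`. -/
theorem card_eq_one [Finite V] {x y c e s1 s2 s3 s4 : Q} (hx : x ^ 3 = 1) (hy : y ^ 3 = 1) (hxy : x * y = y * x)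
    (he : e = x * y ^ 2) (hc : c ^ 5 = 1) (h4 : c ^ 4 = y * c * y) (h3 : c ^ 3 = e * c ^ 2 * e)
    (hfp : ∀ v : V, c • v = v → v = 0) (h2 : ∀ v : V, v + v = 0)
    (hs1 : s1 ^ 7 = 1) (ht1 : x * s1 = s1 ^ 2 * x) (hf1 : ∀ v : V, s1 • v = v → v = 0)
    (hs2 : s2 ^ 7 = 1) (ht2 : y * s2 = s2 ^ 2 * y) (hf2 : ∀ v : V, s2 • v = v → v = 0)
    (hs3 : s3 ^ 7 = 1) (ht3 : x * y * s3 = s3 ^ 2 * (x * y)) (hf3 : ∀ v : V, s3 • v = v → v = 0)
    (hs4 : s4 ^ 7 = 1) (ht4 : x * y ^ 2 * s4 = s4 ^ 2 * (x * y ^ 2)) (hf4 : ∀ v : V, s4 • v = v → v = 0) :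
    Nat.card V = 1 := by
  have hcm : Commute x y := hxy
  have oxy : (x * y) ^ 3 = 1 := by rw [hcm.mul_pow, hx, hy, one_mul]
  have oxy2 : (x * y ^ 2) ^ 3 = 1 := by
    rw [(hcm.pow_right 2).mul_pow, hx, ← pow_mul, mul_comm 2 3, pow_mul, hy, one_pow, one_mul]
  have h5 := card_four hx hy hxy h2 (fun v a b => fix_zero hx hy hxy he hc h4 h3 hfp h2 a b)
  have k1 := card_le_pow (V := V) hs1 ht1 hx hf1 h2
  have k2 := card_le_pow (V := V) hs2 ht2 hy hf2 h2
  have k3 := card_le_pow (V := V) hs3 ht3 oxy hf3 h2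
  have k4 := card_le_pow (V := V) hs4 ht4 oxy2 hf4 h2
  have hpos : 0 < Nat.card V := Nat.card_pos
  set n := Nat.card V
  set a := Nat.card (fx V x)
  set b := Nat.card (fx V y)
  set c' := Nat.card (fx V (x * y))
  set d := Nat.card (fx V (x * y ^ 2))
  have h6 : n * n * n * n ≤ n ^ 3 := by
    calc n * n * n * n ≤ a ^ 3 * b ^ 3 * c' ^ 3 * d ^ 3 := by gcongr
      _ = (a * b * c' * d) ^ 3 := by ring
      _ ≤ n ^ 3 := by gcongr
  have h7 : n * n ^ 3 ≤ 1 * n ^ 3 := by
    calc n * n ^ 3 = n * n * n * n := by ring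
      _ ≤ n ^ 3 := h6
      _ = 1 * n ^ 3 := by ring
  have := Nat.le_of_mul_le_mul_right h7 (by positivity)
  omega

end Cfsg.Agent.H366.NineFix
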