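import Cfsg.Agent.H366.TwoFive

/-!
# Two commuting elements of order three modulo a normal 2-subgroup
-/

set_option autoImplicit false

open Subgroup

namespace Cfsg.Agent.H366.NineTwo

theorem nine {A : Type*} [AddCommGroup A] {a00 a01 a02 a10 a11 a12 a20 a21 a22 : A}
    (r1 : a00 + a10 + a20 = 0) (r2 : a00 + a01 + a02 = 0) (r3 : a00 + a11 + a22 = 0)
    (r4 : a00 + a12 + a21 = 0) (r5 : a01 + a11 + a21 = 0) (r6 : a02 + a12 + a22 = 0) :
    (3 : ℕ) • a00 = 0 := by
  calc (3 : ℕ) • a00 = (a00 + a10 + a20) + (a00 + a01 + a02) + (a00 + a11 + a22) + (a00 + a12 + a21)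
      - ((a00 + a10 + a20) + (a01 + a11 + a21) + (a02 + a12 + a22)) := by abel
    _ = 0 := by rw [r1, r2, r3, r4, r5, r6]; simp

theorem nine_mul {A : Type*} [Group A] (hcomm : ∀ a b : A, a * b = b * a)
    {a00 a01 a02 a10 a11 a12 a20 a21 a22 : A}
    (r1 : a00 * a10 * a20 = 1) (r2 : a00 * a01 * a02 = 1) (r3 : a00 * a11 * a22 = 1)
    (r4 : a00 * a12 * a21 = 1) (r5 : a01 * a11 * a21 = 1) (r6 : a02 * a12 * a22 = 1) :
    a00 ^ 3 = 1 := by
  letI : CommGroup A := { (inferInstance : Group A) with mul_comm := hcomm }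
  exact nine (A := Additive A) r1 r2 r3 r4 r5 r6

variable {G : Type*} [Group G] [Finite G]

/-- If `G` has element orders at most five, `R` is a normal 2-subgroup and `G / R` has a subgroup `3²` then
`R = 1`. -/
theorem eq_bot (h5 : ∀ g : G, orderOf g ≤ 5) (R : Subgroup G) [R.Normal] (hR : IsPGroup 2 R)
    {q1 q2 : G ⧸ R} (h1 : orderOf q1 = 3) (h2 : orderOf q2 = 3)
    (h3 : orderOf (q1 * q2) = 3) (h4 : orderOf (q1 * (q2 * q2)) = 3) (hc : q1 * q2 = q2 * q1) :
    R = ⊥ := by
  by_contra hne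
  have hnt : Nontrivial R := (Subgroup.nontrivial_iff_ne_bot R).2 hne
  have hcen : Nontrivial (center R) := hR.center_nontrivial
  obtain ⟨a, ha⟩ := exists_ne (1 : center R)
  obtain ⟨x, rfl⟩ := QuotientGroup.mk_surjective q1
  obtain ⟨y, rfl⟩ := QuotientGroup.mk_surjective q2
  have ox := TwoFive.orderOf_three h5 R h1
  have oy := TwoFive.orderOf_three h5 R h2
  have oxy : orderOf (x * y) = 3 := TwoFive.orderOf_three h5 R (x := x * y) h3
  have oxyy : orderOf (x * (y * y)) = 3 := TwoFive.orderOf_three h5 R (x := x * (y * y)) h4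
  -- the conjugates of `a` by elements of `G`
  let cj : G → center R → center R := fun g b =>
    ⟨⟨g * ((b : R) : G) * g⁻¹, Subgroup.Normal.conj_mem inferInstance _ (b : R).2 g⟩, by
      rw [Subgroup.mem_center_iff]
      intro r
      apply Subtype.ext
      have hr' : g⁻¹ * (r : G) * g ∈ R := by
        have := Subgroup.Normal.conj_mem (inferInstance : R.Normal) _ r.2 g⁻¹
        rwa [inv_inv] at this
      have hb := Subgroup.mem_center_iff.1 b.2 ⟨_, hr'⟩
      have hb' : g⁻¹ * (r : G) * g * ((b : R) : G) = ((b : R) : G) * (g⁻¹ * (r : G) * g) :=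
        congrArg Subtype.val hb
      change (r : G) * (g * ((b : R) : G) * g⁻¹) = (g * ((b : R) : G) * g⁻¹) * r
      calc (r : G) * (g * ((b : R) : G) * g⁻¹) = g * (g⁻¹ * (r : G) * g * ((b : R) : G)) * g⁻¹ := by group
        _ = g * (((b : R) : G) * (g⁻¹ * (r : G) * g)) * g⁻¹ := by rw [hb']
        _ = (g * ((b : R) : G) * g⁻¹) * r := by group⟩
  have cj_val : ∀ g b, (((cj g b : center R) : R) : G) = g * ((b : R) : G) * g⁻¹ := fun _ _ => rfl
  -- depends on the coset only
  have cj_eq : ∀ g h : G, (g : G ⧸ R) = h → cj g a = cj h a := by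
    intro g h hgh
    apply Subtype.ext
    apply Subtype.ext
    rw [cj_val, cj_val]
    have hr : g⁻¹ * h ∈ R := QuotientGroup.eq.1 hgh
    have hb := Subgroup.mem_center_iff.1 a.2 ⟨_, hr⟩
    have hb' : g⁻¹ * h * ((a : R) : G) = ((a : R) : G) * (g⁻¹ * h) := congrArg Subtype.val hb
    calc g * ((a : R) : G) * g⁻¹ = g * (((a : R) : G) * (g⁻¹ * h)) * h⁻¹ := by group
      _ = g * (g⁻¹ * h * ((a : R) : G)) * h⁻¹ := by rw [hb']
      _ = h * ((a : R) : G) * h⁻¹ := by group
  -- triple products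
  have tri : ∀ w : G, orderOf w = 3 → ∀ g : G, cj g a * cj (w * g) a * cj (w * w * g) a = 1 := by
    intro w hw g
    have h6 := TwoFive.triple h5 hR hw (cj g a : R).2
    apply Subtype.ext
    apply Subtype.ext
    change g * ((a : R) : G) * g⁻¹ * ((w * g) * ((a : R) : G) * (w * g)⁻¹) *
      ((w * w * g) * ((a : R) : G) * (w * w * g)⁻¹) = 1
    rw [cj_val] at h6
    rw [← h6]
    group
  have hcm : ((x * y : G) : G ⧸ R) = ((y * x : G) : G ⧸ R) := hc
  have hyyy : ((y * y * y : G) : G ⧸ R) = 1 := by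
    have := pow_orderOf_eq_one y
    rw [oy, pow_succ, pow_two] at this
    rw [this]; rfl
  have e1 : cj (x * y * (x * y)) a = cj (x * x * (y * y)) a := by
    apply cj_eq
    calc ((x * y * (x * y) : G) : G ⧸ R) = x * (((y * x : G) : G ⧸ R)) * y := by
          simp only [QuotientGroup.mk_mul]; group
      _ = x * (((x * y : G) : G ⧸ R)) * y := by rw [hcm]
      _ = ((x * x * (y * y) : G) : G ⧸ R) := by simp only [QuotientGroup.mk_mul]; group
  have e2 : cj (x * (y * y) * (x * (y * y))) a = cj (x * x * y) a := by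
    apply cj_eq
    have k1 : (x : G ⧸ R) * y = y * x := hc
    have k3 : (y : G ⧸ R) * y * y = 1 := hyyy
    have k2 : (y : G ⧸ R) * y * x = x * (y * y) := by
      calc (y : G ⧸ R) * y * x = y * (y * x) := by group
        _ = y * (x * y) := by rw [k1]
        _ = (y * x) * y := by group
        _ = (x * y) * y := by rw [k1]
        _ = x * (y * y) := by group
    calc ((x * (y * y) * (x * (y * y)) : G) : G ⧸ R) = x * ((y : G ⧸ R) * y * x) * (y * y) := by
          simp only [QuotientGroup.mk_mul]; group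
      _ = x * (x * (y * y)) * (y * y) := by rw [k2]
      _ = x * x * (y * y * y) * y := by group
      _ = ((x * x * y : G) : G ⧸ R) := by rw [k3]; simp only [QuotientGroup.mk_mul, mul_one]
  have t1 := tri x ox 1
  have t2 := tri y oy 1
  have t3 := tri (x * y) oxy 1
  have t4 := tri (x * (y * y)) oxyy 1
  have t5 := tri x ox y
  have t6 := tri x ox (y * y)
  rw [mul_one, mul_one] at t1 t2 t3 t4
  rw [e1] at t3
  rw [e2] at t4
  have h8 : (cj 1 a) ^ 3 = 1 := nine_mul
    (fun b c => Subtype.ext (Subgroup.mem_center_iff.1 c.2 b)) t1 t2 t3 t4 t5 t6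
  have h9 : cj 1 a = a := by
    apply Subtype.ext
    apply Subtype.ext
    rw [cj_val]
    group
  rw [h9] at h8
  -- `a` is a 2-element
  apply ha
  have hk := (hR.to_subgroup (center R)) a
  obtain ⟨k, hk⟩ := hk
  have hd1 := orderOf_dvd_of_pow_eq_one h8
  have hd2 := orderOf_dvd_of_pow_eq_one hk
  have hcop : Nat.Coprime 3 (2 ^ k) := Nat.Coprime.pow_right k (by norm_num)
  have := Nat.dvd_gcd hd1 hd2
  rw [hcop] at this
  exact orderOf_eq_one_iff.1 (Nat.dvd_one.1 this)

end Cfsg.Agent.H366.NineTwo
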