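import Mathlib

/-!
# Small facts on `A₅`, `A₆`, four-groups and prime factorisations
-/

set_option autoImplicit false

namespace Cfsg.Agent.H366.PermFacts

open Subgroup Equiv

def x1 : Perm (Fin 5) := swap 0 1 * swap 1 2
def x2 : Perm (Fin 5) := swap 0 1 * swap 1 3 * (swap 0 1 * swap 1 3)
def i1 : Perm (Fin 5) := swap 0 1 * swap 3 4
def i2 : Perm (Fin 5) := swap 1 2 * swap 3 4

def X1 : alternatingGroup (Fin 5) := ⟨x1, by rw [Perm.mem_alternatingGroup]; decide⟩
def X2 : alternatingGroup (Fin 5) := ⟨x2, by rw [Perm.mem_alternatingGroup]; decide⟩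
def I1 : alternatingGroup (Fin 5) := ⟨i1, by rw [Perm.mem_alternatingGroup]; decide⟩
def I2 : alternatingGroup (Fin 5) := ⟨i2, by rw [Perm.mem_alternatingGroup]; decide⟩

theorem ordX1 : orderOf X1 = 3 := by
  rw [X1, Subgroup.orderOf_mk]; exact orderOf_eq_prime (by decide) (by decide)
theorem ordX2 : orderOf X2 = 3 := by
  rw [X2, Subgroup.orderOf_mk]; exact orderOf_eq_prime (by decide) (by decide)
theorem ordX12 : orderOf (X1 * X2) = 3 := by
  rw [← Subgroup.orderOf_coe]; exact orderOf_eq_prime (by decide) (by decide)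
theorem neX : X1 * X2 ≠ X2 * X1 := fun h => absurd (congrArg Subtype.val h) (by decide)
theorem ordI1 : orderOf I1 = 2 := by
  rw [I1, Subgroup.orderOf_mk]; exact orderOf_eq_prime (by decide) (by decide)
theorem ordI2 : orderOf I2 = 2 := by
  rw [I2, Subgroup.orderOf_mk]; exact orderOf_eq_prime (by decide) (by decide)
theorem ordI12 : orderOf (I1 * I2) = 3 := by
  rw [← Subgroup.orderOf_coe]; exact orderOf_eq_prime (by decide) (by decide)

/-- commuting involutions -/
def v1 : Perm (Fin 5) := swap 0 1 * swap 2 3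
def v2 : Perm (Fin 5) := swap 0 2 * swap 1 3
def V1 : alternatingGroup (Fin 5) := ⟨v1, by rw [Perm.mem_alternatingGroup]; decide⟩
def V2 : alternatingGroup (Fin 5) := ⟨v2, by rw [Perm.mem_alternatingGroup]; decide⟩
theorem ordV1 : orderOf V1 = 2 := by
  rw [V1, Subgroup.orderOf_mk]; exact orderOf_eq_prime (by decide) (by decide)
theorem ordV2 : orderOf V2 = 2 := by
  rw [V2, Subgroup.orderOf_mk]; exact orderOf_eq_prime (by decide) (by decide)
theorem commV : V1 * V2 = V2 * V1 := Subtype.ext (by decide)
theorem neV : V1 ≠ V2 := fun h => absurd (congrArg Subtype.val h) (by decide)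

def w1 : Perm (Fin 6) := swap 0 1 * swap 2 3
def w2 : Perm (Fin 6) := swap 0 2 * swap 1 3
def W1 : alternatingGroup (Fin 6) := ⟨w1, by rw [Perm.mem_alternatingGroup]; decide⟩
def W2 : alternatingGroup (Fin 6) := ⟨w2, by rw [Perm.mem_alternatingGroup]; decide⟩
theorem ordW1 : orderOf W1 = 2 := by
  rw [W1, Subgroup.orderOf_mk]; exact orderOf_eq_prime (by decide) (by decide)
theorem ordW2 : orderOf W2 = 2 := by
  rw [W2, Subgroup.orderOf_mk]; exact orderOf_eq_prime (by decide) (by decide)
theorem commW : W1 * W2 = W2 * W1 := Subtype.ext (by decide)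
theorem neW : W1 ≠ W2 := fun h => absurd (congrArg Subtype.val h) (by decide)

/-- commuting elements of order three -/
def t1 : Perm (Fin 6) := swap 0 1 * swap 1 2
def t2 : Perm (Fin 6) := swap 3 4 * swap 4 5
def T1 : alternatingGroup (Fin 6) := ⟨t1, by rw [Perm.mem_alternatingGroup]; decide⟩
def T2 : alternatingGroup (Fin 6) := ⟨t2, by rw [Perm.mem_alternatingGroup]; decide⟩
theorem ordT1 : orderOf T1 = 3 := by
  rw [T1, Subgroup.orderOf_mk]; exact orderOf_eq_prime (by decide) (by decide)
theorem ordT2 : orderOf T2 = 3 := by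
  rw [T2, Subgroup.orderOf_mk]; exact orderOf_eq_prime (by decide) (by decide)
theorem ordT12 : orderOf (T1 * T2) = 3 := by
  rw [← Subgroup.orderOf_coe]; exact orderOf_eq_prime (by decide) (by decide)
theorem ordT122 : orderOf (T1 * (T2 * T2)) = 3 := by
  rw [← Subgroup.orderOf_coe]; exact orderOf_eq_prime (by decide) (by decide)
theorem commT : T1 * T2 = T2 * T1 := Subtype.ext (by decide)

/-- the four-group generated by two commuting involutions -/
def four {Q : Type*} [Group Q] (a b : Q) (ha : a * a = 1) (hb : b * b = 1) (hab : a * b = b * a) :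
    Subgroup Q where
  carrier := {1, a, b, a * b}
  one_mem' := Or.inl rfl
  mul_mem' := by
    have hba : b * a = a * b := hab.symm
    have e1 : a * (a * b) = b := by rw [← mul_assoc, ha, one_mul]
    have e2 : b * (a * b) = a := by rw [← mul_assoc, hba, mul_assoc, hb, mul_one]
    have e3 : a * b * a = b := by rw [mul_assoc, hba, e1]
    have e4 : a * b * b = a := by rw [mul_assoc, hb, mul_one]
    have e5 : a * b * (a * b) = 1 := by rw [← mul_assoc, e3, hb]
    rintro x y (rfl | rfl | rfl | rfl) (rfl | rfl | rfl | rfl) <;>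
      simp [ha, hb, hba, e1, e2, e3, e4, e5]
  inv_mem' := by
    have ia : a⁻¹ = a := by rw [inv_eq_iff_mul_eq_one]; exact ha
    have ib : b⁻¹ = b := by rw [inv_eq_iff_mul_eq_one]; exact hb
    rintro x (rfl | rfl | rfl | rfl)
    · simp
    · rw [ia]; simp
    · rw [ib]; simp
    · rw [mul_inv_rev, ia, ib, ← hab]; simp

theorem exists_four {Q : Type*} [Group Q] {a b : Q} (ha : orderOf a = 2) (hb : orderOf b = 2)
    (hab : a * b = b * a) (hne : a ≠ b) :
    ∃ E : Subgroup Q, Nat.card E = 4 ∧ ∀ x ∈ E, x * x = 1 := by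
  have haa : a * a = 1 := by rw [← pow_two, ← ha, pow_orderOf_eq_one]
  have hbb : b * b = 1 := by rw [← pow_two, ← hb, pow_orderOf_eq_one]
  have ha1 : a ≠ 1 := by rintro rfl; rw [orderOf_one] at ha; omega
  have hb1 : b ≠ 1 := by rintro rfl; rw [orderOf_one] at hb; omega
  refine ⟨four a b haa hbb hab, ?_, ?_⟩
  · classical
    have : ((four a b haa hbb hab : Subgroup Q) : Set Q) = (({1, a, b, a * b} : Finset Q) : Set Q) := by
      ext x
      change x ∈ ({1, a, b, a * b} : Set Q) ↔ x ∈ (({1, a, b, a * b} : Finset Q) : Set Q)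
      simp
    change Nat.card ((four a b haa hbb hab : Subgroup Q) : Set Q) = 4
    rw [this, Nat.card_coe_set_eq, Set.ncard_coe_finset]
    have hab1 : a * b ≠ 1 := by
      intro h
      apply hne
      have := eq_inv_of_mul_eq_one_left h
      rw [this, inv_eq_iff_mul_eq_one, hbb]
    have haba : a ≠ a * b := by
      intro h
      exact hb1 (left_eq_mul.1 h)
    have habb : b ≠ a * b := by
      intro h
      exact ha1 (right_eq_mul.1 h)
    rw [Finset.card_insert_of_notMem, Finset.card_insert_of_notMem, Finset.card_insert_of_notMem,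
      Finset.card_singleton]
    · simpa using habb
    · simp only [Finset.mem_insert, Finset.mem_singleton, not_or]
      exact ⟨hne, haba⟩
    · simp only [Finset.mem_insert, Finset.mem_singleton, not_or]
      exact ⟨ha1.symm, hb1.symm, hab1.symm⟩
  · have e3 : a * b * (a * b) = 1 := by
      calc a * b * (a * b) = a * (b * a) * b := by group
        _ = a * (a * b) * b := by rw [hab]
        _ = (a * a) * (b * b) := by group
        _ = 1 := by rw [haa, hbb, one_mul]
    rintro x (rfl | rfl | rfl | rfl)
    · simp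
    · exact haa
    · exact hbb
    · exact e3

/-- A number with at most two prime divisors. -/
theorem eq_pow_mul_pow {n p q : ℕ} (hn : n ≠ 0) (hp : p.Prime) (hq : q.Prime) (hpq : p ≠ q)
    (h : ∀ r : ℕ, r.Prime → r ∣ n → r = p ∨ r = q) :
    n = p ^ n.factorization p * q ^ n.factorization q := by
  refine Nat.eq_of_factorization_eq hn (mul_ne_zero (pow_ne_zero _ hp.ne_zero) (pow_ne_zero _ hq.ne_zero)) ?_
  intro r
  rw [Nat.factorization_mul (pow_ne_zero _ hp.ne_zero) (pow_ne_zero _ hq.ne_zero), hp.factorization_pow,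
    hq.factorization_pow, Finsupp.add_apply, Finsupp.single_apply, Finsupp.single_apply]
  by_cases h1 : p = r
  · subst h1
    rw [if_pos rfl, if_neg (Ne.symm hpq), add_zero]
  · by_cases h2 : q = r
    · subst h2
      rw [if_neg h1, if_pos rfl, zero_add]
    · rw [if_neg h1, if_neg h2, add_zero, Nat.factorization_eq_zero_iff]
      by_cases hr : r.Prime
      · right; left
        intro hd
        rcases h r hr hd with h3 | h3
        · exact h1 h3.symm
        · exact h2 h3.symm
      · exact Or.inl hr

end Cfsg.Agent.H366.PermFacts
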