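import Cfsg.Agent.S0348
import Cfsg.Agent.S0144
import Cfsg.Agent.S0494
import Cfsg.Agent.S0497
import Cfsg.Agent.S0243
import Cfsg.Agent.H390.PslSpec
import Cfsg.Agent.H366.OuterFive

/-!
# Simple groups with element orders at most five

`simple_cases` : a finite simple non-solvable group in which all elements have order at most five is isomorphic to
`A₅` or `A₆`.
-/

set_option autoImplicit false

open Subgroup Cfsg.Agent

namespace Cfsg.Agent.H366.SimpleFive

variable {S : Type*} [Group S] [Finite S]

/-- prime divisors -/
theorem prime_dvd (h5 : ∀ g : S, orderOf g ≤ 5) {p : ℕ} (hp : p.Prime) (hd : p ∣ Nat.card S) : p ≤ 5 := by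
  have : Fact p.Prime := ⟨hp⟩
  obtain ⟨g, hg⟩ := exists_prime_orderOf_dvd_card' (G := S) p hd
  exact hg ▸ h5 g

theorem isPGroup_cent (h5 : ∀ g : S, orderOf g ≤ 5) {t : S} (ht : orderOf t = 2) :
    IsPGroup 2 (centralizer ({t} : Set S)) := by
  intro g
  have hc : (g : S) * t = t * g := (mem_centralizer_singleton_iff.1 g.2)
  have h4 := OuterFive.four_of_comm h5 ht hc
  exact ⟨2, Subtype.ext (by rw [Subgroup.coe_pow]; exact h4)⟩

theorem simple_cases [IsSimpleGroup S] (hns : ¬ Group.IsSolvable S) (h5 : ∀ g : S, orderOf g ≤ 5) :
    Nonempty (S ≃* alternatingGroup (Fin 5)) ∨ Nonempty (S ≃* alternatingGroup (Fin 6)) := by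
  have hnc : ∃ a b : S, a * b ≠ b * a := by
    by_contra hcon
    push Not at hcon
    exact hns (Group.isSolvable_of_comm hcon)
  have h23 : ∀ a b : ℕ, Nat.card S ≠ 2 ^ a * 3 ^ b := fun a b h =>
    hns (S0144.result 2 3 a b Nat.prime_two Nat.prime_three h)
  rcases S0348.result hnc (fun t ht => isPGroup_cent h5 ht) with h | h | h
  · obtain ⟨F, _, _, hF, ⟨e⟩⟩ := h
    have hcard : Nat.card S = Nat.card (Matrix.ProjectiveSpecialLinearGroup (Fin 2) F) :=
      Nat.card_congr e.toEquiv
    have hord : ∀ g : Matrix.ProjectiveSpecialLinearGroup (Fin 2) F, orderOf g ≤ 5 := by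
      intro g
      rw [← MulEquiv.orderOf_eq e.symm g]
      exact h5 _
    have hform := S0243.result (F := F) rfl 2 le_rfl
    rw [← hcard] at hform
    obtain ⟨p, hcp⟩ := CharP.exists F
    have hp : Fact p.Prime := ⟨CharP.char_is_prime F p⟩
    have hq1 : 1 < Fintype.card F := Fintype.one_lt_card
    have hq : Fintype.card F = 9 ∨ Fintype.card F = 2 ∨ Fintype.card F = 3 ∨ Fintype.card F = 4 ∨
        Fintype.card F = 5 := by
      rcases hF with h9 | ⟨n, hn⟩ | ⟨hpr, -⟩
      · exact Or.inl h9
      · by_cases h4 : 4 ≤ Fintype.card F
        · obtain ⟨g, hg⟩ := H390.PslSpec.exists_add (F := F) (p := p) h4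
          have h6 := hord g
          have hdd : H390.PslSpec.dd (Fintype.card F) = 1 := by
            unfold H390.PslSpec.dd
            have hn0 : n ≠ 0 := by
              rintro rfl
              rw [pow_zero] at hn
              omega
            have h2 : 2 ∣ Fintype.card F := by rw [hn]; exact dvd_pow_self 2 hn0
            have : ¬ 2 ∣ Fintype.card F - 1 := by omega
            exact (Nat.Prime.coprime_iff_not_dvd Nat.prime_two).2 this
          rw [hg, hdd, Nat.div_one] at h6
          omega
        · omega
      · obtain ⟨g, hg⟩ := H390.PslSpec.exists_char (F := F) (p := p)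
        have h6 := hord g
        rw [hg] at h6
        have hpc : Fintype.card F = p := by
          obtain ⟨k, _, hk⟩ := FiniteField.card F p
          have : p ∣ Fintype.card F := by
            rw [hk]; exact dvd_pow_self p k.ne_zero
          exact ((Nat.prime_dvd_prime_iff_eq hp.out hpr).1 this).symm
        rw [← hpc] at h6
        have : Fintype.card F ≠ 4 := by
          intro h4
          rw [h4] at hpr
          exact absurd hpr (by norm_num)
        omega
    rcases hq with h | h | h | h | h
    · right
      rw [h] at hform
      have h360 : Nat.card S = 360 := by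
        simp [Fin.prod_univ_two] at hform
        omega
      exact S0497.result h360
    · exfalso
      rw [h] at hform
      have h6 : Nat.card S = 6 := by
        simp [Fin.prod_univ_two] at hform
        omega
      exact h23 1 1 (by rw [h6]; norm_num)
    · exfalso
      rw [h] at hform
      have h12 : Nat.card S = 12 := by
        simp [Fin.prod_univ_two] at hform
        omega
      exact h23 2 1 (by rw [h12]; norm_num)
    · left
      rw [h] at hform
      have h60 : Nat.card S = 60 := by
        simp [Fin.prod_univ_two] at hform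
        omega
      exact S0494.result h60
    · left
      rw [h] at hform
      have h60 : Nat.card S = 60 := by
        simp [Fin.prod_univ_two] at hform
        omega
      exact S0494.result h60
  · exfalso
    obtain ⟨F, _, _, hF, ⟨e⟩⟩ := h
    have hcard : Nat.card S = Nat.card (Matrix.ProjectiveSpecialLinearGroup (Fin 3) F) :=
      Nat.card_congr e.toEquiv
    have hform := S0243.result (F := F) rfl 3 (by norm_num)
    rw [← hcard, hF] at hform
    have h20160 : Nat.card S = 20160 := by
      simp [Fin.prod_univ_three] at hform
      omega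
    have := prime_dvd h5 (p := 7) (by norm_num) (by rw [h20160]; norm_num)
    omega
  · exfalso
    obtain ⟨-, m, hm, hcard⟩ := h
    -- `q - 1` is coprime to 2, 3, 5
    have hq8 : 8 ≤ 2 ^ (2 * m + 1) := by
      calc 8 = 2 ^ 3 := by norm_num
        _ ≤ 2 ^ (2 * m + 1) := Nat.pow_le_pow_right (by norm_num) (by omega)
    have hne : 2 ^ (2 * m + 1) - 1 ≠ 1 := by omega
    obtain ⟨r, hr, hrd⟩ := Nat.exists_prime_and_dvd hne
    have hr5 := prime_dvd h5 hr (hrd.trans (by rw [hcard]; exact Dvd.intro_left _ rfl))
    have hmod : 2 ^ (2 * m + 1) % 30 = 8 ∨ 2 ^ (2 * m + 1) % 30 = 2 := by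
      clear hcard hrd hne hq8
      induction m with
      | zero => omega
      | succ k ih =>
        have e1 : 2 ^ (2 * (k + 1) + 1) = 4 * 2 ^ (2 * k + 1) := by
          rw [show 2 * (k + 1) + 1 = (2 * k + 1) + 2 by ring, pow_add]; ring
        rw [e1]
        by_cases hk : 1 ≤ k
        · have := ih hk
          omega
        · have : k = 0 := by omega
          subst this
          norm_num
    have hr2 := hr.two_le
    have hr4 : r ≠ 4 := by
      rintro rfl
      exact absurd hr (by norm_num)
    interval_cases r <;> omega

end Cfsg.Agent.H366.SimpleFive
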