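import Cfsg.Agent.H366.TBase
import Cfsg.Agent.H380.AltSpec

/-!
# No alternating group satisfies `TS` (helper366, for S3455)
-/

set_option autoImplicit false

namespace Cfsg.Agent.H366.T

open Cfsg Equiv

/-- a prime divisor of the least common multiple divides a member -/
theorem prime_dvd_lcm {r : ℕ} (hr : r.Prime) (s : Multiset ℕ) (h : r ∣ s.lcm) : ∃ c ∈ s, r ∣ c := by
  induction s using Multiset.induction_on with
  | empty =>
    rw [Multiset.lcm_zero] at h
    exact absurd (Nat.dvd_one.1 h) hr.one_lt.ne'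
  | cons a s ih =>
    rw [Multiset.lcm_cons] at h
    have h1 : r ∣ a * s.lcm := h.trans (Nat.lcm_dvd (dvd_mul_right _ _) (dvd_mul_left _ _))
    rcases (Nat.Prime.dvd_mul hr).1 h1 with h2 | h2
    · exact ⟨a, Multiset.mem_cons_self _ _, h2⟩
    · obtain ⟨c, hc, h3⟩ := ih h2
      exact ⟨c, Multiset.mem_cons_of_mem hc, h3⟩

theorem not_alternating {S : Type*} [Group S] {p f q : ℕ} (h : TS S p q) (A : TA p f q) : ¬ IsAlternating S := by
  rintro ⟨m, hm, ⟨e⟩⟩
  replace h := h.congr e
  clear e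
  have h11 := A.h11
  have hq2 : 11 * q ≤ q ^ 2 := by nlinarith
  obtain ⟨r, hr, hrn⟩ := Nat.exists_prime_and_dvd A.n_one_lt.ne'
  obtain ⟨hr2, hr3, -, -, -, -⟩ := A.prime_facts hr hrn
  have hN2 : ∀ d : ℕ, d ∣ q ^ 2 + q + 1 → ¬ 2 ∣ d := fun d hd h2 =>
    (A.prime_facts Nat.prime_two (h2.trans hd)).1 rfl
  have hN3 : ∀ d : ℕ, d ∣ q ^ 2 + q + 1 → ¬ 3 ∣ d := fun d hd h3 =>
    (A.prime_facts Nat.prime_three (h3.trans hd)).2.1 rfl
  -- `m ≤ r + 3`
  have hmr : m < r + 4 := by
    by_contra hcon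
    have hro : Odd r := hr.odd_of_ne_two hr2
    obtain ⟨g, hg⟩ := H380.AltSpec.exists_orderOf (n := m) {r, 2, 2} (by simp; omega) (by
      intro a ha
      simp only [Multiset.insert_eq_cons, Multiset.mem_cons, Multiset.mem_singleton] at ha
      rcases ha with rfl | rfl | rfl
      · exact hr.two_le
      · exact le_rfl
      · exact le_rfl) (by
      simp only [Multiset.insert_eq_cons, Multiset.sum_cons, Multiset.sum_singleton, Multiset.card_cons,
        Multiset.card_singleton]
      obtain ⟨k, hk⟩ := hro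
      exact ⟨k + 4, by omega⟩)
    have h1 : r ∣ orderOf g := by
      rw [hg]; exact Multiset.dvd_lcm (by simp)
    have h2 : 2 ∣ orderOf g := by
      rw [hg]; exact Multiset.dvd_lcm (by simp)
    exact hN2 _ (h.iso A hr hrn h1) h2
  -- the element of order `n` is a cycle
  have hNm : q ^ 2 + q + 1 ≤ m := by
    obtain ⟨g, hg⟩ := h.ex
    have hg' : (g : Perm (Fin m)).cycleType.lcm = q ^ 2 + q + 1 := by
      rw [Equiv.Perm.lcm_cycleType, ← hg, Subgroup.orderOf_coe]
    obtain ⟨c, hc, hrc⟩ := prime_dvd_lcm hr _ (by rw [hg']; exact hrn)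
    have hsum : (g : Perm (Fin m)).cycleType.sum ≤ m := by
      have := (g : Perm (Fin m)).sum_cycleType_le
      rwa [Fintype.card_fin] at this
    obtain ⟨t, ht⟩ := Multiset.exists_cons_of_mem hc
    have hc2 : r ≤ c := Nat.le_of_dvd (by
      have := Equiv.Perm.two_le_of_mem_cycleType hc
      omega) hrc
    have ht0 : t = 0 := by
      by_contra hne
      obtain ⟨d, hd⟩ := Multiset.exists_mem_of_ne_zero hne
      obtain ⟨t', ht'⟩ := Multiset.exists_cons_of_mem hd
      have hdm : d ∈ (g : Perm (Fin m)).cycleType := by rw [ht]; exact Multiset.mem_cons_of_mem hd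
      have hd2 := Equiv.Perm.two_le_of_mem_cycleType hdm
      rw [ht, ht', Multiset.sum_cons, Multiset.sum_cons] at hsum
      have hdn : d ∣ q ^ 2 + q + 1 := by
        rw [← hg']; exact Multiset.dvd_lcm hdm
      have hd4 : d = 2 ∨ d = 3 := by omega
      rcases hd4 with rfl | rfl
      · exact hN2 _ hdn dvd_rfl
      · exact hN3 _ hdn dvd_rfl
    rw [ht, ht0] at hg' hsum
    simp only [Multiset.lcm_cons, Multiset.lcm_zero, Multiset.sum_cons, Multiset.sum_zero] at hg' hsum
    have : Nat.lcm c 1 = c := Nat.lcm_one_right c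
    rw [← hg']
    change Nat.lcm c 1 ≤ m
    omega
  -- a cycle of length `q² + q - 1`
  have hodd := A.n_odd
  obtain ⟨g, hg⟩ := H380.AltSpec.exists_orderOf (n := m) {q ^ 2 + q - 1} (by simp; omega) (by
    intro a ha
    rw [Multiset.mem_singleton] at ha
    omega) (by
    rw [Multiset.sum_singleton, Multiset.card_singleton]
    exact Nat.even_iff.2 (by omega))
  have hg2 : orderOf g = q ^ 2 + q - 1 := by
    rw [hg, Multiset.lcm_singleton]
    simp
  rcases h.le A g with h1 | h1 <;> omega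

end Cfsg.Agent.H366.T
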