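import Cfsg.Agent.H564.Near
import Cfsg.Agent.H371.Basic
import Cfsg.Agent.H493.PGRed

/-!
# Groups whose element orders are those of `PSL_3(q)`, `q ≡ 3, 11 (mod 12)`: arithmetic (helper366, for S3455)

`TA p f q` : the arithmetic of `q = p ^ f`; `TS S p q` : all element orders of `S` divide `q² + q + 1`, `q² - 1` or
`p (q - 1)`, and `q² + q + 1` is an element order. Then `n = q² + q + 1` is isolated (`TS.iso`) and the largest element
order (`TS.max`), all other element orders are at most `q² - 1` (`TS.le`); those larger than `(q² - 1) / 2` are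
`q² - 1` or `q² - q` (`TS.big`).
-/

set_option autoImplicit false

namespace Cfsg.Agent.H366.T

/-- the arithmetic of `q` -/
structure TA (p f q : ℕ) : Prop where
  hp : p.Prime
  hf : f ≠ 0
  hq : q = p ^ f
  h11 : 11 ≤ q
  h4 : q % 4 = 3
  h3 : q % 3 ≠ 1

/-- the element orders -/
structure TS (S : Type*) [Group S] (p q : ℕ) : Prop where
  ord : ∀ g : S, orderOf g ∣ q ^ 2 + q + 1 ∨ orderOf g ∣ q ^ 2 - 1 ∨ orderOf g ∣ p * (q - 1)
  ex : ∃ g : S, orderOf g = q ^ 2 + q + 1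

namespace TA

variable {p f q : ℕ} (A : TA p f q)

include A

theorem podd : p % 2 = 1 := by
  rcases A.hp.eq_two_or_odd with h | h
  · exfalso
    have h1 := A.h4
    have h2 : 2 ∣ q := by rw [A.hq, h]; exact dvd_pow_self 2 A.hf
    omega
  · exact h

theorem p3 : 3 ≤ p := by
  have := A.hp.two_le
  have := A.podd
  omega

theorem dvd_q : p ∣ q := by rw [A.hq]; exact dvd_pow_self p A.hf

theorem p_le : p ≤ q := Nat.le_of_dvd (by have := A.h11; omega) A.dvd_q

theorem fodd : f % 2 = 1 := by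
  by_contra hcon
  have hf : f = 2 * (f / 2) := by omega
  have h1 : q = (p ^ (f / 2)) ^ 2 := by rw [A.hq, ← pow_mul, mul_comm]; congr 1
  have h2 := A.h4
  rw [h1, Nat.pow_mod] at h2
  have h3 : p ^ (f / 2) % 4 < 4 := Nat.mod_lt _ (by norm_num)
  interval_cases h : p ^ (f / 2) % 4 <;> simp at h2

theorem not_sq (a : ℕ) : q ≠ a ^ 2 := by
  intro h
  have h2 := A.h4
  rw [h, Nat.pow_mod] at h2
  have h3 : a % 4 < 4 := Nat.mod_lt _ (by norm_num)
  interval_cases h : a % 4 <;> simp at h2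

/-- either `p = q` or `p ^ 3 ≤ q` -/
theorem p_cases : p = q ∨ p ^ 3 ≤ q := by
  have h1 := A.fodd
  by_cases h : f = 1
  · left; rw [A.hq, h, pow_one]
  · right
    rw [A.hq]
    exact Nat.pow_le_pow_right A.hp.pos (by omega)

/-- a prime divisor of `q² + q + 1` -/
theorem prime_facts {r : ℕ} (hr : r.Prime) (h : r ∣ q ^ 2 + q + 1) :
    r ≠ 2 ∧ r ≠ 3 ∧ r ≠ p ∧ ¬ r ∣ q - 1 ∧ ¬ r ∣ q ^ 2 - 1 ∧ ¬ r ∣ p * (q - 1) := by
  have h11 := A.h11
  have e2 : q ^ 2 - 1 = (q - 1) * (q + 1) := by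
    obtain ⟨k, rfl⟩ : ∃ k, q = k + 1 := ⟨q - 1, by omega⟩
    have : (k + 1) ^ 2 - 1 = k * (k + 2) := by
      have : (k + 1) ^ 2 = k * (k + 2) + 1 := by ring
      omega
    rw [this]
    rfl
  have hrp : r ≠ p := by
    rintro rfl
    have h1 : r ∣ q ^ 2 + q := dvd_add (dvd_pow A.dvd_q (by norm_num)) A.dvd_q
    have h2 := (Nat.dvd_add_right h1).1 h
    exact hr.one_lt.ne' (Nat.dvd_one.1 h2)
  have hr3 : r ≠ 3 := by
    rintro rfl
    have h1 := A.h3
    have h2 : (q ^ 2 + q + 1) % 3 = 0 := Nat.mod_eq_zero_of_dvd h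
    have h3 : q % 3 < 3 := Nat.mod_lt _ (by norm_num)
    rw [Nat.add_mod, Nat.add_mod (q ^ 2), Nat.pow_mod] at h2
    interval_cases h : q % 3 <;> simp_all
  have hr2 : r ≠ 2 := by
    rintro rfl
    have h2 : (q ^ 2 + q + 1) % 2 = 0 := Nat.mod_eq_zero_of_dvd h
    have h3 : q % 2 < 2 := Nat.mod_lt _ (by norm_num)
    rw [Nat.add_mod, Nat.add_mod (q ^ 2), Nat.pow_mod] at h2
    interval_cases h : q % 2 <;> simp_all
  have hm1 : ¬ r ∣ q - 1 := by
    intro h1
    obtain ⟨k, rfl⟩ : ∃ k, q = k + 1 := ⟨q - 1, by omega⟩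
    have e : (k + 1) ^ 2 + (k + 1) + 1 = k * (k + 3) + 3 := by ring
    rw [e] at h
    have h2 := (Nat.dvd_add_right (dvd_mul_of_dvd_left h1 (k + 3))).1 h
    exact hr3 ((Nat.prime_dvd_prime_iff_eq hr Nat.prime_three).1 h2)
  have hm2 : ¬ r ∣ q + 1 := by
    intro h1
    have e : q ^ 2 + q + 1 = q * (q + 1) + 1 := by ring
    rw [e] at h
    have h2 := (Nat.dvd_add_right (dvd_mul_of_dvd_right h1 q)).1 h
    exact hr.one_lt.ne' (Nat.dvd_one.1 h2)
  refine ⟨hr2, hr3, hrp, hm1, ?_, ?_⟩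
  · rw [e2]
    intro h1
    rcases (Nat.Prime.dvd_mul hr).1 h1 with h1 | h1
    · exact hm1 h1
    · exact hm2 h1
  · intro h1
    rcases (Nat.Prime.dvd_mul hr).1 h1 with h1 | h1
    · exact hrp ((Nat.prime_dvd_prime_iff_eq hr A.hp).1 h1)
    · exact hm1 h1

theorem n_odd : (q ^ 2 + q + 1) % 2 = 1 := by
  by_contra h
  exact (A.prime_facts Nat.prime_two (Nat.dvd_of_mod_eq_zero (by omega))).1 rfl

theorem n_ge : 133 ≤ q ^ 2 + q + 1 := by
  have := A.h11
  nlinarith

theorem n_one_lt : 1 < q ^ 2 + q + 1 := by have := A.n_ge; omega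

omit A in
/-- `m` without prime divisors of `n` is coprime to `n` -/
theorem coprime_of {m : ℕ} (h : ∀ r : ℕ, r.Prime → r ∣ q ^ 2 + q + 1 → ¬ r ∣ m) : Nat.Coprime (q ^ 2 + q + 1) m := by
  by_contra hcon
  obtain ⟨r, hr, h1, h2⟩ := Nat.Prime.not_coprime_iff_dvd.1 hcon
  exact h r hr h1 h2

end TA

namespace TS

variable {S : Type*} [Group S] {p f q : ℕ}

theorem congr {T : Type*} [Group T] (e : S ≃* T) (h : TS S p q) : TS T p q where
  ord g := by
    have := h.ord (e.symm g)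
    rwa [MulEquiv.orderOf_eq] at this
  ex := by
    obtain ⟨g, hg⟩ := h.ex
    exact ⟨e g, by rw [MulEquiv.orderOf_eq, hg]⟩

variable (h : TS S p q) (A : TA p f q)

include h A

theorem orderOf_pos (g : S) : 0 < orderOf g := by
  have h11 := A.h11
  rcases h.ord g with h1 | h1 | h1
  · exact Nat.pos_of_dvd_of_pos h1 (by positivity)
  · refine Nat.pos_of_dvd_of_pos h1 ?_
    have : 2 ≤ q ^ 2 := by nlinarith
    omega
  · exact Nat.pos_of_dvd_of_pos h1 (Nat.mul_pos A.hp.pos (by omega))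

/-- **Isolation.** -/
theorem iso {r : ℕ} (hr : r.Prime) (hrn : r ∣ q ^ 2 + q + 1) {g : S} (hg : r ∣ orderOf g) :
    orderOf g ∣ q ^ 2 + q + 1 := by
  obtain ⟨-, -, -, -, h1, h2⟩ := A.prime_facts hr hrn
  rcases h.ord g with h3 | h3 | h3
  · exact h3
  · exact absurd (hg.trans h3) h1
  · exact absurd (hg.trans h3) h2

/-- all orders are at most `n`; those different from `n` are at most `q² - 1`. -/
theorem le (g : S) : orderOf g = q ^ 2 + q + 1 ∨ orderOf g ≤ q ^ 2 - 1 := by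
  have h11 := A.h11
  have hq2 : 1 ≤ q ^ 2 := Nat.one_le_pow _ _ (by omega)
  rcases h.ord g with h3 | h3 | h3
  · by_cases he : orderOf g = q ^ 2 + q + 1
    · exact Or.inl he
    · right
      obtain ⟨k, hk⟩ := h3
      have hk2 : 2 ≤ k := by
        rcases k with _ | _ | k
        · simp at hk
        · rw [zero_add, mul_one] at hk; exact absurd hk.symm he
        · omega
      have h4 : 2 * orderOf g ≤ q ^ 2 + q + 1 := by rw [hk]; nlinarith [h.orderOf_pos A g]
      have h5 : q + 1 + 2 < q ^ 2 := by nlinarith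
      omega
  · right
    exact Nat.le_of_dvd (by have : 2 ≤ q ^ 2 := by nlinarith
                            omega) h3
  · right
    have h4 := Nat.le_of_dvd (Nat.mul_pos A.hp.pos (by omega)) h3
    have h5 : p * (q - 1) ≤ q * (q - 1) := Nat.mul_le_mul_right _ A.p_le
    have h6 : q * (q - 1) = q ^ 2 - q := by
      rw [Nat.mul_sub, mul_one, pow_two]
    have h7 : q ≤ q ^ 2 := by nlinarith
    omega

theorem max (g : S) : orderOf g ≤ q ^ 2 + q + 1 := by
  rcases h.le A g with h1 | h1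
  · exact h1.le
  · omega

omit h A in
theorem eq_of_dvd {o N : ℕ} (hN0 : 0 < N) (hd : o ∣ N) (hN : N < 2 * o) : o = N := by
  obtain ⟨k, rfl⟩ := hd
  have hk1 : k ≠ 0 := by rintro rfl; simp at hN0
  have hk2 : k < 2 := by
    by_contra hcon
    have : 2 ≤ k := by omega
    nlinarith
  have : k = 1 := by omega
  rw [this, mul_one]

/-- orders larger than `(q² - 1) / 2` -/
theorem big (g : S) (hg : q ^ 2 - 1 < 2 * orderOf g) :
    orderOf g = q ^ 2 + q + 1 ∨ orderOf g = q ^ 2 - 1 ∨ (p = q ∧ orderOf g = q ^ 2 - q) := by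
  have h11 := A.h11
  have hq2 : 121 ≤ q ^ 2 := by nlinarith
  have hqq : 11 * q ≤ q ^ 2 := by nlinarith
  have hqq' : q * (q - 1) = q ^ 2 - q := by rw [Nat.mul_sub, mul_one, pow_two]
  rcases h.ord g with h3 | h3 | h3
  · left
    obtain ⟨k, hk⟩ := id h3
    have hk1 : k ≠ 0 := by rintro rfl; simp at hk
    have hk2 : k < 3 := by
      by_contra hcon
      have h4 : 3 * orderOf g ≤ q ^ 2 + q + 1 := by rw [hk]; nlinarith [h.orderOf_pos A g]
      omega
    have hk3 : k ≠ 2 := by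
      rintro rfl
      have := A.n_odd
      omega
    have : k = 1 := by omega
    rw [hk, this, mul_one]
  · right; left
    exact eq_of_dvd (by omega) h3 hg
  · right; right
    rcases A.p_cases with h4 | h4
    · refine ⟨h4, ?_⟩
      rw [h4] at h3
      rw [← hqq']
      exact eq_of_dvd (Nat.mul_pos (by omega) (by omega)) h3 (by rw [hqq']; omega)
    · exfalso
      have h5 := Nat.le_of_dvd (Nat.mul_pos A.hp.pos (by omega)) h3
      have h6 := A.p3
      have h7 : 9 * p ≤ q := by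
        refine le_trans ?_ h4
        have : p ^ 3 = p * p * p := by ring
        rw [this]
        nlinarith
      have h8 : 9 * (p * (q - 1)) ≤ q * (q - 1) := by
        rw [← mul_assoc]; exact Nat.mul_le_mul_right _ h7
      omega

/-- adjacent numbers -/
theorem dvd_of_mul {a b : ℕ} (ha : a.Prime) (han : a ∣ q ^ 2 + q + 1) (hg : ∃ g : S, orderOf g = a * b) :
    b ∣ q ^ 2 + q + 1 := by
  obtain ⟨g, hg⟩ := hg
  have h1 := h.iso A ha han (g := g) (by rw [hg]; exact dvd_mul_right a b)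
  rw [hg] at h1
  exact (dvd_mul_left b a).trans h1

/-- connected primes, relation of `H371` -/
theorem pconn {r s : ℕ} (hrn : r ∣ q ^ 2 + q + 1) (hc : H371.PConn S r s) : s ∣ q ^ 2 + q + 1 := by
  induction hc with
  | refl => exact hrn
  | tail _ h2 ih => exact h.dvd_of_mul A h2.1 ih h2.2.2.2

/-- connected primes, relation of `H493` -/
theorem rconn {r s : ℕ} (hrn : r ∣ q ^ 2 + q + 1) (hc : H493.PG.Conn S r s) : s ∣ q ^ 2 + q + 1 := by
  induction hc with
  | refl => exact hrn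
  | tail _ h2 ih => exact h.dvd_of_mul A h2.1 ih h2.2.2.2

/-- connected primes, relation of `H94` -/
theorem conn {r s : ℕ} (hrn : r ∣ q ^ 2 + q + 1) (hc : H94.PG.Conn S r s) : s ∣ q ^ 2 + q + 1 := by
  induction hc with
  | refl => exact hrn
  | @tail b c _ h2 ih =>
    obtain ⟨hb, hc', hbc, x, y, hx, hy, hxy⟩ := h2
    refine h.dvd_of_mul A hb ih ⟨x * y, ?_⟩
    rw [hxy.orderOf_mul_eq_mul_orderOf_of_coprime (by rw [hx, hy]; exact (Nat.coprime_primes hb hc').2 hbc), hx, hy]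

theorem not_conn_two {r : ℕ} (hrn : r ∣ q ^ 2 + q + 1) : ¬ H94.PG.Conn S r 2 := fun hc =>
  (A.prime_facts Nat.prime_two (h.conn A hrn hc)).1 rfl

theorem not_pconn_two {r : ℕ} (hrn : r ∣ q ^ 2 + q + 1) : ¬ H371.PConn S r 2 := fun hc =>
  (A.prime_facts Nat.prime_two (h.pconn A hrn hc)).1 rfl

theorem not_near {r : ℕ} (hrn : r ∣ q ^ 2 + q + 1) : ¬ H564.NearTwo.Near S r := fun hc =>
  h.not_conn_two A hrn hc.conn

/-- an order not coprime to `n` -/
theorem dvd_of_not_coprime (g : S) (hg : ¬ Nat.Coprime (q ^ 2 + q + 1) (orderOf g)) :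
    orderOf g ∣ q ^ 2 + q + 1 := by
  obtain ⟨r, hr, h1, h2⟩ := Nat.Prime.not_coprime_iff_dvd.1 hg
  exact h.iso A hr h1 h2

/-- an order divisible by `n` -/
theorem eq_of_dvd_order (g : S) (hg : q ^ 2 + q + 1 ∣ orderOf g) : orderOf g = q ^ 2 + q + 1 := by
  obtain ⟨r, hr, h1⟩ := Nat.exists_prime_and_dvd A.n_one_lt.ne'
  exact Nat.dvd_antisymm (h.iso A hr h1 (h1.trans hg)) hg

/-- orders coprime to `n` -/
theorem dvd_of_coprime (g : S) (hg : Nat.Coprime (q ^ 2 + q + 1) (orderOf g)) :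
    orderOf g ∣ q ^ 2 - 1 ∨ orderOf g ∣ p * (q - 1) := by
  rcases h.ord g with h1 | h1
  · left
    have : orderOf g = 1 := Nat.eq_one_of_dvd_coprimes hg h1 (dvd_refl _)
    rw [this]; exact one_dvd _
  · exact h1

end TS

end Cfsg.Agent.H366.T
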