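import Mathlib
import Cfsg.Agent.H375.LThree.OuterMain
import Cfsg.Agent.H366.TBase

/-!
# Groups between `PSL(3, q)` and its automorphism group, `q ≡ 3, 11 (mod 12)` (helper366, for S3455)

`eq_top`: an almost simple group with socle `PSL(3, q)` whose element orders are those of `PSL(3, q)` is `PSL(3, q)`.
-/

set_option autoImplicit false
set_option linter.unusedSectionVars false

namespace Cfsg.Agent.H366.T

/-- the element orders of `PSL_3(q)` -/
def Om (p q n : ℕ) : Prop := n ∣ q ^ 2 + q + 1 ∨ n ∣ q ^ 2 - 1 ∨ n ∣ p * (q - 1)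

theorem Om.of_dvd {p q m n : ℕ} (h : Om p q n) (hd : m ∣ n) : Om p q m := by
  rcases h with h | h | h
  · exact Or.inl (hd.trans h)
  · exact Or.inr (Or.inl (hd.trans h))
  · exact Or.inr (Or.inr (hd.trans h))

namespace TA

variable {p f q : ℕ} (A : TA p f q)

include A

theorem p_not_dvd_sq : ¬ p ∣ q ^ 2 - 1 := by
  intro h
  have h1 : p ∣ q ^ 2 := dvd_pow A.dvd_q (by norm_num)
  have h11 := A.h11
  have h2 : 1 ≤ q ^ 2 := Nat.one_le_pow _ _ (by omega)
  have h3 := (Nat.dvd_sub h1 h)
  have h4 : q ^ 2 - (q ^ 2 - 1) = 1 := by omega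
  rw [h4] at h3
  exact A.hp.one_lt.ne' (Nat.dvd_one.1 h3)

theorem p_not_dvd_n : ¬ p ∣ q ^ 2 + q + 1 := fun h => (A.prime_facts A.hp h).2.2.1 rfl

theorem not_four_p {n : ℕ} (h4 : 4 * p ∣ n) : ¬ Om p q n := by
  intro h
  have h := h.of_dvd h4
  rcases h with h | h | h
  · exact A.p_not_dvd_n ((dvd_mul_left _ _).trans h)
  · exact A.p_not_dvd_sq ((dvd_mul_left _ _).trans h)
  · rw [mul_comm p] at h
    have h1 : 4 ∣ q - 1 := Nat.dvd_of_mul_dvd_mul_right A.hp.pos h
    have := A.h4
    have := A.h11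
    omega

theorem dvd_of_mul_p {l : ℕ} (h : Om p q (l * p)) : l ∣ q - 1 := by
  rcases h with h | h | h
  · exact absurd ((dvd_mul_left _ _).trans h) A.p_not_dvd_n
  · exact absurd ((dvd_mul_left _ _).trans h) A.p_not_dvd_sq
  · rw [mul_comm p] at h
    exact Nat.dvd_of_mul_dvd_mul_right A.hp.pos h

theorem not_mul_n {l r : ℕ} (hr : r.Prime) (hrn : r ∣ q ^ 2 + q + 1)
    (hln : ¬ l ∣ q ^ 2 + q + 1) : ¬ Om p q (l * r) := by
  obtain ⟨-, -, -, -, h1, h2⟩ := A.prime_facts hr hrn
  rintro (h | h | h)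
  · exact hln ((dvd_mul_right _ _).trans h)
  · exact h1 ((dvd_mul_left _ _).trans h)
  · exact h2 ((dvd_mul_left _ _).trans h)

theorem sub_cop : Nat.Coprime 3 (q - 1) := by
  have h3 := A.h3
  have h11 := A.h11
  rcases Nat.coprime_or_dvd_of_prime Nat.prime_three (q - 1) with h | h
  · exact h
  · omega

end TA

open Matrix Cfsg.Agent.ClassicalGeometry.AutPSL.Auto Cfsg.Agent.ClassicalGeometry.AutPSL.Root
  Cfsg.Agent.ClassicalGeometry.AutPSL.Main Cfsg.Agent.H375.LThree

section field

variable {F : Type*} [Field F] [Fintype F]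

/-- The degree over the fixed field. -/
theorem card_fixed (σ : F ≃+* F) :
    Fintype.card F = Nat.card (FixedPoints.subfield (Subgroup.zpowers σ) F) ^ orderOf σ := by
  classical
  have hfin : Finite (F ≃+* F) := Finite.of_injective (fun f : F ≃+* F => (f : F → F)) DFunLike.coe_injective
  let _ : Fintype (Subgroup.zpowers σ) := Fintype.ofFinite _
  have h1 := FixedPoints.finrank_eq_card (Subgroup.zpowers σ) F
  let _ : Fintype (FixedPoints.subfield (Subgroup.zpowers σ) F) := Fintype.ofFinite _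
  have h2 := Module.card_eq_pow_finrank (K := FixedPoints.subfield (Subgroup.zpowers σ) F) (V := F)
  rw [h2, h1, ← Nat.card_eq_fintype_card, ← Nat.card_eq_fintype_card, Nat.card_zpowers]

variable {p f : ℕ} (A : TA p f (Fintype.card F))

include A

theorem cube {c : F} (hc : c ≠ 0) : ∃ f : F, f ≠ 0 ∧ c = f ^ 3 := by
  classical
  have hcop : (Nat.card Fˣ).Coprime 3 := by
    rw [Nat.card_units, Nat.card_eq_fintype_card, Nat.coprime_comm]; exact A.sub_cop
  obtain ⟨w, hw⟩ := (powCoprime hcop).surjective (Units.mk0 c hc)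
  refine ⟨w, w.ne_zero, ?_⟩
  have := congrArg Units.val hw
  rw [powCoprime_apply, Units.val_pow_eq_pow_val, Units.val_mk0] at this
  exact this.symm

theorem sq_aut {σ : F ≃+* F} (h : σ * σ = 1) : σ = 1 := by
  by_contra hne
  have h2 : orderOf σ = 2 := orderOf_eq_prime (by rw [pow_two, h]) hne
  have h3 := card_fixed σ
  rw [h2] at h3
  exact A.not_sq _ h3

variable (B : Subgroup (MulAut (Matrix.ProjectiveSpecialLinearGroup (Fin 3) F)))
  (hB : (MulAut.conj : Matrix.ProjectiveSpecialLinearGroup (Fin 3) F →* _).range ≤ B)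

include hB

theorem mem_any {C : GL (Fin 3) F} {X : MulAut (Matrix.SpecialLinearGroup (Fin 3) F)}
    (h : lift (cj C * X) ∈ B) (D : GL (Fin 3) F) : lift (cj D * X) ∈ B := by
  have hC0 : (C : Matrix (Fin 3) (Fin 3) F).det ≠ 0 := (Matrix.isUnits_det_units C).ne_zero
  have hD0 : (D : Matrix (Fin 3) (Fin 3) F).det ≠ 0 := (Matrix.isUnits_det_units D).ne_zero
  obtain ⟨f, hf, hcf⟩ := cube A (c := (D : Matrix (Fin 3) (Fin 3) F).det * ((C : Matrix (Fin 3) (Fin 3) F).det)⁻¹)
    (mul_ne_zero hD0 (inv_ne_zero hC0))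
  exact mem_of_det B hB h hf (by rw [← hcf]; field_simp)

theorem cj_mem (D : GL (Fin 3) F) : lift (cj D) ∈ B := by
  have h : lift (cj (1 : GL (Fin 3) F) * 1) ∈ B := by
    rw [map_one, one_mul, map_one]; exact B.one_mem
  have := mem_any A B hB h D
  rwa [mul_one] at this

end field

section singer

/-- a Singer cycle -/
theorem exists_singer_gl (F : Type*) [Field F] [Finite F] {m : ℕ} (hm : m ≠ 0) :
    ∃ A : GL (Fin m) F, orderOf A = Nat.card F ^ m - 1 := by
  classical
  obtain ⟨p, hp⟩ := CharP.exists F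
  have : Fact p.Prime := ⟨CharP.char_is_prime F p⟩
  have hm0 : NeZero m := ⟨hm⟩
  let K := FiniteField.Extension F p m
  have hKcard : Nat.card K = Nat.card F ^ m := FiniteField.natCard_extension F p m
  let b := Module.finBasisOfFinrankEq F K (FiniteField.finrank_extension F p m)
  obtain ⟨y, hy⟩ := IsCyclic.exists_generator (α := Kˣ)
  have hordy : orderOf y = Nat.card F ^ m - 1 := by
    rw [orderOf_eq_card_of_forall_mem_zpowers hy, Nat.card_units, hKcard]
  refine ⟨Units.map (Algebra.leftMulMatrix b).toRingHom.toMonoidHom y, ?_⟩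
  rw [orderOf_injective _ ?_ y, hordy]
  apply Units.map_injective
  exact Algebra.leftMulMatrix_injective b

/-- An element of `SL_3` of given order dividing `q² + q + 1`. -/
theorem exists_gl_dvd (F : Type*) [Field F] [Finite F] {r : ℕ} (hr : r ∣ Nat.card F ^ 2 + Nat.card F + 1) :
    ∃ A : GL (Fin 3) F, orderOf A = r ∧ (A : Matrix (Fin 3) (Fin 3) F).det = 1 := by
  obtain ⟨A, hA⟩ := exists_singer_gl F (m := 3) (by norm_num)
  have h1 : 1 < Nat.card F := Finite.one_lt_card
  obtain ⟨k, hk⟩ := hr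
  set q := Nat.card F with hq
  have e : q ^ 3 - 1 = (q - 1) * k * r := by
    obtain ⟨u, hu⟩ : ∃ u, q = u + 1 := ⟨q - 1, by omega⟩
    have e1 : q ^ 3 = u * (q ^ 2 + q + 1) + 1 := by rw [hu]; ring
    have e2 : q - 1 = u := by omega
    rw [e1, hk, Nat.add_sub_cancel, e2]
    ring
  have hr0 : 0 < (q - 1) * k := by
    apply Nat.mul_pos (by omega)
    apply Nat.pos_of_ne_zero
    rintro rfl
    simp at hk
  refine ⟨A ^ ((q - 1) * k), ?_, ?_⟩
  · rw [orderOf_pow' A hr0.ne', hA, e, Nat.gcd_mul_right_left, Nat.mul_div_cancel_left _ hr0]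
  · rw [Units.val_pow_eq_pow_val, det_pow, pow_mul]
    have h2 : (A : Matrix (Fin 3) (Fin 3) F).det ^ (q - 1) = 1 := by
      have : Fintype F := Fintype.ofFinite F
      rw [hq, Nat.card_eq_fintype_card]
      exact FiniteField.pow_card_sub_one_eq_one _ (Matrix.isUnits_det_units A).ne_zero
    rw [h2, one_pow]

end singer

section main

variable {F : Type*} [Field F] [Fintype F]

theorem triv {C : GL (Fin 3) F} {σ : F ≃+* F} (h : lift (cj C * fld σ) = 1) :
    (∃ r : F, scalar (Fin 3) r = (C : Matrix (Fin 3) (Fin 3) F)) ∧ σ = 1 := by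
  have h1 : lift (cj C * fld σ) = lift (fld (1 : F ≃+* F)) := by rw [h, map_one, map_one]
  exact injective_aux h1

theorem triv' {C : GL (Fin 3) F} (h : lift (cj C) = 1) :
    ∃ r : F, scalar (Fin 3) r = (C : Matrix (Fin 3) (Fin 3) F) := by
  have h1 : lift (cj C * fld (1 : F ≃+* F)) = 1 := by rw [map_one fld, mul_one, h]
  exact (triv h1).1

theorem comm_fld {C : GL (Fin 3) F} {σ : F ≃+* F} (h : sg σ C = C) :
    Commute (lift (cj C)) (lift (fld σ) : MulAut (Matrix.ProjectiveSpecialLinearGroup (Fin 3) F)) := by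
  show _ * _ = _ * _
  rw [← map_mul, ← map_mul, fld_mul_cj, h]

/-- a unipotent element -/
def mu (F : Type*) [Field F] : GL (Fin 3) F :=
  Matrix.GeneralLinearGroup.mkOfDetNeZero !![1, 1, 0; 0, 1, 0; 0, 0, 1] (by
    have : (!![1, 1, 0; 0, 1, 0; 0, 0, 1] : Matrix (Fin 3) (Fin 3) F).det = 1 := by
      rw [det_fin_three]; simp
    rw [this]; exact one_ne_zero)

theorem coe_mu : (mu F : Matrix (Fin 3) (Fin 3) F) = !![1, 1, 0; 0, 1, 0; 0, 0, 1] := rfl

theorem coe_mu_pow (n : ℕ) : ((mu F ^ n : GL (Fin 3) F) : Matrix (Fin 3) (Fin 3) F) =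
    !![1, (n : F), 0; 0, 1, 0; 0, 0, 1] := by
  induction n with
  | zero =>
    ext i j
    fin_cases i <;> fin_cases j <;> simp
  | succ n ih =>
    rw [pow_succ, Units.val_mul, ih, coe_mu]
    ext i j
    fin_cases i <;> fin_cases j <;> simp [Matrix.mul_apply, Fin.sum_univ_succ]
    ring

/-- an element of order four -/
def mi (F : Type*) [Field F] : GL (Fin 3) F :=
  Matrix.GeneralLinearGroup.mkOfDetNeZero !![0, 1, 0; -1, 0, 0; 0, 0, 1] (by
    have : (!![0, 1, 0; -1, 0, 0; 0, 0, 1] : Matrix (Fin 3) (Fin 3) F).det = 1 := by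
      rw [det_fin_three]; simp
    rw [this]; exact one_ne_zero)

theorem coe_mi : (mi F : Matrix (Fin 3) (Fin 3) F) = !![0, 1, 0; -1, 0, 0; 0, 0, 1] := rfl

theorem coe_mi_sq : ((mi F ^ 2 : GL (Fin 3) F) : Matrix (Fin 3) (Fin 3) F) = !![-1, 0, 0; 0, -1, 0; 0, 0, 1] := by
  rw [pow_two, Units.val_mul, coe_mi]
  ext i j
  fin_cases i <;> fin_cases j <;> simp [Matrix.mul_apply, Fin.sum_univ_succ]

theorem mi_four : mi F ^ 4 = 1 := by
  apply Units.ext
  have : mi F ^ 4 = mi F ^ 2 * mi F ^ 2 := by rw [← pow_add]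
  rw [this, Units.val_mul, coe_mi_sq]
  ext i j
  fin_cases i <;> fin_cases j <;> simp [Matrix.mul_apply, Fin.sum_univ_succ]

theorem orderOf_mu {p : ℕ} [hp : Fact p.Prime] [CharP F p] : orderOf (lift (cj (mu F))) = p := by
  apply orderOf_eq_prime
  · rw [← map_pow, ← map_pow]
    have : mu F ^ p = 1 := by
      apply Units.ext
      rw [coe_mu_pow, CharP.cast_eq_zero]
      ext i j
      fin_cases i <;> fin_cases j <;> simp
    rw [this, map_one, map_one]
  · intro h
    obtain ⟨r, hr⟩ := triv' h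
    have := congrFun (congrFun hr 0) 1
    rw [coe_mu] at this
    simp at this

theorem orderOf_mi (h2 : (2 : F) ≠ 0) : orderOf (lift (cj (mi F))) = 4 := by
  have e : (4 : ℕ) = 2 ^ (1 + 1) := by norm_num
  rw [e]
  apply orderOf_eq_prime_pow
  · rw [pow_one, ← map_pow, ← map_pow]
    intro h
    obtain ⟨r, hr⟩ := triv' h
    rw [coe_mi_sq] at hr
    have h0 := congrFun (congrFun hr 0) 0
    have h1 := congrFun (congrFun hr 2) 2
    simp at h0 h1
    apply h2
    rw [h0] at h1
    linear_combination -h1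
  · rw [← map_pow, ← map_pow]
    have : mi F ^ 2 ^ (1 + 1) = 1 := by
      have := mi_four (F := F)
      norm_num
      exact this
    rw [this, map_one, map_one]

variable {p f : ℕ} [hp : Fact p.Prime] [CharP F p] (A : TA p f (Fintype.card F))
  (B : Subgroup (MulAut (Matrix.ProjectiveSpecialLinearGroup (Fin 3) F)))
  (hB : (MulAut.conj : Matrix.ProjectiveSpecialLinearGroup (Fin 3) F →* _).range ≤ B)
  (hω : ∀ α ∈ B, Om p (Fintype.card F) (orderOf α))

include A

theorem two_ne : (2 : F) ≠ 0 := by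
  intro h
  have h1 : ((2 : ℕ) : F) = 0 := by exact_mod_cast h
  have h2 := (CharP.cast_eq_zero_iff F p 2).1 h1
  have h3 := Nat.le_of_dvd (by norm_num) h2
  have := A.p3
  omega

theorem scalar_one {C : GL (Fin 3) F} (hd : (C : Matrix (Fin 3) (Fin 3) F).det = 1)
    (h : ∃ r : F, scalar (Fin 3) r = (C : Matrix (Fin 3) (Fin 3) F)) : C = 1 := by
  obtain ⟨r, hr⟩ := h
  have h1 : r ^ 3 = 1 := by
    rw [← hr] at hd
    simpa using hd
  have hr0 : r ≠ 0 := by
    rintro rfl
    norm_num at h1
  have h2 : r ^ (Fintype.card F - 1) = 1 := FiniteField.pow_card_sub_one_eq_one r hr0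
  have h3 : r = 1 := by
    have := pow_gcd_eq_one.2 ⟨h1, h2⟩
    rwa [A.sub_cop, pow_one] at this
  apply Units.ext
  rw [← hr, h3]
  simp

include hB hω

/-- **Field automorphisms of prime order.** -/
theorem field_prime {C : GL (Fin 3) F} {σ : F ≃+* F} (h : lift (cj C * fld σ) ∈ B) {l : ℕ} (hl : l.Prime)
    (hσ : orderOf σ = l) : False := by
  classical
  have hfl : Fact l.Prime := ⟨hl⟩
  have h2 := two_ne A
  have h1 : lift (cj (1 : GL (Fin 3) F) * fld σ) ∈ B := mem_any A B hB h 1
  rw [map_one cj, one_mul] at h1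
  have ho : orderOf (lift (fld σ) : MulAut (Matrix.ProjectiveSpecialLinearGroup (Fin 3) F)) = l := by
    apply orderOf_eq_prime
    · rw [← map_pow, ← map_pow, ← hσ, pow_orderOf_eq_one, map_one, map_one]
    · intro h4
      have h5 : lift (cj (1 : GL (Fin 3) F) * fld σ) = 1 := by rw [map_one cj, one_mul, h4]
      have h6 := (triv h5).2
      rw [h6, orderOf_one] at hσ
      exact hl.one_lt.ne hσ
  have key : ∀ D : GL (Fin 3) F, sg σ D = D → ∀ m, m ∣ orderOf (lift (cj D)) → Nat.Coprime m l →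
      Om p (Fintype.card F) (l * m) := by
    intro D hD m hm hco
    let x : B := ⟨lift (cj D), cj_mem A B hB D⟩
    let y : B := ⟨lift (fld σ), h1⟩
    have hx : m ∣ orderOf x := by rw [← Subgroup.orderOf_coe]; exact hm
    have hy : l ∣ orderOf y := by rw [← Subgroup.orderOf_coe]; exact ho.symm.dvd
    have hxy : Commute x y := Subtype.ext (comm_fld hD)
    obtain ⟨g, hg⟩ := H375.Reduce.exists_orderOf_mul hco hxy hx hy
    have := hω g g.2
    rw [Subgroup.orderOf_coe, hg, mul_comm] at this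
    exact this
  by_cases hlp : l = p
  · subst hlp
    have h3 := key (mi F) (by
      apply Units.ext
      ext i j
      rw [sg_apply, coe_mi]
      fin_cases i <;> fin_cases j <;> simp) 4 (orderOf_mi h2).symm.dvd (by
      have h5 : ¬ l ∣ 2 := by
        intro h6
        have := Nat.le_of_dvd (by norm_num) h6
        have := A.p3
        omega
      have h6 : Nat.Coprime l 2 := (Nat.Prime.coprime_iff_not_dvd hl).2 h5
      exact (Nat.Coprime.pow_right 2 h6).symm)
    exact A.not_four_p (by rw [mul_comm]) h3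
  · have h3 := key (mu F) (by
      apply Units.ext
      ext i j
      rw [sg_apply, coe_mu]
      fin_cases i <;> fin_cases j <;> simp) p orderOf_mu.symm.dvd
      ((Nat.coprime_primes hp.out hl).2 (Ne.symm hlp))
    have h4 := A.dvd_of_mul_p h3
    have hl3 : l ≠ 3 := by
      rintro rfl
      have := A.sub_cop
      rw [Nat.Prime.coprime_iff_not_dvd Nat.prime_three] at this
      exact this h4
    -- the fixed field
    set K := FixedPoints.subfield (Subgroup.zpowers σ) F with hK
    have hc : Fintype.card F = Nat.card K ^ l := by rw [card_fixed σ, hσ]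
    set k := Nat.card K with hk
    have hKfin : Finite K := Finite.of_injective (fun x : K => (x : F)) Subtype.val_injective
    have hk1 : 1 < k := Finite.one_lt_card
    obtain ⟨r, hr, hrk⟩ := Nat.exists_prime_and_dvd (n := k ^ 2 + k + 1) (by omega)
    -- `r ∣ q² + q + 1`
    have hr3 : r ≠ 3 := by
      rintro rfl
      have h5 : k % 3 = 1 := by
        have h6 := Nat.mod_eq_zero_of_dvd hrk
        have h7 : k % 3 < 3 := Nat.mod_lt _ (by norm_num)
        rw [Nat.add_mod, Nat.add_mod (k ^ 2), Nat.pow_mod] at h6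
        interval_cases h : k % 3 <;> simp_all
      apply A.h3
      rw [hc, Nat.pow_mod, h5, one_pow]
      norm_num
    have hrq : r ∣ Fintype.card F ^ 2 + Fintype.card F + 1 := by
      have hk0 : ((k : ZMod r)) ^ 2 + (k : ZMod r) + 1 = 0 := by
        have := (ZMod.natCast_eq_zero_iff (k ^ 2 + k + 1) r).2 hrk
        exact_mod_cast this
      have hk3 : ((k : ZMod r)) ^ 3 = 1 := by linear_combination ((k : ZMod r) - 1) * hk0
      rw [← ZMod.natCast_eq_zero_iff, hc]
      push_cast
      have e : (k : ZMod r) ^ l = (k : ZMod r) ^ (l % 3) := by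
        conv_lhs => rw [← Nat.div_add_mod l 3, pow_add, pow_mul, hk3, one_pow, one_mul]
      rw [e]
      have h5 : l % 3 = 1 ∨ l % 3 = 2 := by
        have h6 : l % 3 ≠ 0 := by
          intro h6
          exact hl3 ((Nat.prime_dvd_prime_iff_eq Nat.prime_three hl).1 (Nat.dvd_of_mod_eq_zero h6)).symm
        omega
      rcases h5 with h5 | h5
      · rw [h5, pow_one]; exact hk0
      · rw [h5]
        linear_combination hk0 + (k : ZMod r) * hk3
    have hlr : l ≠ r := by
      rintro rfl
      exact (A.prime_facts hl hrq).2.2.2.1 h4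
    obtain ⟨D, hD, hDd⟩ := exists_gl_dvd K hrk
    let D' : GL (Fin 3) F := Matrix.GeneralLinearGroup.map (algebraMap K F) D
    have hD' : orderOf D' = r := by
      rw [← hD]
      exact orderOf_injective (Matrix.GeneralLinearGroup.map (algebraMap K F))
        (Units.map_injective (Matrix.map_injective (algebraMap K F).injective)) D
    have hD'd : (D' : Matrix (Fin 3) (Fin 3) F).det = 1 := by
      have : (D' : Matrix (Fin 3) (Fin 3) F) = (algebraMap K F).mapMatrix (D : Matrix (Fin 3) (Fin 3) K) := rfl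
      rw [this, ← RingHom.map_det, hDd, map_one]
    have hsg : sg σ D' = D' := by
      apply Units.ext
      ext i j
      rw [sg_apply]
      have h5 : (D' : Matrix (Fin 3) (Fin 3) F) i j = ((D : Matrix (Fin 3) (Fin 3) K) i j : F) := rfl
      rw [h5]
      exact ((D : Matrix (Fin 3) (Fin 3) K) i j).2 ⟨σ, Subgroup.mem_zpowers σ⟩
    have hoD : orderOf (lift (cj D')) = r := by
      have hrf : Fact r.Prime := ⟨hr⟩
      apply orderOf_eq_prime
      · rw [← map_pow, ← map_pow, ← hD', pow_orderOf_eq_one, map_one, map_one]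
      · intro h5
        have h6 := scalar_one A hD'd (triv' h5)
        rw [h6, orderOf_one] at hD'
        exact hr.one_lt.ne hD'
    have h5 := key D' hsg r hoD.symm.dvd ((Nat.coprime_primes hr hl).2 (Ne.symm hlr))
    exact A.not_mul_n hr hrq (fun h6 => (A.prime_facts hl h6).2.2.2.1 h4) h5

/-- **Field automorphisms.** -/
theorem field_one {C : GL (Fin 3) F} {σ : F ≃+* F} (h : lift (cj C * fld σ) ∈ B) : σ = 1 := by
  by_contra hne
  have hfin : Finite (F ≃+* F) := Finite.of_injective (fun f : F ≃+* F => (f : F → F)) DFunLike.coe_injective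
  have hpow : ∀ n : ℕ, ∃ D : GL (Fin 3) F, (lift (cj C * fld σ)) ^ n = lift (cj D * fld (σ ^ n)) := by
    intro n
    induction n with
    | zero => exact ⟨1, by rw [pow_zero, pow_zero, map_one, map_one, mul_one, map_one]⟩
    | succ n ih =>
      obtain ⟨D, hD⟩ := ih
      refine ⟨C * sg σ D, ?_⟩
      rw [pow_succ', hD, ← map_mul, fmul, pow_succ']
  have hn1 : orderOf σ ≠ 1 := fun h1 => hne (orderOf_eq_one_iff.mp h1)
  obtain ⟨l, hl, j, hj⟩ := Nat.exists_prime_and_dvd hn1
  have hpos := orderOf_pos σ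
  have hj0 : j ≠ 0 := by rintro rfl; omega
  have h1 : orderOf (σ ^ j) = l := by
    rw [orderOf_pow' σ hj0, hj, Nat.gcd_mul_left_left, Nat.mul_div_cancel _ (Nat.pos_of_ne_zero hj0)]
  obtain ⟨D, hD⟩ := hpow j
  have h2 : lift (cj D * fld (σ ^ j)) ∈ B := by rw [← hD]; exact B.pow_mem h j
  exact field_prime A B hB hω h2 hl h1

/-- **Graph automorphisms.** -/
theorem graph_false' {C : GL (Fin 3) F} {σ : F ≃+* F} (h : lift (cj C * fld σ * itr) ∈ B) : False := by
  have h2 := two_ne A
  have h1 := B.mul_mem h h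
  rw [← map_mul, gmul] at h1
  have hσ : σ * σ = 1 := field_one A B hB hω h1
  have hσ1 : σ = 1 := sq_aut A hσ
  subst hσ1
  rw [mul_assoc] at h
  have hdet : (!![0, 1, 0; -1, 1, 0; 0, 0, 1] : Matrix (Fin 3) (Fin 3) F).det = 1 := by
    rw [det_fin_three]; simp
  let D : GL (Fin 3) F := Matrix.GeneralLinearGroup.mkOfDetNeZero !![0, 1, 0; -1, 1, 0; 0, 0, 1] (by
    rw [hdet]; exact one_ne_zero)
  have hD : (D : Matrix (Fin 3) (Fin 3) F) = !![0, 1, 0; -1, 1, 0; 0, 0, 1] := rfl
  have h3 := mem_any A B hB h D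
  rw [← mul_assoc] at h3
  set β := lift (cj D * fld 1 * itr) with hβ
  have h4 : β * β = lift (cj (D * ct D)) := by
    rw [hβ, ← map_mul, gmul, mul_one, map_one fld, mul_one]
    rfl
  have hdetE : (!![-1, 0, 0; -2, -1, 0; 0, 0, 1] : Matrix (Fin 3) (Fin 3) F).det = 1 := by
    rw [det_fin_three]; simp
  let E : GL (Fin 3) F := Matrix.GeneralLinearGroup.mkOfDetNeZero !![-1, 0, 0; -2, -1, 0; 0, 0, 1] (by
    rw [hdetE]; exact one_ne_zero)
  have hE : (E : Matrix (Fin 3) (Fin 3) F) = !![-1, 0, 0; -2, -1, 0; 0, 0, 1] := rfl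
  have hDE : D * ct D = E := by
    refine eq_mul_inv_iff_mul_eq.mp ?_
    apply Units.ext
    rw [Units.val_mul, coe_ct_inv, hE, hD]
    ext i j
    fin_cases i <;> fin_cases j <;> norm_num [Matrix.mul_apply, Fin.sum_univ_succ, Matrix.transpose_apply]
  rw [hDE] at h4
  have h5 : ∀ n : ℕ, ((E ^ n : GL (Fin 3) F) : Matrix (Fin 3) (Fin 3) F) =
      !![(-1) ^ n, 0, 0; 2 * (n : F) * (-1) ^ n, (-1) ^ n, 0; 0, 0, 1] := by
    intro n
    induction n with
    | zero =>
      ext i j
      fin_cases i <;> fin_cases j <;> simp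
    | succ n ih =>
      rw [pow_succ, Units.val_mul, ih, hE]
      ext i j
      fin_cases i <;> fin_cases j <;> simp [Matrix.mul_apply, Fin.sum_univ_succ] <;> ring
  have h6 : ∀ n : ℕ, β ^ (2 * n) = 1 → 2 * p ∣ n := by
    intro n hn
    rw [pow_mul, pow_two, h4, ← map_pow, ← map_pow] at hn
    obtain ⟨r, hr⟩ := triv' hn
    rw [h5] at hr
    have h00 := congrFun (congrFun hr 0) 0
    have h10 := congrFun (congrFun hr 1) 0
    have h22 := congrFun (congrFun hr 2) 2
    simp at h00 h10 h22
    rw [h22] at h00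
    have hev : 2 ∣ n := by
      rcases Nat.even_or_odd n with he | ho
      · exact he.two_dvd
      · exfalso
        rw [ho.neg_one_pow] at h00
        apply h2
        linear_combination h00
    have hpn : p ∣ n := by
      rw [← CharP.cast_eq_zero_iff F p n]
      rcases h10 with h | h
      · exact absurd h h2
      · exact h
    have hco : Nat.Coprime 2 p := (Nat.coprime_primes Nat.prime_two hp.out).2 (by
      have := A.p3
      omega)
    exact Nat.Coprime.mul_dvd_of_dvd_of_dvd hco hev hpn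
  have h7 : 2 * p ∣ orderOf β := h6 _ (by rw [mul_comm, pow_mul, pow_orderOf_eq_one, one_pow])
  obtain ⟨j, hj⟩ : 2 ∣ orderOf β := (dvd_mul_right 2 p).trans h7
  have h8 : 2 * p ∣ j := h6 _ (by rw [← hj, pow_orderOf_eq_one])
  have h9 : 4 * p ∣ orderOf β := by
    rw [hj]
    have e : 4 * p = 2 * (2 * p) := by ring
    rw [e]
    exact mul_dvd_mul_left 2 h8
  exact A.not_four_p h9 (hω _ h3)

/-- **The outer part.** -/
theorem eq_inner' {α : MulAut (Matrix.ProjectiveSpecialLinearGroup (Fin 3) F)} (h : α ∈ B) :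
    α ∈ (MulAut.conj : Matrix.ProjectiveSpecialLinearGroup (Fin 3) F →* _).range := by
  rcases surj_three p le_rfl α with ⟨C, σ, rfl⟩ | ⟨C, σ, rfl⟩
  · have hσ := field_one A B hB hω h
    subst hσ
    rw [map_one fld, mul_one]
    exact cj_mem A _ le_rfl C
  · exact (graph_false' A B hB hω h).elim

end main

/-- **The outer part**, for almost simple groups with socle `PSL(3, q)`. -/
theorem outer_top {F : Type*} [Field F] [Fintype F] {p f : ℕ} [hp : Fact p.Prime] [CharP F p]
    (A : TA p f (Fintype.card F)) {M : Type*} [Group M] [Finite M] (S : Subgroup M) [S.Normal]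
    (e : S ≃* Matrix.ProjectiveSpecialLinearGroup (Fin 3) F) (hc : Subgroup.centralizer (S : Set M) = ⊥)
    (hω : ∀ g : M, Om p (Fintype.card F) (orderOf g)) : S = ⊤ := by
  let φ : M →* MulAut (Matrix.ProjectiveSpecialLinearGroup (Fin 3) F) :=
    (MulAut.congr e).toMonoidHom.comp (MulAut.conjNormal : M →* MulAut S)
  have hφ : Function.Injective φ := by
    rw [injective_iff_map_eq_one]
    intro g hg
    have h1 : (MulAut.conjNormal g : MulAut S) = 1 := by
      apply (MulAut.congr e).injective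
      rw [map_one]
      exact hg
    have h2 : g ∈ Subgroup.centralizer (S : Set M) := by
      rw [Subgroup.mem_centralizer_iff]
      intro s hs
      have h3 := congrArg (fun f : MulAut S => ((f ⟨s, hs⟩ : S) : M)) h1
      have h4 : g * s * g⁻¹ = s := h3
      calc s * g = (g * s * g⁻¹) * g := by rw [h4]
        _ = g * s := by group
    rw [hc] at h2
    exact Subgroup.mem_bot.mp h2
  have hin : ∀ l : Matrix.ProjectiveSpecialLinearGroup (Fin 3) F, φ ((e.symm l : S) : M) = MulAut.conj l := by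
    intro l
    apply MulEquiv.ext
    intro x
    show e (MulAut.conjNormal ((e.symm l : S) : M) (e.symm x)) = l * x * l⁻¹
    have : MulAut.conjNormal ((e.symm l : S) : M) (e.symm x) = e.symm l * e.symm x * (e.symm l)⁻¹ := rfl
    rw [this, map_mul, map_mul, map_inv, e.apply_symm_apply, e.apply_symm_apply]
  rw [eq_top_iff]
  intro g _
  have h1 : φ g ∈ (MulAut.conj : Matrix.ProjectiveSpecialLinearGroup (Fin 3) F →* _).range := by
    apply eq_inner' A φ.range
    · rintro _ ⟨l, rfl⟩
      exact ⟨_, hin l⟩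
    · rintro _ ⟨x, rfl⟩
      rw [orderOf_injective φ hφ]
      exact hω x
    · exact ⟨g, rfl⟩
  obtain ⟨l, hl⟩ := h1
  rw [← hin l] at hl
  rw [← hφ hl]
  exact (e.symm l).2

end Cfsg.Agent.H366.T
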