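import Mathlib
import Cfsg.Agent.H371.FrobCover
import Cfsg.Agent.H366.TOuter

/-!
# Extensions of abelian groups by `PSL(3, q)`, `q ≡ 3, 11 (mod 12)` (helper366, for S3455)

`cover`: `V` normal elementary abelian, `SL_3(q) ≤ G / V`, all element orders of `G` are element orders of `PSL_3(q)`:
then `V = 1`.
-/

set_option autoImplicit false
set_option linter.unusedSectionVars false

namespace Cfsg.Agent.H366.T

open Matrix

section torus

variable {F : Type*} [Field F]

/-- the embedding `GL_2 → SL_3`, `g ↦ (g, det g⁻¹)` -/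
def torF (g : GL (Fin 2) F) : Matrix.SpecialLinearGroup (Fin 3) F :=
  ⟨!![(g : Matrix (Fin 2) (Fin 2) F) 0 0, (g : Matrix (Fin 2) (Fin 2) F) 0 1, 0;
    (g : Matrix (Fin 2) (Fin 2) F) 1 0, (g : Matrix (Fin 2) (Fin 2) F) 1 1, 0;
    0, 0, ((g : Matrix (Fin 2) (Fin 2) F).det)⁻¹], by
      have h : (g : Matrix (Fin 2) (Fin 2) F).det ≠ 0 := (Matrix.isUnits_det_units g).ne_zero
      rw [det_fin_three]
      simp only [of_apply, cons_val', cons_val_zero, cons_val_one, cons_val_fin_one, cons_val]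
      rw [det_fin_two] at h ⊢
      field_simp
      ring⟩

theorem coe_torF (g : GL (Fin 2) F) : (torF g : Matrix (Fin 3) (Fin 3) F) =
    !![(g : Matrix (Fin 2) (Fin 2) F) 0 0, (g : Matrix (Fin 2) (Fin 2) F) 0 1, 0;
      (g : Matrix (Fin 2) (Fin 2) F) 1 0, (g : Matrix (Fin 2) (Fin 2) F) 1 1, 0;
      0, 0, ((g : Matrix (Fin 2) (Fin 2) F).det)⁻¹] := rfl

/-- the embedding `GL_2 → SL_3`, `g ↦ (g, det g⁻¹)` -/
def tor : GL (Fin 2) F →* Matrix.SpecialLinearGroup (Fin 3) F where
  toFun := torF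
  map_one' := by
    apply Subtype.ext
    rw [coe_torF, Matrix.SpecialLinearGroup.coe_one]
    ext i j
    fin_cases i <;> fin_cases j <;> simp
  map_mul' g h := by
    apply Subtype.ext
    rw [Matrix.SpecialLinearGroup.coe_mul, coe_torF, coe_torF, coe_torF]
    ext i j
    fin_cases i <;> fin_cases j <;>
      simp [Matrix.mul_apply, Fin.sum_univ_succ, Matrix.det_mul, mul_comm]

theorem coe_tor (g : GL (Fin 2) F) : (tor g : Matrix (Fin 3) (Fin 3) F) =
    !![(g : Matrix (Fin 2) (Fin 2) F) 0 0, (g : Matrix (Fin 2) (Fin 2) F) 0 1, 0;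
      (g : Matrix (Fin 2) (Fin 2) F) 1 0, (g : Matrix (Fin 2) (Fin 2) F) 1 1, 0;
      0, 0, ((g : Matrix (Fin 2) (Fin 2) F).det)⁻¹] := rfl

theorem tor_injective : Function.Injective (tor (F := F)) := by
  rw [injective_iff_map_eq_one]
  intro g hg
  have h1 : (tor g : Matrix (Fin 3) (Fin 3) F) = 1 := by rw [hg]; rfl
  rw [coe_tor] at h1
  have h00 := congrFun (congrFun h1 0) 0
  have h01 := congrFun (congrFun h1 0) 1
  have h10 := congrFun (congrFun h1 1) 0
  have h11 := congrFun (congrFun h1 1) 1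
  simp at h00 h01 h10 h11
  apply Units.ext
  ext i j
  fin_cases i <;> fin_cases j <;> simp [h00, h01, h10, h11]

/-- the unipotent radical -/
def uuF (a : F × F) : Matrix.SpecialLinearGroup (Fin 3) F :=
  ⟨!![1, 0, a.1; 0, 1, a.2; 0, 0, 1], by rw [det_fin_three]; simp⟩

theorem coe_uuF (a : F × F) : (uuF a : Matrix (Fin 3) (Fin 3) F) =
    !![1, 0, a.1; 0, 1, a.2; 0, 0, 1] := rfl

/-- the unipotent radical -/
def uu : Multiplicative (F × F) →* Matrix.SpecialLinearGroup (Fin 3) F where
  toFun a := uuF (Multiplicative.toAdd a)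
  map_one' := by
    apply Subtype.ext
    rw [coe_uuF, Matrix.SpecialLinearGroup.coe_one]
    ext i j
    fin_cases i <;> fin_cases j <;> simp
  map_mul' a b := by
    apply Subtype.ext
    rw [Matrix.SpecialLinearGroup.coe_mul, coe_uuF, coe_uuF, coe_uuF]
    ext i j
    fin_cases i <;> fin_cases j <;> simp [Matrix.mul_apply, Fin.sum_univ_succ, add_comm]

theorem coe_uu (a : F × F) : (uu (Multiplicative.ofAdd a) : Matrix (Fin 3) (Fin 3) F) =
    !![1, 0, a.1; 0, 1, a.2; 0, 0, 1] := rfl

theorem uu_injective : Function.Injective (uu (F := F)) := by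
  rw [injective_iff_map_eq_one]
  intro a ha
  have h1 : (uu a : Matrix (Fin 3) (Fin 3) F) = 1 := by rw [ha]; rfl
  have h02 := congrFun (congrFun h1 0) 2
  have h12 := congrFun (congrFun h1 1) 2
  change (Multiplicative.toAdd a).1 = 0 at h02
  change (Multiplicative.toAdd a).2 = 0 at h12
  apply Multiplicative.toAdd.injective
  exact Prod.ext h02 h12

theorem tor_uu (g : GL (Fin 2) F) (a : F × F) :
    tor g * uu (Multiplicative.ofAdd a) = uu (Multiplicative.ofAdd
      ((g : Matrix (Fin 2) (Fin 2) F).det * ((g : Matrix (Fin 2) (Fin 2) F) 0 0 * a.1 + (g : Matrix (Fin 2) (Fin 2) F) 0 1 * a.2),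
       (g : Matrix (Fin 2) (Fin 2) F).det * ((g : Matrix (Fin 2) (Fin 2) F) 1 0 * a.1 + (g : Matrix (Fin 2) (Fin 2) F) 1 1 * a.2))) *
      tor g := by
  have h : (g : Matrix (Fin 2) (Fin 2) F).det ≠ 0 := (Matrix.isUnits_det_units g).ne_zero
  apply Subtype.ext
  rw [Matrix.SpecialLinearGroup.coe_mul, Matrix.SpecialLinearGroup.coe_mul, coe_tor, coe_uu, coe_uu]
  ext i j
  fin_cases i <;> fin_cases j <;> simp [Matrix.mul_apply, Fin.sum_univ_succ] <;> field_simp

end torus

section frob

variable {F : Type*} [Field F] [Fintype F] {p f : ℕ} [hp : Fact p.Prime] [CharP F p] (A : TA p f (Fintype.card F))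

include A

/-- the fixed points of `det(M) M`, `M` a matrix of the Singer group -/
theorem fpf {K : Type*} [Field K] [Algebra F K] (b : Module.Basis (Fin 2) F K) {z : K} (hz0 : z ≠ 0) (hz : z ≠ 1)
    {v : Fin 2 → F} (h : (Algebra.leftMulMatrix b z).det • (Algebra.leftMulMatrix b z *ᵥ v) = v) : v = 0 := by
  set M := Algebra.leftMulMatrix b z with hM
  set d := M.det with hd
  have hd0 : d ≠ 0 := by
    intro h0
    have h1 : (M * Algebra.leftMulMatrix b z⁻¹).det = 0 := by rw [det_mul, ← hd, h0, zero_mul]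
    rw [hM, ← map_mul, mul_inv_cancel₀ hz0, map_one, det_one] at h1
    exact one_ne_zero h1
  have hw : Algebra.leftMulMatrix b (d • z) = d • M := by rw [map_smul]
  by_cases hw1 : d • z = 1
  · exfalso
    have h1 : z = d⁻¹ • (1 : K) := by rw [← hw1, smul_smul, inv_mul_cancel₀ hd0, one_smul]
    have h2 : M = d⁻¹ • (1 : Matrix (Fin 2) (Fin 2) F) := by rw [hM, h1, map_smul, map_one]
    have h3 : d = (d⁻¹) ^ 2 := by
      conv_lhs => rw [hd, h2]
      simp
    have h4 : d ^ 3 = 1 := by
      have : d * d ^ 2 = (d⁻¹) ^ 2 * d ^ 2 := by rw [← h3]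
      rw [← mul_pow, inv_mul_cancel₀ hd0, one_pow] at this
      rw [← this]; ring
    have h5 : d ^ (Fintype.card F - 1) = 1 := FiniteField.pow_card_sub_one_eq_one d hd0
    have h6 : d = 1 := by
      have := pow_gcd_eq_one.2 ⟨h4, h5⟩
      rwa [A.sub_cop, pow_one] at this
    rw [h6, inv_one, one_smul] at h1
    exact hz h1
  · have h1 : Algebra.leftMulMatrix b (d • z - 1) *ᵥ v = 0 := by
      rw [map_sub, map_one, hw, sub_mulVec, one_mulVec, smul_mulVec, h, sub_self]
    have h2 : Algebra.leftMulMatrix b (d • z - 1)⁻¹ *ᵥ (Algebra.leftMulMatrix b (d • z - 1) *ᵥ v) = v := by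
      rw [mulVec_mulVec, ← map_mul, inv_mul_cancel₀ (sub_ne_zero.2 hw1), map_one, one_mulVec]
    rw [h1, mulVec_zero] at h2
    exact h2.symm

/-- **The Frobenius subgroup `q² : (q² - 1)`.** -/
theorem frob : ∃ (U : Subgroup (Matrix.SpecialLinearGroup (Fin 3) F)) (c : Matrix.SpecialLinearGroup (Fin 3) F),
    Nat.card U = Fintype.card F ^ 2 ∧ (∀ a ∈ U, c * a * c⁻¹ ∈ U) ∧
    (∀ i, 0 < i → i < orderOf c → ∀ a ∈ U, c ^ i * a = a * c ^ i → a = 1) ∧
    orderOf c = Fintype.card F ^ 2 - 1 := by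
  classical
  let K := FiniteField.Extension F p 2
  have hKcard : Nat.card K = Nat.card F ^ 2 := FiniteField.natCard_extension F p 2
  let b := Module.finBasisOfFinrankEq F K (FiniteField.finrank_extension F p 2)
  obtain ⟨y, hy⟩ := IsCyclic.exists_generator (α := Kˣ)
  have hordy : orderOf y = Nat.card F ^ 2 - 1 := by
    rw [orderOf_eq_card_of_forall_mem_zpowers hy, Nat.card_units, hKcard]
  let tt : Kˣ →* GL (Fin 2) F := Units.map (Algebra.leftMulMatrix b).toRingHom.toMonoidHom
  have htt : Function.Injective tt := by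
    apply Units.map_injective
    exact Algebra.leftMulMatrix_injective b
  have hcoe : ∀ z : Kˣ, (tt z : Matrix (Fin 2) (Fin 2) F) = Algebra.leftMulMatrix b (z : K) := fun z => rfl
  refine ⟨uu.range, tor (tt y), ?_, ?_, ?_, ?_⟩
  · rw [← Nat.card_congr (MonoidHom.ofInjective uu_injective).toEquiv, Nat.card_congr Multiplicative.toAdd,
      Nat.card_prod, Nat.card_eq_fintype_card, pow_two]
  · rintro _ ⟨a, rfl⟩
    obtain ⟨a, rfl⟩ := Multiplicative.ofAdd.surjective a
    rw [tor_uu, mul_inv_cancel_right]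
    exact ⟨_, rfl⟩
  · rintro i hi hi' _ ⟨a, rfl⟩ hc
    obtain ⟨a, rfl⟩ := Multiplicative.ofAdd.surjective a
    rw [← map_pow, ← map_pow] at hc
    set z := y ^ i with hz
    have hz1 : z ≠ 1 := by
      intro h1
      have h2 := orderOf_dvd_of_pow_eq_one h1
      rw [orderOf_injective _ tor_injective, orderOf_injective _ htt] at hi'
      exact absurd (Nat.le_of_dvd hi h2) (by omega)
    rw [tor_uu] at hc
    have h1 := uu_injective (mul_right_cancel hc)
    have h2 := Multiplicative.ofAdd.injective h1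
    have h3 : ![a.1, a.2] = 0 := by
      apply fpf A b (z := (z : K)) z.ne_zero (fun h => hz1 (Units.ext h))
      rw [← hcoe]
      have e1 := congrArg Prod.fst h2
      have e2 := congrArg Prod.snd h2
      simp only at e1 e2
      ext j
      fin_cases j
      · simp
        exact e1
      · simp
        exact e2
    have e1 := congrFun h3 0
    have e2 := congrFun h3 1
    simp at e1 e2
    have : a = 0 := Prod.ext e1 e2
    rw [this, ofAdd_zero, map_one]
  · rw [orderOf_injective _ tor_injective, orderOf_injective _ htt, hordy, Nat.card_eq_fintype_card]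

end frob

/-- elements of order dividing `q² + q + 1` -/
theorem exists_sl_dvd {F : Type*} [Field F] [Finite F] {r : ℕ} (hr : r ∣ Nat.card F ^ 2 + Nat.card F + 1) :
    ∃ g : Matrix.SpecialLinearGroup (Fin 3) F, orderOf g = r := by
  obtain ⟨B, hB, hd⟩ := exists_gl_dvd F hr
  refine ⟨H375.LThree.toSL B hd, ?_⟩
  have h1 : Function.Injective (Matrix.SpecialLinearGroup.toGL (n := Fin 3) (R := F)) := by
    intro a b hab
    exact Subtype.ext (congrArg Units.val hab)
  rw [← orderOf_injective _ h1, ← hB]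
  congr 1
  exact Units.ext rfl

theorem TA.not_big {p f q : ℕ} (A : TA p f q) {e : ℕ} (he : e.Prime) : ¬ Om p q ((q ^ 2 - 1) * e) := by
  have h11 := A.h11
  have h4 := A.h4
  have h2 : q ^ 2 - 1 = (q - 1) * (q + 1) := by
    obtain ⟨k, rfl⟩ : ∃ k, q = k + 1 := ⟨q - 1, by omega⟩
    have : (k + 1) ^ 2 = k * (k + 2) + 1 := by ring
    rw [this, Nat.add_sub_cancel, Nat.add_sub_cancel]
  rintro (h | h | h)
  · have h5 : 2 ∣ q ^ 2 - 1 := by
      rw [h2]
      exact dvd_mul_of_dvd_left (by omega) _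
    have h6 := (h5.trans (dvd_mul_right _ _)).trans h
    have := A.n_odd
    omega
  · have h5 : 0 < q ^ 2 - 1 := by rw [h2]; exact Nat.mul_pos (by omega) (by omega)
    have h6 := Nat.le_of_dvd h5 h
    have := he.two_le
    nlinarith
  · rw [h2, mul_comm p, mul_assoc] at h
    have h5 := Nat.dvd_of_mul_dvd_mul_left (by omega) h
    have h6 := Nat.le_of_dvd A.hp.pos h5
    have := A.p_le
    have := he.two_le
    nlinarith

section elts

variable {F : Type*} [Field F]

/-- an element of order four -/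
def si (a b : F) (h : a ^ 2 + b ^ 2 = -1) : Matrix.SpecialLinearGroup (Fin 3) F :=
  ⟨!![a, b, 0; b, -a, 0; 0, 0, 1], by
    rw [det_fin_three]
    simp
    linear_combination -h⟩

theorem coe_si (a b : F) (h : a ^ 2 + b ^ 2 = -1) : (si a b h : Matrix (Fin 3) (Fin 3) F) =
    !![a, b, 0; b, -a, 0; 0, 0, 1] := rfl

/-- an element of order four -/
def sj (F : Type*) [Field F] : Matrix.SpecialLinearGroup (Fin 3) F :=
  ⟨!![0, 1, 0; -1, 0, 0; 0, 0, 1], by rw [det_fin_three]; simp⟩

theorem coe_sj : (sj F : Matrix (Fin 3) (Fin 3) F) = !![0, 1, 0; -1, 0, 0; 0, 0, 1] := rfl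

/-- an involution -/
def sz (F : Type*) [Field F] : Matrix.SpecialLinearGroup (Fin 3) F :=
  ⟨!![-1, 0, 0; 0, -1, 0; 0, 0, 1], by rw [det_fin_three]; simp⟩

theorem coe_sz : (sz F : Matrix (Fin 3) (Fin 3) F) = !![-1, 0, 0; 0, -1, 0; 0, 0, 1] := rfl

/-- a permutation matrix -/
def sp (F : Type*) [Field F] : Matrix.SpecialLinearGroup (Fin 3) F :=
  ⟨!![0, 1, 0; 0, 0, 1; 1, 0, 0], by rw [det_fin_three]; simp⟩

theorem coe_sp : (sp F : Matrix (Fin 3) (Fin 3) F) = !![0, 1, 0; 0, 0, 1; 1, 0, 0] := rfl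

theorem si_sq (a b : F) (h : a ^ 2 + b ^ 2 = -1) : si a b h * si a b h = sz F := by
  apply Subtype.ext
  rw [Matrix.SpecialLinearGroup.coe_mul, coe_si, coe_sz]
  ext i j
  fin_cases i <;> fin_cases j <;> simp [Matrix.mul_apply, Fin.sum_univ_succ] <;>
    first | ring1 | linear_combination h

theorem sj_sq : sj F * sj F = sz F := by
  apply Subtype.ext
  rw [Matrix.SpecialLinearGroup.coe_mul, coe_sj, coe_sz]
  ext i j
  fin_cases i <;> fin_cases j <;> simp [Matrix.mul_apply, Fin.sum_univ_succ]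

theorem sij_sq (a b : F) (h : a ^ 2 + b ^ 2 = -1) : (si a b h * sj F) * (si a b h * sj F) = sz F := by
  apply Subtype.ext
  rw [Matrix.SpecialLinearGroup.coe_mul, Matrix.SpecialLinearGroup.coe_mul, coe_si, coe_sz, coe_sj]
  ext i j
  fin_cases i <;> fin_cases j <;> simp [Matrix.mul_apply, Fin.sum_univ_succ] <;>
    first | ring1 | linear_combination h

theorem sz_sq : sz F * sz F = 1 := by
  apply Subtype.ext
  rw [Matrix.SpecialLinearGroup.coe_mul, coe_sz, Matrix.SpecialLinearGroup.coe_one]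
  ext i j
  fin_cases i <;> fin_cases j <;> simp [Matrix.mul_apply, Fin.sum_univ_succ]

theorem sz_ne (h2 : (2 : F) ≠ 0) : sz F ≠ 1 := by
  intro h
  have h1 : (sz F : Matrix (Fin 3) (Fin 3) F) = 1 := by rw [h]; rfl
  rw [coe_sz] at h1
  have := congrFun (congrFun h1 0) 0
  simp at this
  apply h2
  linear_combination -this

theorem order_four (h2 : (2 : F) ≠ 0) {g : Matrix.SpecialLinearGroup (Fin 3) F} (hg : g * g = sz F) :
    orderOf g = 4 := by
  have e : (4 : ℕ) = 2 ^ (1 + 1) := by norm_num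
  rw [e]
  apply orderOf_eq_prime_pow
  · rw [pow_one, pow_two, hg]
    exact sz_ne h2
  · have : g ^ 2 ^ (1 + 1) = (g * g) * (g * g) := by
      have h4 : (2 : ℕ) ^ (1 + 1) = 4 := by norm_num
      rw [h4]
      simp only [pow_succ, pow_zero, one_mul, mul_assoc]
    rw [this, hg, sz_sq]

theorem sz_conj : sz F * (sp F * sz F * (sp F)⁻¹) = (sp F * sp F) * sz F * (sp F * sp F)⁻¹ := by
  have h1 : sz F * (sp F * sz F) * sp F = sp F * sp F * sz F := by
    apply Subtype.ext
    rw [Matrix.SpecialLinearGroup.coe_mul, Matrix.SpecialLinearGroup.coe_mul, Matrix.SpecialLinearGroup.coe_mul,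
      Matrix.SpecialLinearGroup.coe_mul, Matrix.SpecialLinearGroup.coe_mul, coe_sz, coe_sp]
    ext i j
    fin_cases i <;> fin_cases j <;> simp [Matrix.mul_apply, Fin.sum_univ_succ]
  rw [← h1]
  group

end elts

section cover

variable {F : Type*} [Field F] [Fintype F] {p f : ℕ} [hp : Fact p.Prime] [CharP F p] (A : TA p f (Fintype.card F))
  {G : Type*} [Group G] [Finite G] (hω : ∀ g : G, Om p (Fintype.card F) (orderOf g))
  (V : Subgroup G) [V.Normal] (hV : IsMulCommutative V) {e : ℕ} (he : e.Prime) (hVe : ∀ v ∈ V, v ^ e = 1)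
  (hne : V ≠ ⊥) (φ : Matrix.SpecialLinearGroup (Fin 3) F →* G ⧸ V) (hφ : Function.Injective φ)

/-- the action on `V` -/
noncomputable def act : Matrix.SpecialLinearGroup (Fin 3) F →* MulAut V := (H371.Frob.quotAct V hV).comp φ

theorem act_of_mk {g : Matrix.SpecialLinearGroup (Fin 3) F} {x : G} (h : (x : G ⧸ V) = φ g) (v : V) :
    ((act V hV φ g v : V) : G) = x * v * x⁻¹ := by
  have : act V hV φ g v = H371.Frob.quotAct V hV (φ g) v := rfl
  rw [this, ← h, H371.Frob.quotAct_mk]

include hω he hVe hφ in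
theorem om_of_fix {g : Matrix.SpecialLinearGroup (Fin 3) F} {v : V} (hv : v ≠ 1) (hf : act V hV φ g v = v) {n : ℕ}
    (hn : n ∣ orderOf g) (hco : n.Coprime e) : Om p (Fintype.card F) (n * e) := by
  obtain ⟨x, hx⟩ := QuotientGroup.mk_surjective (φ g)
  have h1 := act_of_mk V hV φ hx v
  rw [hf] at h1
  have hc : Commute x (v : G) := by
    have h2 := eq_mul_inv_iff_mul_eq.1 h1
    exact h2.symm
  have hx' : n ∣ orderOf x := by
    refine hn.trans ?_
    rw [← orderOf_injective φ hφ, ← hx]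
    exact orderOf_map_dvd (QuotientGroup.mk' V) x
  have hfe : Fact e.Prime := ⟨he⟩
  have hv' : orderOf (v : G) = e := orderOf_eq_prime (hVe v v.2) (by
    intro h
    exact hv (Subtype.ext h))
  obtain ⟨g, hg⟩ := H375.Reduce.exists_orderOf_mul hco hc hx' hv'.symm.dvd
  have := hω g
  rwa [hg] at this

include A hω hV he hVe hne hφ

/-- nontrivial action -/
theorem act_injective [hS : IsSimpleGroup (Matrix.SpecialLinearGroup (Fin 3) F)] :
    Function.Injective (act V hV φ) := by
  classical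
  rw [← MonoidHom.ker_eq_bot_iff]
  rcases hS.eq_bot_or_eq_top_of_normal (act V hV φ).ker inferInstance with h | h
  · exact h
  · exfalso
    obtain ⟨v, hv⟩ := Subgroup.ne_bot_iff_exists_ne_one.1 hne
    have h1 : ∀ g, act V hV φ g v = v := by
      intro g
      have : g ∈ (act V hV φ).ker := by rw [h]; trivial
      rw [MonoidHom.mem_ker] at this
      rw [this, MulAut.one_apply]
    have h2 := two_ne A
    have h2N : ¬ 2 ∣ Fintype.card F ^ 2 + Fintype.card F + 1 := by
      have := A.n_odd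
      omega
    by_cases heN : e ∣ Fintype.card F ^ 2 + Fintype.card F + 1
    · have he2 : e ≠ 2 := by rintro rfl; exact h2N heN
      have h3 := om_of_fix (p := p) hω V hV he hVe φ hφ hv (h1 (sj F)) (n := 2)
        (by rw [order_four h2 sj_sq]; norm_num) ((Nat.coprime_primes Nat.prime_two he).2 he2.symm)
      exact A.not_mul_n he heN h2N h3
    · obtain ⟨r, hr, hrN⟩ := Nat.exists_prime_and_dvd A.n_one_lt.ne'
      obtain ⟨g, hg⟩ := exists_sl_dvd (F := F) (r := r) (by rw [Nat.card_eq_fintype_card]; exact hrN)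
      have hre : r ≠ e := by rintro rfl; exact heN hrN
      have h3 := om_of_fix (p := p) hω V hV he hVe φ hφ hv (h1 g) (n := r) hg.symm.dvd
        ((Nat.coprime_primes hr he).2 hre)
      rw [mul_comm] at h3
      exact A.not_mul_n hr hrN heN h3

/-- **Cross characteristic.** -/
theorem cover_cross [hS : IsSimpleGroup (Matrix.SpecialLinearGroup (Fin 3) F)] (hep : e ≠ p) : False := by
  classical
  have hinj := act_injective A hω V hV he hVe hne φ hφ
  obtain ⟨U, c, hU, hn, hfix, hc⟩ := frob A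
  have h1 : (∃ g : G, (g : G ⧸ V) ∈ U.map φ ∧ ∃ v ∈ V, g * v ≠ v * g) := by
    by_contra hcon
    push Not at hcon
    have h2 : ∀ a ∈ U, a = 1 := by
      intro a ha
      apply hinj
      rw [map_one]
      apply MulEquiv.ext
      intro v
      obtain ⟨x, hx⟩ := QuotientGroup.mk_surjective (φ a)
      have h3 := hcon x (by rw [hx]; exact ⟨a, ha, rfl⟩) v v.2
      apply Subtype.ext
      rw [act_of_mk V hV φ hx, MulAut.one_apply, h3, mul_inv_cancel_right]
    have h3 : Nat.card U = 1 := by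
      rw [Subgroup.card_eq_one, Subgroup.eq_bot_iff_forall]
      exact h2
    rw [h3] at hU
    have h11 := A.h11
    nlinarith
  obtain ⟨y, hy⟩ := H371.Frob.exists_orderOf V hV he hVe (U.map φ) (c := φ c) (by
      rintro _ ⟨a, ha, rfl⟩
      rw [← map_mul, ← map_inv, ← map_mul]
      exact ⟨_, hn a ha, rfl⟩) (by
      rintro i hi hi' _ ⟨a, ha, rfl⟩ hc'
      rw [orderOf_injective φ hφ] at hi'
      rw [← map_pow, ← map_mul, ← map_mul] at hc'
      rw [hfix i hi hi' a ha (hφ hc'), map_one]) (by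
      rw [Nat.card_congr (U.equivMapOfInjective φ hφ).symm.toEquiv, hU, A.hq, ← pow_mul]
      exact Nat.Coprime.pow_left _ ((Nat.coprime_primes hp.out he).2 (Ne.symm hep))) h1
  have h2 := hω y
  rw [hy, orderOf_injective φ hφ, hc] at h2
  exact A.not_big he h2

/-- **Own characteristic.** -/
theorem cover_own (hep : e = p) : False := by
  classical
  subst hep
  have h2 := two_ne A
  have hcomm : ∀ v w : V, v * w = w * v := fun v w => hV.is_comm.comm v w
  set θ := act V hV φ with hθ
  have h4 : ∀ g : Matrix.SpecialLinearGroup (Fin 3) F, g * g = sz F → ∀ v, θ g v = v → v = 1 := by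
    intro g hg v hv
    by_contra hv1
    have h5 : Nat.Coprime 4 e := by
      have h6 : Nat.Coprime 2 e := (Nat.coprime_primes Nat.prime_two he).2 (by
        have := A.p3
        omega)
      exact Nat.Coprime.pow_left 2 h6
    exact A.not_four_p (dvd_refl _) (om_of_fix (p := e) hω V hV he hVe φ hφ hv1 hv
      (order_four h2 hg).symm.dvd h5)
  have hinv : ∀ v : V, v = v⁻¹ → v = 1 := by
    intro v hv
    have h5 : v ^ 2 = 1 := by rw [pow_two]; nth_rewrite 1 [hv]; exact inv_mul_cancel v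
    have h6 : v ^ e = 1 := Subtype.ext (hVe v v.2)
    have h7 := pow_gcd_eq_one.2 ⟨h5, h6⟩
    have h8 : Nat.gcd 2 e = 1 := (Nat.coprime_primes Nat.prime_two he).2 (by
        have := A.p3
        omega)
    rwa [h8, pow_one] at h7
  have h5 : ∀ g : Matrix.SpecialLinearGroup (Fin 3) F, g * g = sz F → ∀ v, θ (sz F) v = v → θ g v = v⁻¹ := by
    intro g hg v hv
    have h6 : v * θ g v = 1 := by
      apply h4 g hg
      rw [map_mul, ← MulAut.mul_apply, ← map_mul, hg, hv]
      exact hcomm _ _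
    exact (inv_eq_of_mul_eq_one_right h6).symm
  have hz : ∀ v, θ (sz F) v = v → v = 1 := by
    intro v hv
    obtain ⟨a, b, hab⟩ := CharP.sq_add_sq F e (-1)
    have hab' : ((a : F)) ^ 2 + (b : F) ^ 2 = -1 := by rw [hab]; push_cast; rfl
    have h6 := h5 _ (si_sq _ _ hab') v hv
    have h7 := h5 _ sj_sq v hv
    have h8 := h5 _ (sij_sq _ _ hab') v hv
    rw [map_mul, MulAut.mul_apply, h7, map_inv, h6, inv_inv] at h8
    exact hinv v h8
  have hz' : ∀ v, θ (sz F) v = v⁻¹ := by
    intro v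
    have h6 : v * θ (sz F) v = 1 := by
      apply hz
      rw [map_mul, ← MulAut.mul_apply, ← map_mul, sz_sq, map_one, MulAut.one_apply]
      exact hcomm _ _
    exact (inv_eq_of_mul_eq_one_right h6).symm
  have hz2 : ∀ g v, θ (g * sz F * g⁻¹) v = v⁻¹ := by
    intro g v
    rw [map_mul, map_mul, MulAut.mul_apply, MulAut.mul_apply, hz', map_inv θ, map_inv]
    congr 1
    exact MulAut.apply_inv_self _ _ _
  obtain ⟨v, hv⟩ := Subgroup.ne_bot_iff_exists_ne_one.1 hne
  apply hv
  apply hinv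
  have h6 := hz2 (sp F * sp F) v
  rw [← sz_conj, map_mul, MulAut.mul_apply, hz2, map_inv, hz', inv_inv] at h6
  exact h6

/-- **The cover.** -/
theorem cover_false [hS : IsSimpleGroup (Matrix.SpecialLinearGroup (Fin 3) F)] : False := by
  by_cases hep : e = p
  · exact cover_own A hω V hV he hVe hne φ hφ hep
  · exact cover_cross A hω V hV he hVe hne φ hφ hep

end cover

end Cfsg.Agent.H366.T
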