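import Cfsg.Agent.H366.TBase
import Cfsg.Agent.H377.SpElt
import Cfsg.Agent.H377.OddThree

/-!
# No symplectic or odd-dimensional orthogonal group satisfies `TS` (helper366, for S3455)
-/

set_option autoImplicit false

namespace Cfsg.Agent.H366.T

open Cfsg

/-- a number whose primes are of a single type divides `u ^ m - 1` or `u ^ m + 1` -/
theorem dvd_pm {n u m : ℕ} (hm : 1 ≤ m)
    (hd : n ∣ u ^ (m ^ 2) * ∏ i ∈ Finset.range m, (u ^ (2 * (i + 1)) - 1))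
    (h0 : ∀ r : ℕ, r.Prime → r ∣ n → ¬ r ∣ u ∧ ∀ i, 1 ≤ i → i < m → ¬ r ∣ u ^ (2 * i) - 1)
    (hmix : ∀ r s : ℕ, r.Prime → s.Prime → r ∣ n → s ∣ n → r ∣ u ^ m - 1 → s ∣ u ^ m + 1 → False) :
    n ∣ u ^ m - 1 ∨ n ∣ u ^ m + 1 := by
  have hcop : ∀ {X : ℕ}, (∀ r : ℕ, r.Prime → r ∣ n → ¬ r ∣ X) → Nat.Coprime n X := by
    intro X hX
    by_contra hcon
    obtain ⟨r, hr, h1, h2⟩ := Nat.Prime.not_coprime_iff_dvd.1 hcon
    exact hX r hr h1 h2
  obtain ⟨k, rfl⟩ : ∃ k, m = k + 1 := ⟨m - 1, by omega⟩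
  rw [Finset.prod_range_succ, ← mul_assoc] at hd
  have h1 : Nat.Coprime n (u ^ ((k + 1) ^ 2) * ∏ i ∈ Finset.range k, (u ^ (2 * (i + 1)) - 1)) := by
    apply hcop
    intro r hr hrn hrd
    rcases (Nat.Prime.dvd_mul hr).1 hrd with h2 | h2
    · exact (h0 r hr hrn).1 (hr.dvd_of_dvd_pow h2)
    · obtain ⟨i, hi, hi2⟩ := (hr.prime.dvd_finsetProd_iff _).1 h2
      rw [Finset.mem_range] at hi
      exact (h0 r hr hrn).2 (i + 1) (by omega) (by omega) hi2
  have h2 : n ∣ u ^ (2 * (k + 1)) - 1 := h1.dvd_of_dvd_mul_left hd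
  have h4 : u ^ (2 * (k + 1)) - 1 = (u ^ (k + 1) + 1) * (u ^ (k + 1) - 1) := by
    rw [← Nat.sq_sub_sq, one_pow, mul_comm 2, pow_mul]
  rw [h4] at h2
  by_cases hA : ∃ r : ℕ, r.Prime ∧ r ∣ n ∧ r ∣ u ^ (k + 1) - 1
  · left
    obtain ⟨r, hr, hrn, hr1⟩ := hA
    refine (hcop fun s hs hsn hs1 => ?_).dvd_of_dvd_mul_left h2
    exact hmix r s hr hs hrn hsn hr1 hs1
  · right
    push Not at hA
    exact (hcop fun s hs hsn => hA s hs hsn).dvd_of_dvd_mul_right h2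

/-- the final contradiction -/
theorem pm_false {S : Type*} [Group S] {p f q : ℕ} (h : TS S p q) (A : TA p f q) {X : ℕ}
    (hX : (X % 2 = 1 ∧ (∃ g : S, orderOf g = (X - 1) / 2) ∧ ∃ g : S, orderOf g = (X + 1) / 2) ∨
      (X % 2 = 0 ∧ (∃ g : S, orderOf g = X - 1) ∧ ∃ g : S, orderOf g = X + 1))
    (hX1 : 1 < X) (hd : q ^ 2 + q + 1 ∣ X - 1 ∨ q ^ 2 + q + 1 ∣ X + 1) : False := by
  have h11 := A.h11
  have hodd := A.n_odd
  have hq2 : 121 ≤ q ^ 2 := by nlinarith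
  have key : ∀ {M : ℕ}, q ^ 2 + q + 1 ∣ 2 * M → q ^ 2 + q + 1 ∣ M := by
    intro M hM
    refine Nat.Coprime.dvd_of_dvd_mul_left ?_ hM
    apply Nat.Coprime.symm; rw [Nat.coprime_two_left]
    exact Nat.odd_iff.2 hodd
  rcases hX with ⟨h1, ⟨g, hg⟩, ⟨g', hg'⟩⟩ | ⟨h1, ⟨g, hg⟩, ⟨g', hg'⟩⟩
  · have e1 : X - 1 = 2 * ((X - 1) / 2) := by omega
    have e2 : X + 1 = 2 * ((X + 1) / 2) := by omega
    rcases hd with h2 | h2
    · rw [e1] at h2
      have h3 := h.eq_of_dvd_order A g (by rw [hg]; exact key h2)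
      have h4 := h.max A g'
      omega
    · rw [e2] at h2
      have h3 := h.eq_of_dvd_order A g' (by rw [hg']; exact key h2)
      have h4 := h.le A g
      omega
  · rcases hd with h2 | h2
    · have h3 := h.eq_of_dvd_order A g (by rw [hg]; exact h2)
      have h4 := h.max A g'
      omega
    · have h3 := h.eq_of_dvd_order A g' (by rw [hg']; exact h2)
      have h4 := h.le A g
      omega

theorem dvd_card {S : Type*} [Group S] {p q : ℕ} (h : TS S p q) : q ^ 2 + q + 1 ∣ Nat.card S := by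
  obtain ⟨g, hg⟩ := h.ex
  rw [← hg]
  exact orderOf_dvd_natCard g

theorem not_psp {S : Type*} [Group S] {p f q : ℕ} (h : TS S p q) (A : TA p f q) : ¬ IsPSp S := by
  rintro ⟨F, _, _, m, hm, -, ⟨e⟩⟩
  replace h := h.congr e
  have hF : 2 ≤ Nat.card F := Finite.one_lt_card
  have hd : q ^ 2 + q + 1 ∣ Nat.card F ^ (m ^ 2) * ∏ i ∈ Finset.range m, (Nat.card F ^ (2 * (i + 1)) - 1) := by
    have h1 := (dvd_card h).trans (Subgroup.card_quotient_dvd_card _)
    rwa [Cfsg.Agent.S0245.result (F := F) rfl m, ← Nat.card_eq_fintype_card] at h1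
  have hprime : ∀ r : ℕ, r.Prime → r ∣ q ^ 2 + q + 1 → r ≠ 2 ∧ r ∣ Nat.card (PSp m F) ∧ ¬ H94.PG.Adj (PSp m F) r 2 :=
    fun r hr hrn => ⟨(A.prime_facts hr hrn).1, hrn.trans (dvd_card h), fun hadj => h.not_conn_two A hrn hadj.conn⟩
  have hpm := dvd_pm (u := Nat.card F) (m := m) (by omega) hd ?_ ?_
  · have hX1 : 1 < Nat.card F ^ m := Nat.one_lt_pow (by omega) hF
    refine pm_false h A (X := Nat.card F ^ m) ?_ hX1 hpm
    rcases Nat.mod_two_eq_zero_or_one (Nat.card F ^ m) with h1 | h1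
    · right
      refine ⟨h1, ?_, ?_⟩
      · exact H377.exists_psp_tor_plus (by omega) (by omega) (Or.inl ⟨Nat.odd_iff.2 (by omega), dvd_rfl⟩)
      · exact H377.exists_psp_tor_minus (by omega) (by omega) (Or.inl ⟨Nat.odd_iff.2 (by omega), dvd_rfl⟩)
    · left
      have hX3 : 3 ≤ Nat.card F ^ m := by omega
      refine ⟨h1, ?_, ?_⟩
      · exact H377.exists_psp_tor_plus (by omega) (by omega) (Or.inr (by
          rw [Nat.mul_div_cancel' (by omega)]))
      · exact H377.exists_psp_tor_minus (by omega) (by omega) (Or.inr (by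
          rw [Nat.mul_div_cancel' (by omega)]))
  · intro r hr hrn
    obtain ⟨h2, h3, h4⟩ := hprime r hr hrn
    refine ⟨fun h5 => h4 (H377.psp_adj_two_of_char hm hr h2 h5), (H377.psp_info hm hr h2 h3 h4).2⟩
  · intro r s hr hs hrn hsn hr1 hs1
    rcases H377.psp_mixed hm hr hs (hprime r hr hrn).1 (hprime s hs hsn).1 hr1 hs1 with h5 | h5
    · exact h.not_near A hrn h5
    · exact h.not_near A hsn h5

theorem not_pomegaOdd {S : Type*} [Group S] {p f q : ℕ} (h : TS S p q) (A : TA p f q) : ¬ IsPOmegaOdd S := by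
  rintro ⟨F, _, _, m, hm, ho, ⟨e⟩⟩
  rw [← Nat.card_eq_fintype_card] at ho
  replace h := h.congr e
  have hF : 2 ≤ Nat.card F := Finite.one_lt_card
  have hd : q ^ 2 + q + 1 ∣ Nat.card F ^ (m ^ 2) * ∏ i ∈ Finset.range m, (Nat.card F ^ (2 * (i + 1)) - 1) := by
    have h1 := Dvd.dvd.mul_left (dvd_card h) 2
    rwa [Cfsg.Agent.S0292.result (F := F) rfl (by rwa [← Nat.card_eq_fintype_card]) m hm,
      ← Nat.card_eq_fintype_card] at h1
  have hprime : ∀ r : ℕ, r.Prime → r ∣ q ^ 2 + q + 1 → r ≠ 2 ∧ r ∣ Nat.card (POmega F (quadFormOdd m F)) ∧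
      ¬ H94.PG.Adj (POmega F (quadFormOdd m F)) r 2 :=
    fun r hr hrn => ⟨(A.prime_facts hr hrn).1, hrn.trans (dvd_card h), fun hadj => h.not_conn_two A hrn hadj.conn⟩
  have hpm := dvd_pm (u := Nat.card F) (m := m) (by omega) hd ?_ ?_
  · have hX1 : 1 < Nat.card F ^ m := Nat.one_lt_pow (by omega) hF
    refine pm_false h A (X := Nat.card F ^ m) ?_ hX1 hpm
    have h1 : Nat.card F ^ m % 2 = 1 := Nat.odd_iff.1 ho.pow
    left
    refine ⟨h1, ?_, ?_⟩
    · exact H377.OOdd.exists_even_tor ho hm (H377.elt_tor_plus (by omega) (by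
        rw [Nat.mul_div_cancel' (by omega)]))
    · exact H377.OOdd.exists_even_tor ho hm (H377.elt_tor_minus (by omega) (by
        rw [Nat.mul_div_cancel' (by omega)]))
  · intro r hr hrn
    obtain ⟨h2, h3, h4⟩ := hprime r hr hrn
    refine ⟨fun h5 => h4 (H377.OOdd.adj_two_of_char ho hm hr h2 h5), (H377.OOdd.info ho hm hr h2 h3 h4).2⟩
  · intro r s hr hs hrn hsn hr1 hs1
    rcases H377.OOdd.mixed ho hm hr hs (hprime r hr hrn).1 (hprime s hs hsn).1 hr1 hs1 with h5 | h5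
    · exact (hprime r hr hrn).2.2 h5
    · exact (hprime s hs hsn).2.2 h5

end Cfsg.Agent.H366.T
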