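import Cfsg.Agent.H366.TSporNum
import Cfsg.Agent.H366.TSp
import Cfsg.Agent.OrdDiv.Main

/-!
# No sporadic group (nor the Tits group) satisfies `TS` (helper366, for S3455)
-/

set_option autoImplicit false

namespace Cfsg.Agent.H366.T

open Cfsg Subgroup
open Cfsg.Agent.OrdDiv (OrderTable spor Real Grp)

universe u

theorem not_dvd_of_mod {q l : ℕ} (hl : l.Prime) (h1 : l % 3 ≠ 1) (h3 : l ≠ 3) : ¬ l ∣ q ^ 2 + q + 1 := fun h =>
  h1 (prime_mod_three hl h h3)

/-- the part of the order with primes `1 mod 3` -/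
theorem dvd_part {p f q c : ℕ} (A : TA p f q) (hd : q ^ 2 + q + 1 ∣ c)
    (hc : c ∣ (2 ^ 46 * 3 ^ 20 * 5 ^ 9 * 11 ^ 3 * 17 * 23 * 29 * 41 * 47 * 59 * 71) *
      (7 ^ 6 * (13 ^ 3 * (19 ^ 1 * (31 ^ 1 * (37 ^ 1 * (43 ^ 1 * (67 ^ 1 * 1)))))))) :
    q ^ 2 + q + 1 ∣ 7 ^ 6 * (13 ^ 3 * (19 ^ 1 * (31 ^ 1 * (37 ^ 1 * (43 ^ 1 * (67 ^ 1 * 1)))))) := by
  have h3 : ¬ 3 ∣ q ^ 2 + q + 1 := fun h3 => (A.prime_facts Nat.prime_three h3).2.1 rfl
  have key : ∀ {l : ℕ}, l.Prime → l % 3 ≠ 1 → l ≠ 3 → Nat.Coprime (q ^ 2 + q + 1) l := fun hl h1 h2 =>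
    ((Nat.Prime.coprime_iff_not_dvd hl).2 (not_dvd_of_mod hl h1 h2)).symm
  refine Nat.Coprime.dvd_of_dvd_mul_left ?_ (hd.trans hc)
  refine Nat.Coprime.mul_right (Nat.Coprime.mul_right (Nat.Coprime.mul_right (Nat.Coprime.mul_right
    (Nat.Coprime.mul_right (Nat.Coprime.mul_right (Nat.Coprime.mul_right (Nat.Coprime.mul_right
    (Nat.Coprime.mul_right (Nat.Coprime.mul_right ?_ ?_) ?_) ?_) ?_) ?_) ?_) ?_) ?_) ?_) ?_
  · exact (key (by norm_num) (by norm_num) (by norm_num)).pow_right _
  · exact ((Nat.Prime.coprime_iff_not_dvd Nat.prime_three).2 h3).symm.pow_right _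
  · exact (key (by norm_num) (by norm_num) (by norm_num)).pow_right _
  · exact (key (by norm_num) (by norm_num) (by norm_num)).pow_right _
  · exact key (by norm_num) (by norm_num) (by norm_num)
  · exact key (by norm_num) (by norm_num) (by norm_num)
  · exact key (by norm_num) (by norm_num) (by norm_num)
  · exact key (by norm_num) (by norm_num) (by norm_num)
  · exact key (by norm_num) (by norm_num) (by norm_num)
  · exact key (by norm_num) (by norm_num) (by norm_num)
  · exact key (by norm_num) (by norm_num) (by norm_num)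

theorem spor_dvd : ∀ x ∈ spor, x.2 ∣ (2 ^ 46 * 3 ^ 20 * 5 ^ 9 * 11 ^ 3 * 17 * 23 * 29 * 41 * 47 * 59 * 71) *
      (7 ^ 6 * (13 ^ 3 * (19 ^ 1 * (31 ^ 1 * (37 ^ 1 * (43 ^ 1 * (67 ^ 1 * 1))))))) := by decide +kernel

theorem spor_big : ∀ x ∈ spor, 36673 ∣ x.2 → 17 ∣ x.2 := by decide +kernel

theorem spor_small : ∀ x ∈ spor, 133 ∣ x.2 → 13 ∣ x.2 ∨ 31 ∣ x.2 ∨ x.2 = 175560 ∨ x.2 = 273030912000000 := by
  decide +kernel

/-- **Sylow's theorem for the prime 19** -/
theorem sylow_false {G : Type*} [Group G] [Finite G] (h : TS G 11 11) (A : TA 11 1 11)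
    (hc : Nat.card G = 175560 ∨ Nat.card G = 273030912000000) : False := by
  have h19 : Nat.Prime 19 := by norm_num
  have hfact : Fact (Nat.Prime 19) := ⟨h19⟩
  obtain ⟨g, hg⟩ := h.ex
  norm_num at hg
  have hx : orderOf (g ^ 7) = 19 := by
    rw [orderOf_pow' g (by norm_num), hg]; norm_num
  set x := g ^ 7 with hxdef
  -- the centralizer
  have hC7 : ∀ l : ℕ, l.Prime → l ∣ Nat.card (centralizer ({x} : Set G)) → l = 7 ∨ l = 19 := by
    intro l hl hld
    have := Fact.mk hl
    by_cases hl19 : l = 19
    · exact Or.inr hl19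
    obtain ⟨y, hy⟩ := exists_prime_orderOf_dvd_card' l hld
    have hcomm : Commute x (y : G) := by
      have := mem_centralizer_singleton_iff.1 y.2
      exact this.symm
    have hy' : orderOf (y : G) = l := by rw [Subgroup.orderOf_coe, hy]
    have h1 : orderOf (x * (y : G)) = 19 * l := by
      rw [hcomm.orderOf_mul_eq_mul_orderOf_of_coprime (by
        rw [hx, hy']; exact (Nat.coprime_primes h19 hl).2 (Ne.symm hl19)), hx, hy']
    have h2 := h.dvd_of_mul A h19 (by norm_num) ⟨_, h1⟩
    norm_num at h2
    have h3 : l ∣ 7 * 19 := h2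
    rcases (Nat.Prime.dvd_mul hl).1 h3 with h4 | h4
    · exact Or.inl ((Nat.prime_dvd_prime_iff_eq hl (by norm_num)).1 h4)
    · exact Or.inr ((Nat.prime_dvd_prime_iff_eq hl h19).1 h4)
  have hCd : Nat.card (centralizer ({x} : Set G)) ∣ Nat.card G := Subgroup.card_subgroup_dvd_card _
  have hg133 : 133 ∣ Nat.card (centralizer ({x} : Set G)) := by
    have hgC : g ∈ centralizer ({x} : Set G) := by
      rw [mem_centralizer_singleton_iff, hxdef]
      exact ((Commute.refl g).pow_right 7).eq
    have := orderOf_dvd_natCard (⟨g, hgC⟩ : centralizer ({x} : Set G))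
    rwa [Subgroup.orderOf_mk, hg] at this
  have hCcard : Nat.card (centralizer ({x} : Set G)) = 133 := by
    obtain ⟨k, hk⟩ := hg133
    have hk1 : k = 1 := by
      by_contra hne
      obtain ⟨l, hl, hlk⟩ := Nat.exists_prime_and_dvd hne
      have h1 := hC7 l hl (by rw [hk]; exact hlk.mul_left _)
      have h2 : 133 * l ∣ Nat.card G := by
        refine dvd_trans ?_ hCd
        rw [hk]; exact Nat.mul_dvd_mul_left _ hlk
      rcases h1 with rfl | rfl
      · rcases hc with hc | hc <;> rw [hc] at h2 <;> norm_num at h2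
      · rcases hc with hc | hc <;> rw [hc] at h2 <;> norm_num at h2
    rw [hk, hk1]
  have hN := H20.FrobTools.card_normalizer_dvd h19 hx
  rw [hCcard] at hN
  -- `133` divides the order of the normalizer
  have hCN : centralizer ({x} : Set G) ≤ normalizer (zpowers x : Set G) := by
    rw [← H20.FrobTools.centralizer_zpowers]
    exact Subgroup.centralizer_le_normalizer _
  have h133 : 133 ∣ Nat.card (normalizer (zpowers x : Set G)) := by
    rw [← hCcard]; exact Subgroup.card_dvd_of_le hCN
  obtain ⟨k, hk⟩ := h133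
  have hk18 : k ∣ 18 := by
    rw [hk] at hN
    exact Nat.dvd_of_mul_dvd_mul_left (by norm_num) hN
  -- Sylow
  have hPc : Nat.card (zpowers x) = 19 := by rw [Nat.card_zpowers, hx]
  have hfac : (Nat.card G).factorization 19 = 1 := by
    rcases hc with hc | hc
    · rw [hc, show (175560 : ℕ) = 19 * 9240 by norm_num, Nat.factorization_mul (by norm_num) (by norm_num),
        Finsupp.add_apply, Nat.Prime.factorization_self h19, Nat.factorization_eq_zero_of_not_dvd (by norm_num)]
    · rw [hc, show (273030912000000 : ℕ) = 19 * 14370048000000 by norm_num,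
        Nat.factorization_mul (by norm_num) (by norm_num),
        Finsupp.add_apply, Nat.Prime.factorization_self h19, Nat.factorization_eq_zero_of_not_dvd (by norm_num)]
  let P : Sylow 19 G := Sylow.ofCard (zpowers x) (by rw [hPc, hfac, pow_one])
  have hPx : (P : Subgroup G) = zpowers x := rfl
  have hidx := P.card_eq_index_normalizer
  have hmod := card_sylow_modEq_one 19 G
  have hidx2 : Nat.card (Sylow 19 G) = (normalizer (zpowers x : Set G)).index := hidx
  rw [hidx2] at hmod
  have hmul := (normalizer (zpowers x : Set G)).card_mul_index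
  rw [hk] at hmul
  set i := (normalizer (zpowers x : Set G)).index with hi
  have hi19 : i % 19 = 1 := hmod
  have hkle := Nat.le_of_dvd (by norm_num) hk18
  rcases hc with hc | hc
  · rw [hc] at hmul
    interval_cases k <;> omega
  · rw [hc] at hmul
    interval_cases k <;> omega

theorem not_spor (T : OrderTable.{u}) {S : Type u} [Group S] {p f q : ℕ} (h : TS S p q) (A : TA p f q)
    {x : Grp × ℕ} (hx : x ∈ spor) (hr : Real x.1 S) : False := by
  have hcard := T.spor S x hx hr
  have hd := dvd_card h
  rw [hcard] at hd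
  have hpos : x.2 ≠ 0 := by
    have : ∀ x ∈ spor, x.2 ≠ 0 := by decide
    exact this x hx
  have hfin : Finite S := Nat.finite_of_card_ne_zero (by rw [hcard]; exact hpos)
  have hq := q_cases A (dvd_part A hd (spor_dvd x hx))
  rcases hq with rfl | rfl
  · have hp : p = 11 := by
      have h1 : p ∣ 11 := A.dvd_q
      exact (Nat.prime_dvd_prime_iff_eq A.hp (by norm_num)).1 h1
    subst hp
    norm_num at hd
    have hAA : TA 11 1 11 := ⟨by norm_num, by norm_num, by norm_num, by norm_num, by norm_num, by norm_num⟩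
    rcases spor_small x hx hd with h1 | h1 | h1
    · have : Fact (Nat.Prime 13) := ⟨by norm_num⟩
      rw [← hcard] at h1
      obtain ⟨g, hg⟩ := exists_prime_orderOf_dvd_card' 13 h1
      have := h.ord g
      rw [hg] at this
      norm_num at this
    · have : Fact (Nat.Prime 31) := ⟨by norm_num⟩
      rw [← hcard] at h1
      obtain ⟨g, hg⟩ := exists_prime_orderOf_dvd_card' 31 h1
      have := h.ord g
      rw [hg] at this
      norm_num at this
    · rw [← hcard] at h1
      exact sylow_false h hAA h1
  · have hp : p = 191 := by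
      have h1 : p ∣ 191 := A.dvd_q
      exact (Nat.prime_dvd_prime_iff_eq A.hp (by norm_num)).1 h1
    subst hp
    norm_num at hd
    have h1 := spor_big x hx hd
    have : Fact (Nat.Prime 17) := ⟨by norm_num⟩
    rw [← hcard] at h1
    obtain ⟨g, hg⟩ := exists_prime_orderOf_dvd_card' 17 h1
    have := h.ord g
    rw [hg] at this
    norm_num at this

theorem not_sporadic (T : OrderTable.{u}) {S : Type u} [Group S] {p f q : ℕ} (h : TS S p q) (A : TA p f q) :
    ¬ IsSporadicGroup S := by
  have key : ∀ (g : Grp), g ∈ spor.map (fun x => x.1) → Real g S → False := fun g hg hr => by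
    obtain ⟨x, hx, rfl⟩ := List.mem_map.1 hg
    exact not_spor T h A hx hr
  rintro (h | h | h | h | h | h | h | h | h | h | h | h | h | h | h | h | h | h | h | h | h | h | h | h | h | h)
  · exact key .m11 (by decide) h
  · exact key .m12 (by decide) h
  · exact key .m22 (by decide) h
  · exact key .m23 (by decide) h
  · exact key .m24 (by decide) h
  · exact key .j1 (by decide) h
  · exact key .j2 (by decide) h
  · exact key .j3 (by decide) h
  · exact key .j4 (by decide) h
  · exact key .co1 (by decide) h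
  · exact key .co2 (by decide) h
  · exact key .co3 (by decide) h
  · exact key .mcl (by decide) h
  · exact key .hs (by decide) h
  · exact key .suz (by decide) h
  · exact key .he (by decide) h
  · exact key .ru (by decide) h
  · exact key .on (by decide) h
  · exact key .ly (by decide) h
  · exact key .fi22 (by decide) h
  · exact key .fi23 (by decide) h
  · exact key .fi24 (by decide) h
  · exact key .hn (by decide) h
  · exact key .th (by decide) h
  · exact key .b (by decide) h
  · exact key .m (by decide) h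

theorem not_tits (T : OrderTable.{u}) {S : Type u} [Group S] {p f q : ℕ} (h : TS S p q) (A : TA p f q) :
    ¬ Lie.IsoTits S := fun h1 => by
  have key : ∀ (g : Grp), g ∈ spor.map (fun x => x.1) → Real g S → False := fun g hg hr => by
    obtain ⟨x, hx, rfl⟩ := List.mem_map.1 hg
    exact not_spor T h A hx hr
  exact key .tits (by decide) h1

end Cfsg.Agent.H366.T
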