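import Cfsg.Agent.H366.TBase
import Cfsg.Agent.H366.TSpor
import Cfsg.Agent.H366.IsoE6
import Cfsg.Agent.H366.IsoE6T
import Cfsg.Agent.H437.Iso.Untw
import Cfsg.Agent.H437.Iso.TwD4
import Cfsg.Prelude.Def_Classification2

/-!
# No exceptional group satisfies `TS` (helper366, for S3455), first part: `G₂`, `F₄`, `E₆`, `²E₆`, `³D₄`
-/

set_option autoImplicit false

namespace Cfsg.Agent.H366.T

open Cfsg Cfsg.Lie Cfsg.Lie.ChevalleyDatum Cfsg.Agent.H360.Iso

universe u

theorem TS.isoN {S : Type*} [Group S] {p f q : ℕ} (h : TS S p q) (A : TA p f q) : IsoN S (q ^ 2 + q + 1) where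
  elt := h.ex
  iso x r hr hrn hd := h.iso A hr hrn hd
  not_two_dvd := by
    have := A.n_odd
    omega
  not_three_dvd h3 := (A.prime_facts Nat.prime_three h3).2.1 rfl
  big := by
    have := A.n_ge
    omega

/-- large odd orders -/
theorem TS.eq_of_odd {S : Type*} [Group S] {p f q : ℕ} (h : TS S p q) (A : TA p f q) {x : ℕ}
    (hx : ∃ g : S, orderOf g = x) (ho : x % 2 = 1) (hb : q ^ 2 - 1 < 2 * x) : x = q ^ 2 + q + 1 := by
  obtain ⟨g, rfl⟩ := hx
  have h4 := A.h4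
  have hq2 : q ^ 2 % 2 = 1 := by
    rw [Nat.pow_mod]
    have : q % 2 = 1 := by omega
    rw [this]
  have h11 := A.h11
  have hq : q ≤ q ^ 2 := Nat.le_self_pow two_ne_zero _
  rcases h.big A g hb with h1 | h1 | ⟨-, h1⟩
  · exact h1
  · omega
  · omega

theorem TS.max' {S : Type*} [Group S] {p f q : ℕ} (h : TS S p q) (A : TA p f q) {x : ℕ}
    (hx : ∃ g : S, orderOf g = x) : x ≤ q ^ 2 + q + 1 := by
  obtain ⟨g, rfl⟩ := hx
  exact h.max A g

theorem not_g2 {S : Type*} [Group S] {p f q : ℕ} (h : TS S p q) (A : TA p f q) : ¬ Lie.IsoChevG2 S := by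
  rintro ⟨F, _, _, -, ⟨e⟩⟩
  replace h := h.congr e
  have h11 := A.h11
  have hu : 1 < Nat.card F := Finite.one_lt_card
  set u := Nat.card F with hudef
  have huu : u ≤ u ^ 2 := Nat.le_self_pow two_ne_zero _
  rcases H437.Iso.g2_row (h.isoN A) with h1 | h1
  · have hq : q = u := by
      rcases Nat.lt_trichotomy q u with h2 | h2 | h2
      · exfalso; nlinarith
      · exact h2
      · exfalso; nlinarith
    have h2 := h.eq_of_odd A (H437.Iso.g2_order6 (F := F)) (by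
      rw [← hudef, ← hq]
      have h4 := A.h4
      have hq2 : q ^ 2 % 2 = 1 := by
        rw [Nat.pow_mod]
        have : q % 2 = 1 := by omega
        rw [this]
      have : q ≤ q ^ 2 := Nat.le_self_pow two_ne_zero _
      omega) (by
      rw [← hudef, ← hq]
      have : 11 * q ≤ q ^ 2 := by nlinarith
      omega)
    rw [← hudef, ← hq] at h2
    have : q ≤ q ^ 2 := Nat.le_self_pow two_ne_zero _
    omega
  · have h2 := h.max' A (H437.Iso.g2_order3 (F := F))
    rw [← hudef] at h1 h2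
    omega

/-- no square between consecutive squares -/
theorem not_mul_succ {a b : ℕ} (ha : 0 < a) (h : a * (a + 1) = b ^ 2) : False := by
  rcases Nat.lt_or_ge a b with h1 | h1
  · have : (a + 1) ^ 2 ≤ b ^ 2 := Nat.pow_le_pow_left h1 2
    nlinarith
  · have : b ^ 2 ≤ a ^ 2 := Nat.pow_le_pow_left h1 2
    nlinarith

theorem not_f4 {S : Type*} [Group S] {p f q : ℕ} (h : TS S p q) (A : TA p f q) : ¬ Lie.IsoF4 S := by
  rintro ⟨F, _, _, ⟨e⟩⟩
  replace h := h.congr e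
  have h11 := A.h11
  have hu : 1 < Nat.card F := Finite.one_lt_card
  set u := Nat.card F with hudef
  rcases H437.Iso.f4_row (h.isoN A) with h1 | ⟨-, h1⟩
  · have h2 := h.max' A (H437.Iso.f4_order8 (F := F))
    rw [← hudef] at h1 h2
    have h3 : 1 ≤ u ^ 2 := Nat.one_le_pow _ _ (by omega)
    have h4 : u ^ 2 ≤ u ^ 4 := Nat.pow_le_pow_right (by omega) (by norm_num)
    omega
  · rw [← hudef] at h1
    refine not_mul_succ (a := q) (b := u ^ 2) (by omega) ?_
    have e1 : (u ^ 2) ^ 2 = u ^ 4 := by ring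
    have e2 : q * (q + 1) = q ^ 2 + q := by ring
    rw [e1, e2]
    omega

theorem not_e6 {S : Type*} [Group S] {p f q : ℕ} (h : TS S p q) (A : TA p f q) : ¬ Lie.IsoChevE6 S := by
  rintro ⟨F, _, _, ⟨e⟩⟩
  replace h := h.congr e
  have hu : 1 < Nat.card F := Finite.one_lt_card
  have h1 := Iso.e6_row (h.isoN A)
  have h2 := h.max' A (Iso.e6_orderC (F := F))
  have hgd : Nat.gcd 3 (Nat.card F - 1) ∣ (Nat.card F ^ 2 + Nat.card F + 1) * (Nat.card F ^ 4 - Nat.card F ^ 2 + 1) :=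
    Dvd.dvd.mul_right (Iso.g3_dvd _ hu.le) _
  have h3 := Nat.mul_le_mul_right (Nat.gcd 3 (Nat.card F - 1)) h2
  rw [Nat.div_mul_cancel hgd, h1] at h3
  set u := Nat.card F with hudef
  have h4 : u ^ 2 ≤ u ^ 4 := Nat.pow_le_pow_right (by omega) (by norm_num)
  zify [h4] at h3
  have hu' : (2 : ℤ) ≤ u := by exact_mod_cast hu
  have h5 : 0 < (u : ℤ) * ((u : ℤ) ^ 2 - 1) ^ 2 := by
    have : 0 < (u : ℤ) ^ 2 - 1 := by nlinarith
    positivity
  nlinarith

theorem not_2e6 {S : Type*} [Group S] {p f q : ℕ} (h : TS S p q) (A : TA p f q) : ¬ Lie.Iso2E6 S := by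
  rintro ⟨K, _, _, u, hu, hK, ⟨e⟩⟩
  replace h := h.congr e
  have hu1 : 1 < u := hu.one_lt
  have hn := A.n_ge
  have hg0 : 0 < Nat.gcd 3 (u + 1) := Nat.gcd_pos_of_pos_left _ (by norm_num)
  have hg3 : Nat.gcd 3 (u + 1) ≤ 3 := Nat.gcd_le_left _ (by norm_num)
  rcases Iso.e6t_row hu hK (h.isoN A) with h1 | ⟨-, h1⟩
  · have hgd : Nat.gcd 3 (u + 1) ∣ (u ^ 2 - u + 1) * (u ^ 4 - u ^ 2 + 1) := (Iso.gt3_dvd6 u).mul_right _
    obtain ⟨x, hx⟩ := hgd
    have hxo : ∃ g : ↥(twistedE6 K u), orderOf g = x := by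
      have h2 := Iso.e6t_orderC hu hK
      rw [hx, Nat.mul_div_cancel_left _ hg0] at h2
      exact h2
    have h4 : u ^ 2 ≤ u ^ 4 := Nat.pow_le_pow_right (by omega) (by norm_num)
    have h5 : u ≤ u ^ 2 := Nat.le_self_pow two_ne_zero _
    have h6 : u ^ 3 ≤ u ^ 6 := Nat.pow_le_pow_right (by omega) (by norm_num)
    have hxodd : x % 2 = 1 := by
      have h7 : ((u ^ 2 - u + 1) * (u ^ 4 - u ^ 2 + 1)) % 2 = 1 := by
        rw [Nat.mul_mod]
        have e1 : u ^ 2 % 2 = u % 2 := by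
          rcases Nat.mod_two_eq_zero_or_one u with h | h <;> simp [Nat.pow_mod, h]
        have e2 : u ^ 4 % 2 = u % 2 := by
          rcases Nat.mod_two_eq_zero_or_one u with h | h <;> simp [Nat.pow_mod, h]
        have e3 : (u ^ 2 - u + 1) % 2 = 1 := by omega
        have e4 : (u ^ 4 - u ^ 2 + 1) % 2 = 1 := by omega
        rw [e3, e4]
      rw [hx, Nat.mul_mod] at h7
      rcases Nat.mod_two_eq_zero_or_one x with h8 | h8
      · rw [h8, mul_zero] at h7
        norm_num at h7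
      · exact h8
    zify [h5, h4] at hx
    zify [h6] at h1
    have hu' : (2 : ℤ) ≤ u := by exact_mod_cast hu1
    set g : ℤ := ((Nat.gcd 3 (u + 1) : ℕ) : ℤ) with hg
    have hg0' : 0 < g := by rw [hg]; exact_mod_cast hg0
    have hg3' : g ≤ 3 := by rw [hg]; exact_mod_cast hg3
    -- `u ≥ 3`
    have hu3 : (3 : ℤ) ≤ u := by
      by_contra hlt
      have h7 : (u : ℤ) = 2 := by omega
      rw [h7] at h1
      have hn' : (133 : ℤ) ≤ (q : ℤ) ^ 2 + q + 1 := by exact_mod_cast hn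
      nlinarith
    have h7 : g * ((q : ℤ) ^ 2 + q + 1) < g * (2 * x) := by
      have h8 : g * (2 * x) - g * ((q : ℤ) ^ 2 + q + 1) = (u : ℤ) ^ 5 * (u - 2) + 3 * (u : ℤ) ^ 3 - 2 * u + 1 := by
        linear_combination -2 * hx - h1
      have h9 : 0 ≤ (u : ℤ) ^ 5 * (u - 2) := mul_nonneg (by positivity) (by linarith)
      have h10 : (u : ℤ) ≤ (u : ℤ) ^ 3 := le_self_pow₀ (by linarith) (by norm_num)
      linarith
    have h8 : (q : ℤ) ^ 2 + q + 1 < 2 * x := lt_of_mul_lt_mul_left h7 hg0'.le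
    have h9 := h.eq_of_odd A hxo hxodd (by
      have : q ^ 2 + q + 1 < 2 * x := by exact_mod_cast h8
      omega)
    have h10 : (x : ℤ) = (q : ℤ) ^ 2 + q + 1 := by exact_mod_cast h9
    rw [h10] at hx
    have h11 : (u : ℤ) * ((u : ℤ) ^ 2 - 1) ^ 2 = 0 := by linear_combination -h1 - hx
    have h12 : 0 < (u : ℤ) * ((u : ℤ) ^ 2 - 1) ^ 2 := by
      have : 0 < (u : ℤ) ^ 2 - 1 := by nlinarith
      positivity
    linarith
  · have h2 : q ^ 2 + q + 1 ∣ 13 * 19 := by
      have e1 : 13 * 17 * 19 = 17 * (13 * 19) := by norm_num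
      rw [e1] at h1
      refine Nat.Coprime.dvd_of_dvd_mul_left ?_ h1
      exact ((Nat.Prime.coprime_iff_not_dvd (by norm_num)).2 (not_dvd_of_mod (by norm_num) (by norm_num)
        (by norm_num))).symm
    obtain ⟨k, hk⟩ := h2
    have hk2 : k < 2 := by
      by_contra hk2
      have : 2 ≤ k := by omega
      nlinarith
    have hk1 : k ≠ 0 := by rintro rfl; omega
    have : k = 1 := by omega
    rw [this, mul_one] at hk
    have hq16 : q < 16 := by nlinarith
    have h11 := A.h11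
    interval_cases q <;> omega

theorem not_3d4 {S : Type*} [Group S] {p f q : ℕ} (h : TS S p q) (A : TA p f q) : ¬ Lie.Iso3D4 S := by
  rintro ⟨K, _, _, u, hu, hK, ⟨e⟩⟩
  replace h := h.congr e
  have hu1 : 1 < u := hu.one_lt
  have h1 := H437.Iso.d4_row hu hK (h.isoN A)
  have h2 := h.max' A (H437.Iso.d4_orderA hu hK)
  rw [h1] at h2
  have h4 : u ^ 2 ≤ u ^ 4 := Nat.pow_le_pow_right (by omega) (by norm_num)
  have h3 : 1 ≤ u ^ 3 := Nat.one_le_pow _ _ (by omega)
  zify [h4, h3] at h2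
  have hu' : (2 : ℤ) ≤ u := by exact_mod_cast hu1
  have h5 : (u : ℤ) ^ 3 = u * u ^ 2 := by ring
  have h6 : (4 : ℤ) ≤ (u : ℤ) ^ 2 := by nlinarith
  nlinarith

end Cfsg.Agent.H366.T
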