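import Cfsg.Agent.H366.TBase
import Cfsg.Agent.H366.TExc
import Cfsg.Agent.H414.IsoE7
import Cfsg.Agent.H414.IsoE8
import Cfsg.Agent.H360.Iso.Basic
import Cfsg.Agent.S1159
import Cfsg.Agent.H372.SzSpec
import Cfsg.Agent.OddCyclic.ClaimC.SzIso
import Cfsg.Prelude.Def_Classification2

/-!
# No exceptional group satisfies `TS` (helper366, for S3455), second part: `E₇`, `E₈`, `Sz`, `Ree`
-/

set_option autoImplicit false

namespace Cfsg.Agent.H366.T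

open Cfsg Cfsg.Lie Cfsg.Lie.ChevalleyDatum Cfsg.Agent.H360.Iso Cfsg.Agent.H414.Iso

universe u

theorem not_e7 {S : Type*} [Group S] {p f q : ℕ} (h : TS S p q) (A : TA p f q) : ¬ Lie.IsoE7 S := by
  rintro ⟨F, _, _, ⟨e⟩⟩
  replace h := h.congr e
  have hn := A.n_ge
  have hqq : q ^ 2 = q * q := pow_two q
  rcases e7_row (h.isoN A) with ⟨hF, h1 | h1⟩ | ⟨hF, h1 | h1⟩
  · omega
  · omega
  · have h2 := h.max' A (e7_order7 (F := F))
    rw [hF, h1] at h2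
    norm_num at h2
  · have hq : q < 40 := by nlinarith
    have h11 := A.h11
    interval_cases q <;> omega

theorem odd24 {u : ℕ} (hu : 2 ≤ u) : (u ^ 8 - u ^ 4 + 1) % 2 = 1 := by
  have h4 : u ^ 4 ≤ u ^ 8 := Nat.pow_le_pow_right (by omega) (by norm_num)
  have e1 : u ^ 8 % 2 = u ^ 4 % 2 := by
    rcases Nat.mod_two_eq_zero_or_one u with h | h <;> simp [Nat.pow_mod, h]
  generalize u ^ 8 = x at *
  generalize u ^ 4 = y at *
  omega

theorem le15 {v : ℤ} (hv : 2 ≤ v) : v ^ 8 - v ^ 7 + v ^ 5 - v ^ 4 + v ^ 3 - v + 1 ≤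
    v ^ 8 + v ^ 7 - v ^ 5 - v ^ 4 - v ^ 3 + v + 1 := by
  have e : (v ^ 8 + v ^ 7 - v ^ 5 - v ^ 4 - v ^ 3 + v + 1) - (v ^ 8 - v ^ 7 + v ^ 5 - v ^ 4 + v ^ 3 - v + 1) =
    2 * v * (v ^ 2 * (v ^ 2 * (v ^ 2 - 1) - 1) + 1) := by ring
  have h3 : 1 ≤ v ^ 2 - 1 := by nlinarith
  have h4 : 1 ≤ v ^ 2 * (v ^ 2 - 1) := by nlinarith
  have h5 : 0 ≤ v ^ 2 * (v ^ 2 * (v ^ 2 - 1) - 1) := mul_nonneg (by positivity) (by linarith)
  have h6 : 0 ≤ 2 * v * (v ^ 2 * (v ^ 2 * (v ^ 2 - 1) - 1) + 1) := mul_nonneg (by linarith) (by linarith)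
  linarith

theorem le20 {v : ℤ} (hv : 2 ≤ v) : v ^ 8 - v ^ 6 + v ^ 4 - v ^ 2 + 1 ≤
    v ^ 8 + v ^ 7 - v ^ 5 - v ^ 4 - v ^ 3 + v + 1 := by
  have e : (v ^ 8 + v ^ 7 - v ^ 5 - v ^ 4 - v ^ 3 + v + 1) - (v ^ 8 - v ^ 6 + v ^ 4 - v ^ 2 + 1) =
    v ^ 7 + v ^ 4 * (v ^ 2 - v - 2) - v ^ 3 + v ^ 2 + v := by ring
  have h2 : 0 ≤ v ^ 4 * (v ^ 2 - v - 2) := mul_nonneg (by positivity) (by nlinarith)
  have h3 : v ^ 3 ≤ v ^ 7 := pow_le_pow_right₀ (by linarith) (by norm_num)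
  have h4 : 0 ≤ v ^ 2 := by positivity
  linarith

theorem le24 {v : ℤ} (hv : 2 ≤ v) : v ^ 8 - v ^ 4 + 1 ≤ v ^ 8 + v ^ 7 - v ^ 5 - v ^ 4 - v ^ 3 + v + 1 := by
  have e : (v ^ 8 + v ^ 7 - v ^ 5 - v ^ 4 - v ^ 3 + v + 1) - (v ^ 8 - v ^ 4 + 1) =
    v ^ 3 * (v ^ 2 * (v ^ 2 - 1) - 1) + v := by ring
  have h3 : 1 ≤ v ^ 2 - 1 := by nlinarith
  have h4 : 1 ≤ v ^ 2 * (v ^ 2 - 1) := by nlinarith
  have h2 : 0 ≤ v ^ 3 * (v ^ 2 * (v ^ 2 - 1) - 1) := mul_nonneg (pow_nonneg (by linarith) _) (by linarith)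
  linarith

theorem lt24 {v : ℤ} (hv : 2 ≤ v) : v ^ 8 + v ^ 7 - v ^ 5 - v ^ 4 - v ^ 3 + v + 1 < 2 * (v ^ 8 - v ^ 4 + 1) := by
  have e : 2 * (v ^ 8 - v ^ 4 + 1) - (v ^ 8 + v ^ 7 - v ^ 5 - v ^ 4 - v ^ 3 + v + 1) =
    v ^ 7 * (v - 1) + v ^ 4 * (v - 1) + v ^ 3 - v + 1 := by ring
  have h2 : v ≤ v ^ 3 := le_self_pow₀ (by linarith) (by norm_num)
  have h3 : 0 ≤ v ^ 7 * (v - 1) := mul_nonneg (pow_nonneg (by linarith) _) (by linarith)
  have h4 : 0 ≤ v ^ 4 * (v - 1) := mul_nonneg (by positivity) (by linarith)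
  linarith

theorem ne24 {v : ℤ} (hv : 2 ≤ v) : v ^ 8 - v ^ 4 + 1 < v ^ 8 + v ^ 7 - v ^ 5 - v ^ 4 - v ^ 3 + v + 1 := by
  have e : (v ^ 8 + v ^ 7 - v ^ 5 - v ^ 4 - v ^ 3 + v + 1) - (v ^ 8 - v ^ 4 + 1) =
    v * ((v ^ 2 - 1) ^ 2 * (v ^ 2 + 1)) := by ring
  have h3 : 1 ≤ v ^ 2 - 1 := by nlinarith
  have h2 : 0 < v * ((v ^ 2 - 1) ^ 2 * (v ^ 2 + 1)) := by positivity
  linarith

theorem e8_num {u n : ℕ} (hu : 2 ≤ u) (h30 : u ^ 8 + u ^ 7 - u ^ 5 - u ^ 4 - u ^ 3 + u + 1 ≤ n)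
    (h : n = u ^ 8 - u ^ 7 + u ^ 5 - u ^ 4 + u ^ 3 - u + 1 ∨ n = u ^ 8 - u ^ 6 + u ^ 4 - u ^ 2 + 1 ∨
      n = u ^ 8 - u ^ 4 + 1 ∨ n = u ^ 8 + u ^ 7 - u ^ 5 - u ^ 4 - u ^ 3 + u + 1) :
    (u ^ 8 - u ^ 4 + 1) % 2 = 1 ∧ n < 2 * (u ^ 8 - u ^ 4 + 1) ∧ u ^ 8 - u ^ 4 + 1 < n := by
  have c15 := cast15 hu
  have c20 := cast20 hu
  have c24 := cast24 hu
  have c30 := cast30 hu
  have hv : (2 : ℤ) ≤ u := by exact_mod_cast hu
  have g15 := le15 hv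
  have g20 := le20 hv
  have g24 := le24 hv
  have g24' := lt24 hv
  have g24'' := ne24 hv
  rw [← c15, ← c30] at g15
  rw [← c20, ← c30] at g20
  rw [← c24, ← c30] at g24 g24' g24''
  have hodd := odd24 hu
  refine ⟨hodd, ?_⟩
  generalize u ^ 8 - u ^ 7 + u ^ 5 - u ^ 4 + u ^ 3 - u + 1 = n15 at *
  generalize u ^ 8 - u ^ 6 + u ^ 4 - u ^ 2 + 1 = n20 at *
  generalize u ^ 8 - u ^ 4 + 1 = n24 at *
  generalize u ^ 8 + u ^ 7 - u ^ 5 - u ^ 4 - u ^ 3 + u + 1 = n30 at *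
  clear c15 c20 c24 c30
  omega

theorem not_e8 {S : Type*} [Group S] {p f q : ℕ} (h : TS S p q) (A : TA p f q) : ¬ Lie.IsoE8 S := by
  rintro ⟨F, _, _, ⟨e⟩⟩
  replace h := h.congr e
  have hu : 2 ≤ Nat.card F := Finite.one_lt_card
  obtain ⟨h1, h2, h3⟩ := e8_num hu (h.max' A (e8_order30 (F := F))) (e8_row (h.isoN A))
  have h4 := h.eq_of_odd A (e8_order24 (F := F)) h1 (lt_of_le_of_lt (by omega) h2)
  rw [h4] at h3
  exact lt_irrefl _ h3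

theorem not_ree {S : Type*} [Group S] {p f q : ℕ} (h : TS S p q) (A : TA p f q) : ¬ Lie.IsoRee S := by
  rintro ⟨K, _, _, m, hm, hK, ⟨e⟩⟩
  replace h := h.congr e
  have hI := h.isoN A
  have hb := A.n_ge
  have h11 := A.h11
  have hsp := S1159.result (K := K) hm hK
  obtain ⟨t, ht, ht3⟩ : ∃ t, 3 ^ m = t ∧ 3 ≤ t := ⟨3 ^ m, rfl, by
    calc 3 = 3 ^ 1 := by norm_num
      _ ≤ 3 ^ m := Nat.pow_le_pow_right (by norm_num) hm⟩
  have e1 : 3 ^ (2 * m + 1) = 3 * t ^ 2 := by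
    rw [← ht, ← pow_mul, pow_succ]
    ring
  have e2 : 3 ^ (m + 1) = 3 * t := by
    rw [← ht]
    ring
  have hto : Odd t := by
    rw [← ht]
    exact (by decide : Odd 3).pow
  rw [e1, e2] at hsp
  have hexi : ∀ d, (d ∣ 6 ∨ d ∣ 9 ∨ d ∣ 3 * t ^ 2 - 1 ∨ d ∣ (3 * t ^ 2 + 1) / 2 ∨ d ∣ 3 * t ^ 2 - 3 * t + 1 ∨
      d ∣ 3 * t ^ 2 + 3 * t + 1) → ∃ g : ↥(Cfsg.Lie.twistedG2 K (3 ^ m)), orderOf g = d := fun d hd => (hsp d).2 hd
  obtain ⟨a, ha⟩ := hto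
  have ht2 : t ^ 2 = 4 * a ^ 2 + 4 * a + 1 := by rw [ha]; ring
  have hB := hexi _ (Or.inr (Or.inr (Or.inr (Or.inr (Or.inr dvd_rfl)))))
  have hA := hexi _ (Or.inr (Or.inr (Or.inl dvd_rfl)))
  have hD := hexi _ (Or.inr (Or.inr (Or.inr (Or.inl dvd_rfl))))
  have htt : 3 * t ≤ t ^ 2 := by nlinarith
  have hmax := h.max' A hB
  obtain ⟨r, hr, hrn⟩ := hI.exists_prime
  rcases (hsp _).1 hI.elt with h1 | h1 | h1 | h1 | h1 | h1
  · have := Nat.le_of_dvd (by norm_num) h1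
    omega
  · have := Nat.le_of_dvd (by norm_num) h1
    omega
  · refine hI.not_two_dvd (dvd_trans ?_ (hI.dvd_of_elt hA hr hrn (hrn.trans h1)))
    exact ⟨6 * a ^ 2 + 6 * a + 1, by omega⟩
  · refine hI.not_two_dvd (dvd_trans ?_ (hI.dvd_of_elt hD hr hrn (hrn.trans h1)))
    exact ⟨3 * a ^ 2 + 3 * a + 1, by omega⟩
  · have := Nat.le_of_dvd (by omega) h1
    omega
  · have h2 := Nat.le_of_dvd (by omega) h1
    have h3 : q * (q + 1) = 3 * t * (t + 1) := by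
      have e3 : q * (q + 1) = q ^ 2 + q := by ring
      have e4 : 3 * t * (t + 1) = 3 * t ^ 2 + 3 * t := by ring
      omega
    have hqc : Nat.Coprime q (q + 1) := by
      rw [Nat.coprime_self_add_right]
      exact Nat.coprime_one_right q
    have h3t : Nat.Coprime (3 * t) (t + 1) := by
      refine Nat.Coprime.mul_left ?_ ?_
      · rw [Nat.Prime.coprime_iff_not_dvd Nat.prime_three]
        intro h4
        have h5 : 3 ∣ t := by
          rw [← ht]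
          exact dvd_pow_self 3 (by omega)
        omega
      · rw [Nat.coprime_self_add_right]
        exact Nat.coprime_one_right t
    by_cases hp3 : p = 3
    · have hq3 : q = 3 ^ f := by rw [A.hq, hp3]
      have h4 : Nat.Coprime (3 * t) (q + 1) := by
        have h5 : 3 * t = 3 ^ (m + 1) := e2.symm
        rw [h5]
        refine Nat.Coprime.pow_left _ ?_
        rw [Nat.Prime.coprime_iff_not_dvd Nat.prime_three]
        intro h4
        have h5 : 3 ∣ q := by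
          rw [hq3]
          exact dvd_pow_self 3 A.hf
        omega
      have h5 : 3 * t ∣ q := by
        refine h4.dvd_of_dvd_mul_right ?_
        rw [h3]
        exact dvd_mul_right _ _
      have h6 := Nat.le_of_dvd (by omega) h5
      have h7 : 3 * t * (3 * t + 1) ≤ q * (q + 1) := Nat.mul_le_mul h6 (by omega)
      rw [h3] at h7
      have h8 := Nat.le_of_mul_le_mul_left h7 (by omega)
      omega
    · have h4 : Nat.Coprime q (3 * t) := by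
        have h5 : 3 * t = 3 ^ (m + 1) := e2.symm
        rw [h5, A.hq]
        exact Nat.Coprime.pow _ _ ((Nat.coprime_primes A.hp Nat.prime_three).2 hp3)
      have h5 : q ∣ t + 1 := by
        refine h4.dvd_of_dvd_mul_left ?_
        rw [← h3]
        exact dvd_mul_right _ _
      have h6 : 3 * t ∣ q + 1 := by
        refine h4.symm.dvd_of_dvd_mul_left ?_
        rw [h3]
        exact dvd_mul_right _ _
      have h7 := Nat.le_of_dvd (by omega) h5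
      have h8 := Nat.le_of_dvd (by omega) h6
      omega

theorem not_suzuki {S : Type*} [Group S] {p f q : ℕ} (h : TS S p q) (A : TA p f q) : ¬ Lie.IsoSuzuki S := by
  rintro ⟨F, _, _, m, hm, hF, ⟨e⟩⟩
  obtain ⟨i⟩ := Cfsg.Agent.OddCyclic.ClaimC.SzIso.iso hm hF
  have h' : TS (Cfsg.Sz F m) p q := h.congr (e.trans i.symm)
  have hI := h'.isoN A
  have hb := A.n_ge
  have h11 := A.h11
  obtain ⟨hs, hA, hB, hC⟩ := Cfsg.Agent.H372.SzSpec.spec (F := F) hm hF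
  obtain ⟨w, hw, hw2⟩ : ∃ w, 2 ^ m = w ∧ 2 ≤ w := ⟨2 ^ m, rfl, by
    calc 2 = 2 ^ 1 := by norm_num
      _ ≤ 2 ^ m := Nat.pow_le_pow_right (by norm_num) hm⟩
  have e1 : 2 ^ (2 * m + 1) = 2 * w ^ 2 := by
    rw [← hw, ← pow_mul, pow_succ]
    ring
  have e2 : 2 ^ (m + 1) = 2 * w := by
    rw [← hw]
    ring
  rw [e1, e2] at hs hB hC
  rw [e1] at hA
  have hww : 2 * w ≤ w ^ 2 := by nlinarith
  have hmax := h'.max' A hB
  obtain ⟨x, hx⟩ := hI.elt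
  have hso := hs x (by rw [hx]; exact hI.odd)
  rw [hx] at hso
  rcases hso with h1 | h1 | h1
  · have := Nat.le_of_dvd (by omega) h1
    omega
  · have h2 := Nat.le_of_dvd (by omega) h1
    have h3 : q * (q + 1) = 2 * w * (w + 1) := by
      have e3 : q * (q + 1) = q ^ 2 + q := by ring
      have e4 : 2 * w * (w + 1) = 2 * w ^ 2 + 2 * w := by ring
      omega
    have h4 : Nat.Coprime q (2 * w) := by
      have h5 : 2 * w = 2 ^ (m + 1) := e2.symm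
      rw [h5]
      refine Nat.Coprime.pow_right _ ?_
      have h4 := A.h4
      exact Nat.coprime_two_right.2 (Nat.odd_iff.2 (by omega))
    have h5 : q ∣ w + 1 := by
      refine h4.dvd_of_dvd_mul_left ?_
      rw [← h3]
      exact dvd_mul_right _ _
    have h6 : 2 * w ∣ q + 1 := by
      refine h4.symm.dvd_of_dvd_mul_left ?_
      rw [h3]
      exact dvd_mul_right _ _
    have h7 := Nat.le_of_dvd (by omega) h5
    have h8 := Nat.le_of_dvd (by omega) h6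
    omega
  · have := Nat.le_of_dvd (by omega) h1
    omega

end Cfsg.Agent.H366.T
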