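import Cfsg.Agent.H366.TBase
import Cfsg.Agent.H366.TExc
import Cfsg.Agent.H360.Iso.TwF4

/-!
# No exceptional group satisfies `TS` (helper366, for S3455), third part: `²F₄`
-/

set_option autoImplicit false

namespace Cfsg.Agent.H366.T

open Cfsg Cfsg.Lie Cfsg.Lie.ChevalleyDatum Cfsg.Agent.H360.Iso

theorem f4t_num {q b : ℕ} (hb : 2 ≤ b) (h : q ^ 2 + q = 4 * b ^ 4 + 4 * b ^ 3 + 2 * b ^ 2 + 2 * b) : False := by
  rcases Nat.lt_or_ge q (2 * b ^ 2 + b) with h1 | h1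
  · have h2 : q + 1 ≤ 2 * b ^ 2 + b := h1
    have h3 : q * (q + 1) ≤ (2 * b ^ 2 + b) * (2 * b ^ 2 + b) := Nat.mul_le_mul h1.le h2
    have e1 : q * (q + 1) = q ^ 2 + q := by ring
    have e2 : (2 * b ^ 2 + b) * (2 * b ^ 2 + b) = 4 * b ^ 4 + 4 * b ^ 3 + b ^ 2 := by ring
    rw [e1, e2, h] at h3
    have : b ≤ b ^ 2 := Nat.le_self_pow two_ne_zero _
    omega
  · have h3 : (2 * b ^ 2 + b) * (2 * b ^ 2 + b + 1) ≤ q * (q + 1) := Nat.mul_le_mul h1 (by omega)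
    have e1 : q * (q + 1) = q ^ 2 + q := by ring
    have e2 : (2 * b ^ 2 + b) * (2 * b ^ 2 + b + 1) = 4 * b ^ 4 + 4 * b ^ 3 + 3 * b ^ 2 + b := by ring
    rw [e1, e2, h] at h3
    nlinarith

theorem f4t_num2 {q p f b : ℕ} (hp : p.Prime) (hp2 : p % 2 = 1) (hq : q = p ^ f) (hb : 2 ≤ b)
    (h : q ^ 2 + q + 1 = 16 * b ^ 8 - 4 * b ^ 4 + 1) : False := by
  have hb2 : 1 ≤ b ^ 2 := Nat.one_le_pow _ _ (by omega)
  have hb4 : 1 ≤ b ^ 4 := Nat.one_le_pow _ _ (by omega)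
  have h1 : q * (q + 1) = (4 * b ^ 4 - 1) * (4 * b ^ 4 - 1 + 1) := by
    obtain ⟨c, hc⟩ : ∃ c, 4 * b ^ 4 = c + 1 := ⟨4 * b ^ 4 - 1, by omega⟩
    have e1 : 16 * b ^ 8 = (4 * b ^ 4) * (4 * b ^ 4) := by ring
    have e2 : q * (q + 1) = q ^ 2 + q := by ring
    rw [e1, hc] at h
    rw [hc, e2, Nat.add_sub_cancel]
    have e3 : (c + 1) * (c + 1) = c * (c + 1) + (c + 1) := by ring
    rw [e3] at h
    omega
  have h2 : q = 4 * b ^ 4 - 1 := by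
    rcases Nat.lt_trichotomy q (4 * b ^ 4 - 1) with h3 | h3 | h3
    · exact absurd h1 (Nat.ne_of_lt (Nat.mul_lt_mul_of_lt_of_le h3 (by omega) (by omega)))
    · exact h3
    · exact absurd h1.symm (Nat.ne_of_lt (Nat.mul_lt_mul_of_lt_of_le h3 (by omega) (by omega)))
  have h3 : q = (2 * b ^ 2 - 1) * (2 * b ^ 2 + 1) := by
    rw [h2]
    obtain ⟨c, hc⟩ : ∃ c, b ^ 2 = c + 1 := ⟨b ^ 2 - 1, by omega⟩
    have e1 : b ^ 4 = (b ^ 2) ^ 2 := by ring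
    rw [e1, hc]
    have e2 : 4 * (c + 1) ^ 2 = (2 * c + 1) * (2 * c + 3) + 1 := by ring
    rw [e2]
    have e3 : 2 * (c + 1) - 1 = 2 * c + 1 := by omega
    have e4 : 2 * (c + 1) + 1 = 2 * c + 3 := by ring
    rw [e3, e4, Nat.add_sub_cancel]
  have h4 : ∀ d, d ∣ q → 1 < d → p ∣ d := by
    intro d hd h1d
    rw [hq] at hd
    obtain ⟨i, -, rfl⟩ := (Nat.dvd_prime_pow hp).1 hd
    refine dvd_pow_self p ?_
    rintro rfl
    simp at h1d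
  have hb4' : 4 ≤ b ^ 2 := by nlinarith
  have h5 := h4 _ (h3 ▸ dvd_mul_right _ _) (show 1 < 2 * b ^ 2 - 1 by omega)
  have h6 := h4 _ (h3 ▸ dvd_mul_left _ _) (show 1 < 2 * b ^ 2 + 1 by omega)
  have h7 : p ∣ (2 * b ^ 2 + 1) - (2 * b ^ 2 - 1) := Nat.dvd_sub h6 h5
  have h8 : (2 * b ^ 2 + 1) - (2 * b ^ 2 - 1) = 2 := by omega
  rw [h8] at h7
  have h9 := Nat.le_of_dvd (by norm_num) h7
  have h10 := hp.two_le
  omega

theorem not_2f4 {S : Type*} [Group S] {p f q : ℕ} (h : TS S p q) (A : TA p f q) : ¬ Lie.Iso2F4 S := by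
  rintro ⟨K, _, _, m, hm, hK, ⟨e⟩⟩
  replace h := h.congr e
  obtain ⟨b, hb⟩ : ∃ b, b = 2 ^ m := ⟨_, rfl⟩
  have hb2 : 2 ≤ b := by
    rw [hb]
    calc 2 = 2 ^ 1 := by norm_num
      _ ≤ 2 ^ m := Nat.pow_le_pow_right (by norm_num) hm
  rcases f4t_row hK hm hb (h.isoN A) with h1 | h1 | h1
  · exact f4t_num (q := q) hb2 (by omega)
  · have h2 := h.max' A (f4t_plus hK hb)
    have hb3 : 1 ≤ b ^ 3 := Nat.one_le_pow _ _ (by omega)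
    omega
  · exact f4t_num2 A.hp A.podd A.hq hb2 h1

end Cfsg.Agent.H366.T
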