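import Cfsg.Agent.H366.TMain
import Cfsg.Agent.H366.TExc
import Cfsg.Agent.H366.TExc2
import Cfsg.Agent.H366.TExc3
import Cfsg.Prelude.Def_Classification2

/-!
# Groups with the element orders of `PSL(3, q)`, `q ≡ 3, 11 (mod 12)` (helper366, for S3455): the theorem
-/

set_option autoImplicit false

universe u v

namespace Cfsg.Agent.H366.T

theorem not_exceptional (T : Cfsg.Agent.OrdDiv.OrderTable.{u}) {S : Type u} [Group S] {p f q : ℕ} (h : TS S p q)
    (A : TA p f q) : ¬ IsExceptionalLieType S := by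
  rintro (h1 | h1 | h1 | h1 | h1 | h1 | h1 | h1 | h1 | h1 | h1)
  · exact not_g2 h A h1
  · exact not_f4 h A h1
  · exact not_e6 h A h1
  · exact not_e7 h A h1
  · exact not_e8 h A h1
  · exact not_2e6 h A h1
  · exact not_3d4 h A h1
  · exact not_suzuki h A h1
  · exact not_ree h A h1
  · exact not_2f4 h A h1
  · exact not_tits T h A h1

/-- **S3455** -/
theorem final (T : Cfsg.Agent.OrdDiv.OrderTable.{u})
    (hcl : ∀ (S : Type u) [Group S] [Finite S] [IsSimpleGroup S], IsKnownSimple' S)
    {G : Type u} [Group G] [Finite G] {F : Type v} [Field F] [Fintype F] (h3 : 3 < Fintype.card F)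
    (hmod : Fintype.card F % 12 = 3 ∨ Fintype.card F % 12 = 11)
    (h : Set.range (orderOf : G → ℕ) = Set.range (orderOf : Matrix.ProjectiveSpecialLinearGroup (Fin 3) F → ℕ)) :
    Nonempty (G ≃* Matrix.ProjectiveSpecialLinearGroup (Fin 3) F) := by
  obtain ⟨p, hch⟩ := CharP.exists F
  obtain ⟨f, hp, hf⟩ := FiniteField.card F p
  have hpf : Fact p.Prime := ⟨hp⟩
  have A : TA p f (Fintype.card F) := ⟨hp, f.ne_zero, hf, by omega, by omega, by omega⟩
  refine assemble A (tg A h) ?_
  intro S _ _ hS hna hts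
  exact eq_psl T hts A hna (hcl S) (not_exceptional T hts A) rfl

end Cfsg.Agent.H366.T
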