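import Cfsg.Agent.H366.TOrthNum
import Cfsg.Agent.H366.TSp
import Cfsg.Agent.H182.ThreeComp
import Cfsg.Agent.H377.ToOmega

/-!
# No even-dimensional orthogonal group satisfies `TS` (helper366, for S3455)
-/

set_option autoImplicit false
set_option linter.unusedSectionVars false

namespace Cfsg.Agent.H366.T

open Cfsg Cfsg.Agent.H377

section Elts

variable {F : Type*} [Field F] [Finite F]

theorem elt_prod_even {n₁ n₂ m : ℕ} (h1 : 1 ≤ n₁) (hm : n₁ + n₂ = m) {ε₁ ε₂ ε : ℤ} (hε : ε₁ * ε₂ = ε) {u M : ℕ}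
    (hu : Odd u) (h : Elt F n₁ ε₁ u) (h' : Elt F n₂ ε₂ M) (hM : Even M) (hc : Nat.Coprime u (M / 2)) :
    Elt2 F m ε (u * (M / 2)) := by
  have := Elt.prod_two h1 hu h h' hM
  rwa [hm, hε, hc.lcm_eq_mul] at this

theorem elt_prod_odd {n₁ n₂ m : ℕ} (h1 : 1 ≤ n₁) (hm : n₁ + n₂ = m) {ε₁ ε₂ ε : ℤ} (hε : ε₁ * ε₂ = ε) {u M : ℕ}
    (hu : Odd u) (h : Elt F n₁ ε₁ u) (h' : Elt F n₂ ε₂ M) (hM : Odd M) (hc : Nat.Coprime u M) :
    Elt2 F m ε (u * M) := by
  have := h.prod h'
  rw [hm, hε, hc.lcm_eq_mul] at this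
  exact this.two (by omega) (hu.mul hM)

end Elts

theorem coprime_half {a b : ℕ} (h : ∀ r : ℕ, r.Prime → r ∣ a → r ∣ b → r = 2) (ho : Odd (a / 2) ∨ Odd (b / 2))
    (ha : 2 ∣ a) (hb : 2 ∣ b) : Nat.Coprime (a / 2) (b / 2) := by
  by_contra hcon
  obtain ⟨r, hr, h1, h2⟩ := Nat.Prime.not_coprime_iff_dvd.1 hcon
  have h3 := h r hr (h1.trans (Nat.div_dvd_of_dvd ha)) (h2.trans (Nat.div_dvd_of_dvd hb))
  subst h3
  rcases ho with ho | ho
  · exact (Nat.not_even_iff_odd.2 ho) (even_iff_two_dvd.2 h1)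
  · exact (Nat.not_even_iff_odd.2 ho) (even_iff_two_dvd.2 h2)

/-- `v + 1 ∣ v ^ k - 1`, `k` even -/
theorem add_one_dvd_even {v k : ℕ} (hk : Even k) : v + 1 ∣ v ^ k - 1 := by
  obtain ⟨j, rfl⟩ := hk
  have h1 : v + 1 ∣ v ^ 2 - 1 := by
    have : v ^ 2 - 1 = (v + 1) * (v - 1) := by rw [← Nat.sq_sub_sq, one_pow]
    rw [this]; exact Dvd.intro _ rfl
  refine h1.trans ?_
  have : v ^ (j + j) = (v ^ 2) ^ j := by rw [← pow_mul]; congr 1; omega
  rw [this]
  exact Nat.sub_one_dvd_pow_sub_one _ _

/-- `v + 1 ∣ v ^ k + 1`, `k` odd -/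
theorem add_one_dvd_odd {v k : ℕ} (hk : Odd k) : v + 1 ∣ v ^ k + 1 := by
  have := hk.nat_add_dvd_pow_add_pow v 1
  rwa [one_pow] at this

theorem mod_eight_even {v k : ℕ} (hv : Odd v) (hk : Even k) : v ^ k % 8 = 1 := by
  obtain ⟨j, rfl⟩ := hk
  have e : v ^ (j + j) = (v ^ 2) ^ j := by rw [← pow_mul]; congr 1; omega
  have h1 : v ^ 2 % 8 = 1 := by
    obtain ⟨i, rfl⟩ := hv
    rw [Nat.pow_mod]
    have : (2 * i + 1) % 8 < 8 := Nat.mod_lt _ (by norm_num)
    have h2 : (2 * i + 1) % 8 % 2 = 1 := by omega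
    interval_cases h : (2 * i + 1) % 8 <;> simp_all
  rw [e, Nat.pow_mod, h1, one_pow]; rfl

section main

variable {S : Type*} [Group S] {F : Type*} [Field F] [Finite F] {p f q m : ℕ}

/-- prime divisors of two of the numbers -/
theorem two_of_dvd {r Y : ℕ} (hr : r.Prime) (h1 : r ∣ Y - 1) (h2 : r ∣ Y + 1) (hY : 1 ≤ Y) : r = 2 := by
  have h3 : r ∣ (Y + 1) - (Y - 1) := Nat.dvd_sub h2 h1
  have h4 : (Y + 1) - (Y - 1) = 2 := by omega
  rw [h4] at h3
  exact (Nat.prime_dvd_prime_iff_eq hr Nat.prime_two).1 h3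

/-- **plus type** -/
theorem orth_plus (hm : 4 ≤ m) (h : TS S p q) (A : TA p f q)
    (E : ∀ n, Elt2 F m 1 n → ∃ g : S, orderOf g = n)
    (hlow : ∀ r : ℕ, r.Prime → r ∣ q ^ 2 + q + 1 → ¬ r ∣ Nat.card F ∧ ∀ i, 1 ≤ i → i + 2 ≤ m →
      ¬ r ∣ Nat.card F ^ i - 1 ∧ ¬ r ∣ Nat.card F ^ i + 1)
    (hcl : ∀ r : ℕ, r.Prime → r ∣ q ^ 2 + q + 1 →
      (Odd (m - 1) ∧ r ∣ Nat.card F ^ (m - 1) - 1 ∧ Nat.card F ≤ 3) ∨ (Odd m ∧ r ∣ Nat.card F ^ m - 1))
    {a : ℕ} (hd : q ^ 2 + q + 1 ∣ Nat.card F ^ a * (Nat.card F ^ m - 1) *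
      ∏ i ∈ Finset.range (m - 1), (Nat.card F ^ (2 * (i + 1)) - 1)) : False := by
  have hv : 2 ≤ Nat.card F := Finite.one_lt_card
  have h11 := A.h11
  have hq2 : 11 * q ≤ q ^ 2 := by nlinarith
  have hNodd := A.n_odd
  obtain ⟨g₀, hg₀⟩ := h.ex
  set v := Nat.card F with hvdef
  set N := q ^ 2 + q + 1 with hN
  have hdd := orth_cop (by omega) hd hlow
  rw [two_pow_split] at hdd
  set X := v ^ (m - 1) with hX
  have hXv : v ^ m = X * v := by rw [hX, ← pow_succ]; congr 1; omega
  have hX3 : v ^ 3 ≤ X := Nat.pow_le_pow_right (by omega) (by omega)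
  have hX8 : 8 ≤ X := le_trans (by calc 8 = 2 ^ 3 := rfl
                                      _ ≤ v ^ 3 := Nat.pow_le_pow_left hv 3) hX3
  rw [hXv] at hdd hcl
  have hXv1 : 8 * v ≤ X * v := Nat.mul_le_mul_right _ hX8
  have hr2 : ∀ r : ℕ, r.Prime → r ∣ N → r ≠ 2 := fun r hr hrn => (A.prime_facts hr hrn).1
  have hv1 : ∀ r : ℕ, r.Prime → r ∣ N → ¬ r ∣ v - 1 := fun r hr hrn hrd =>
    ((hlow r hr hrn).2 1 le_rfl (by omega)).1 (by rwa [pow_one])
  have hv2 : ∀ r : ℕ, r.Prime → r ∣ N → ¬ r ∣ v + 1 := fun r hr hrn hrd =>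
    ((hlow r hr hrn).2 1 le_rfl (by omega)).2 (by rwa [pow_one])
  rcases Nat.even_or_odd m with hme | hmo
  · -- `m` even, `v ≤ 3`
    have hnot : ¬ Odd m := Nat.not_odd_iff_even.2 hme
    have hcl' : ∀ r : ℕ, r.Prime → r ∣ N → r ∣ X - 1 ∧ v ≤ 3 := by
      intro r hr hrn
      rcases hcl r hr hrn with h1 | h1
      · exact h1.2
      · exact absurd h1.1 hnot
    have hdX : N ∣ X - 1 := by
      have h1 : Nat.Coprime N (X * v - 1) := TA.coprime_of fun r hr hrn hrd => by
        have h2 := (hcl' r hr hrn).1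
        have h3 : r ∣ (X * v - 1) - (X - 1) * v := Nat.dvd_sub hrd (h2.mul_right v)
        have h4 : (X * v - 1) - (X - 1) * v = v - 1 := by
          have : (X - 1) * v = X * v - v := by rw [Nat.sub_mul, one_mul]
          omega
        rw [h4] at h3
        exact hv1 r hr hrn h3
      have h2 : Nat.Coprime N (X + 1) := TA.coprime_of fun r hr hrn hrd =>
        hr2 r hr hrn (two_of_dvd hr (hcl' r hr hrn).1 hrd (by omega))
      exact h2.dvd_of_dvd_mul_left (h1.dvd_of_dvd_mul_left hdd)
    obtain ⟨r, hr, hrn⟩ := Nat.exists_prime_and_dvd A.n_one_lt.ne'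
    have hv3 := (hcl' r hr hrn).2
    have hNle := Nat.le_of_dvd (by omega) hdX
    rcases (by omega : v = 2 ∨ v = 3) with hv' | hv'
    · have hXe : Even X := by rw [hX, hv']; exact (by decide : Even 2).pow_of_ne_zero (by omega)
      have hXodd : Odd (X + 1) := hXe.add_one
      obtain ⟨g, hg⟩ := E (X + 1) (by
        have h1 := (elt_tor_minus (F := F) (k := m - 1) (N := X + 1) (by omega) (by rw [← hvdef])).add
          (m := 1) le_rfl (ε' := -1) (Or.inr rfl)
        rw [show m - 1 + 1 = m by omega, show (-1 : ℤ) * -1 = 1 by norm_num] at h1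
        exact h1.two (by omega) hXodd)
      have h2 := h.max A g
      omega
    · have hXo : Odd X := by rw [hX, hv']; exact (by decide : Odd 3).pow
      have hXe : Even (X + 1) := hXo.add_one
      obtain ⟨g, hg⟩ := E ((X + 1) / 2) (by
        have h1 := Elt.add_two (n₂ := 1) le_rfl (ε₂ := -1) (Or.inr rfl)
          (elt_tor_minus (F := F) (k := m - 1) (N := X + 1) (by omega) (by rw [← hvdef])) hXe
        rwa [show m - 1 + 1 = m by omega, show (-1 : ℤ) * -1 = 1 by norm_num] at h1)
      have h2 := h.max A g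
      have h3 : 2 * N ≤ X - 1 := by
        obtain ⟨k, hk⟩ := hdX
        obtain ⟨l, hl⟩ := hXo
        have hk2 : k ≠ 0 := by rintro rfl; omega
        have hk1 : k ≠ 1 := by rintro rfl; omega
        have : 2 ≤ k := by omega
        calc 2 * N = N * 2 := mul_comm _ _
          _ ≤ N * k := Nat.mul_le_mul_left _ this
          _ = X - 1 := hk.symm
      omega
  · -- `m` odd
    have hm1e : Even (m - 1) := by
      obtain ⟨l, hl⟩ := hmo
      exact ⟨l, by omega⟩
    have hnot : ¬ Odd (m - 1) := Nat.not_odd_iff_even.2 hm1e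
    have hcl' : ∀ r : ℕ, r.Prime → r ∣ N → r ∣ X * v - 1 := by
      intro r hr hrn
      rcases hcl r hr hrn with h1 | h1
      · exact absurd h1.1 hnot
      · exact h1.2
    have hdX : N ∣ X * v - 1 := by
      have h1 : Nat.Coprime N (X - 1) := TA.coprime_of fun r hr hrn hrd => by
        have h2 := hcl' r hr hrn
        have h3 : r ∣ (X * v - 1) - (X - 1) * v := Nat.dvd_sub h2 (hrd.mul_right v)
        have h4 : (X * v - 1) - (X - 1) * v = v - 1 := by
          have : (X - 1) * v = X * v - v := by rw [Nat.sub_mul, one_mul]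
          omega
        rw [h4] at h3
        exact hv1 r hr hrn h3
      have h2 : Nat.Coprime N (X + 1) := TA.coprime_of fun r hr hrn hrd => by
        have h2 := hcl' r hr hrn
        have h3 : r ∣ (X + 1) * v - (X * v - 1) := Nat.dvd_sub (hrd.mul_right v) h2
        have h4 : (X + 1) * v - (X * v - 1) = v + 1 := by
          have : (X + 1) * v = X * v + v := by ring
          omega
        rw [h4] at h3
        exact hv2 r hr hrn h3
      exact (Nat.Coprime.mul_right h2 h1).dvd_of_dvd_mul_right hdd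
    have hvX : v - 1 ∣ X * v - 1 := by rw [← hXv]; exact Nat.sub_one_dvd_pow_sub_one _ _
    have hNv : N * (v - 1) ∣ X * v - 1 :=
      (TA.coprime_of fun r hr hrn => hv1 r hr hrn).mul_dvd_of_dvd_of_dvd hdX hvX
    have hcopX : ∀ r : ℕ, r.Prime → r ∣ X + 1 → r ∣ v + 1 → r = 2 := by
      intro r hr h1 h2
      have h3 : v + 1 ∣ X - 1 := add_one_dvd_even hm1e
      exact two_of_dvd hr (h2.trans h3) h1 (by omega)
    rcases Nat.even_or_odd v with hve | hvo
    · -- `v` even
      have hXe : Even X := hve.pow_of_ne_zero (by omega)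
      have hXodd : Odd (X + 1) := hXe.add_one
      obtain ⟨g, hg⟩ := E ((X + 1) * (v + 1)) (by
        refine elt_prod_odd (n₁ := m - 1) (n₂ := 1) (by omega) (by omega) (by norm_num : (-1 : ℤ) * -1 = 1) hXodd
          (elt_tor_minus (F := F) (k := m - 1) (by omega) (by rw [← hvdef]))
          (elt_tor_minus (F := F) (k := 1) le_rfl (by rw [← hvdef, pow_one])) hve.add_one ?_
        by_contra hcon
        obtain ⟨r, hr, h1, h2⟩ := Nat.Prime.not_coprime_iff_dvd.1 hcon
        have h3 := hcopX r hr h1 h2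
        subst h3
        exact (Nat.not_even_iff_odd.2 hXodd) (even_iff_two_dvd.2 h1))
      have h2 := h.max A g
      rw [hg] at h2
      have h3 := Nat.le_of_dvd (by omega) hdX
      have h4 : (X + 1) * (v + 1) = X * v + X + v + 1 := by ring
      omega
    · -- `v` odd
      have hXo : Odd X := hvo.pow
      have hX8' : X % 8 = 1 := mod_eight_even hvo hm1e
      have hv3 : 3 ≤ v := by
        obtain ⟨l, hl⟩ := hvo
        omega
      have hve1 : Even (v + 1) := hvo.add_one
      have ho2 : Odd ((X + 1) / 2) := Nat.odd_iff.2 (by omega)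
      obtain ⟨g, hg⟩ := E ((X + 1) / 2 * ((v + 1) / 2)) (by
        refine elt_prod_even (n₁ := m - 1) (n₂ := 1) (by omega) (by omega) (by norm_num : (-1 : ℤ) * -1 = 1) ho2
          (elt_tor_minus (F := F) (k := m - 1) (by omega) ?_)
          (elt_tor_minus (F := F) (k := 1) le_rfl (by rw [← hvdef, pow_one])) hve1 ?_
        · exact Nat.div_dvd_of_dvd (by omega)
        · exact coprime_half hcopX (Or.inl ho2) (by omega) (even_iff_two_dvd.1 hve1))
      have hx4 : 4 * orderOf g = (X + 1) * (v + 1) := by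
        rw [hg]
        obtain ⟨s, hs⟩ : ∃ s, X + 1 = 2 * s := ⟨(X + 1) / 2, by omega⟩
        obtain ⟨t, ht⟩ := even_iff_two_dvd.1 hve1
        rw [hs, ht, Nat.mul_div_cancel_left _ two_pos, Nat.mul_div_cancel_left _ two_pos]
        ring
      have hmax := h.max A g
      rw [← hN] at hmax
      have hNle := Nat.le_of_dvd (by omega) hNv
      obtain ⟨w, hw⟩ : ∃ w, v = w + 1 := ⟨v - 1, by omega⟩
      rw [hw, Nat.add_sub_cancel] at hNle
      rw [hw] at hx4
      rcases Nat.lt_or_ge v 5 with h5 | h5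
      · have hv' : v = 3 := by
          obtain ⟨l, hl⟩ := hvo
          omega
        obtain rfl : w = 2 := by omega
        have hx : orderOf g = X + 1 := by omega
        rw [hv'] at hNv
        have hNX : 2 * N = X * 3 - 1 := by
          obtain ⟨k, hk⟩ := hNv
          have hk1 : k = 1 := by
            have h6 : k ≠ 0 := by rintro rfl; omega
            by_contra h7
            have : 2 ≤ k := by omega
            have h8 : N * (3 - 1) * 2 ≤ N * (3 - 1) * k := Nat.mul_le_mul_left _ this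
            omega
          rw [hk1] at hk
          omega
        have hbig := h.big A g (by omega)
        rcases hbig with h6 | h6 | ⟨-, h6⟩
        · omega
        · omega
        · omega
      · have h6 : 4 * (N * w) < (X + 1) * (w + 1 + 1) * w := by
          have h7 : 4 * (w + 1) ≤ (w + 1 + 1) * w := by nlinarith
          have h8 : (X + 1) * (4 * (w + 1)) ≤ (X + 1) * ((w + 1 + 1) * w) := Nat.mul_le_mul_left _ h7
          have h9 : (X + 1) * (4 * (w + 1)) = 4 * (X * (w + 1)) + 4 * (w + 1) := by ring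
          have h10 : (X + 1) * (w + 1 + 1) * w = (X + 1) * ((w + 1 + 1) * w) := by ring
          have h11' : 0 < X * (w + 1) := Nat.mul_pos (by omega) (by omega)
          omega
        rw [← hx4] at h6
        have h7 : 4 * orderOf g * w ≤ 4 * (N * w) := by
          calc 4 * orderOf g * w ≤ 4 * N * w := Nat.mul_le_mul_right _ (Nat.mul_le_mul_left _ hmax)
            _ = _ := by ring
        omega

/-- **minus type** -/
theorem orth_minus (hm : 4 ≤ m) (h : TS S p q) (A : TA p f q)
    (E : ∀ n, Elt2 F m (-1) n → ∃ g : S, orderOf g = n)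
    (hlow : ∀ r : ℕ, r.Prime → r ∣ q ^ 2 + q + 1 → ¬ r ∣ Nat.card F ∧ ∀ i, 1 ≤ i → i + 2 ≤ m →
      ¬ r ∣ Nat.card F ^ i - 1 ∧ ¬ r ∣ Nat.card F ^ i + 1)
    (hcl : ∀ r : ℕ, r.Prime → r ∣ q ^ 2 + q + 1 →
      (r ∣ Nat.card F ^ (m - 1) + 1 ∧ Nat.card F ≤ 3) ∨ r ∣ Nat.card F ^ m + 1)
    {a : ℕ} (hd : q ^ 2 + q + 1 ∣ Nat.card F ^ a * (Nat.card F ^ m + 1) *
      ∏ i ∈ Finset.range (m - 1), (Nat.card F ^ (2 * (i + 1)) - 1)) : False := by
  have hv : 2 ≤ Nat.card F := Finite.one_lt_card
  have h11 := A.h11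
  have hq2 : 11 * q ≤ q ^ 2 := by nlinarith
  have hNodd := A.n_odd
  set v := Nat.card F with hvdef
  set N := q ^ 2 + q + 1 with hN
  have hdd := orth_cop (by omega) hd hlow
  rw [two_pow_split] at hdd
  set X := v ^ (m - 1) with hX
  have hXv : v ^ m = X * v := by rw [hX, ← pow_succ]; congr 1; omega
  have hX3 : v ^ 3 ≤ X := Nat.pow_le_pow_right (by omega) (by omega)
  have hv23 : v * 4 ≤ v ^ 3 := by
    have : v ^ 3 = v * (v * v) := by ring
    rw [this]
    exact Nat.mul_le_mul_left _ (by nlinarith)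
  have hX8 : 8 ≤ X := by omega
  rw [hXv] at hdd hcl
  have hXv1 : 8 * v ≤ X * v := Nat.mul_le_mul_right _ hX8
  have hr2 : ∀ r : ℕ, r.Prime → r ∣ N → r ≠ 2 := fun r hr hrn => (A.prime_facts hr hrn).1
  have hr3 : ¬ 3 ∣ N := fun h3 => (A.prime_facts Nat.prime_three h3).2.1 rfl
  have hv1 : ∀ r : ℕ, r.Prime → r ∣ N → ¬ r ∣ v - 1 := fun r hr hrn hrd =>
    ((hlow r hr hrn).2 1 le_rfl (by omega)).1 (by rwa [pow_one])
  have hv2 : ∀ r : ℕ, r.Prime → r ∣ N → ¬ r ∣ v + 1 := fun r hr hrn hrd =>
    ((hlow r hr hrn).2 1 le_rfl (by omega)).2 (by rwa [pow_one])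
  -- `N` is coprime to `X - 1`
  have hXm : Nat.Coprime N (X - 1) := TA.coprime_of fun r hr hrn hrd => by
    rcases hcl r hr hrn with ⟨h1, -⟩ | h1
    · exact hr2 r hr hrn (two_of_dvd hr hrd h1 (by omega))
    · have h3 : r ∣ (X * v + 1) - (X - 1) * v := Nat.dvd_sub h1 (hrd.mul_right v)
      have h4 : (X * v + 1) - (X - 1) * v = v + 1 := by
        have : (X - 1) * v = X * v - v := by rw [Nat.sub_mul, one_mul]
        omega
      rw [h4] at h3
      exact hv2 r hr hrn h3
  have hdd2 : N ∣ (X * v + 1) * (X + 1) := by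
    rw [← mul_assoc] at hdd
    exact hXm.dvd_of_dvd_mul_right hdd
  -- no common prime
  have hnc : ∀ r : ℕ, r.Prime → r ∣ N → r ∣ X * v + 1 → ¬ r ∣ X + 1 := by
    intro r hr hrn h1 h2
    have h3 : r ∣ (X * v + 1) - (X + 1) := Nat.dvd_sub h1 h2
    have h4 : (X * v + 1) - (X + 1) = X * (v - 1) := by
      rw [Nat.mul_sub, mul_one]; omega
    rw [h4] at h3
    rcases (Nat.Prime.dvd_mul hr).1 h3 with h5 | h5
    · exact (hlow r hr hrn).1 (hr.dvd_of_dvd_pow h5)
    · exact hv1 r hr hrn h5
  -- elements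
  by_cases hA : ∃ s : ℕ, s.Prime ∧ s ∣ N ∧ s ∣ X + 1 ∧ v ≤ 3
  · obtain ⟨s, hs, hsn, hsX, hv3⟩ := hA
    rcases (by omega : v = 2 ∨ v = 3) with hv' | hv'
    · -- `v = 2`
      have hXe : Even X := by rw [hX, hv']; exact (by decide : Even 2).pow_of_ne_zero (by omega)
      obtain ⟨g, hg⟩ := E (X * v + 1) ((elt_tor_minus (F := F) (k := m) (N := X * v + 1) (by omega)
        (by rw [← hvdef, hXv])).two (by omega) (hXe.mul_right v).add_one)
      have hmax := h.max A g
      rw [← hN] at hmax
      obtain ⟨g', hg'⟩ := E (X + 1) (by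
        have h1 := (elt_tor_minus (F := F) (k := m - 1) (N := X + 1) (by omega) (by rw [← hvdef])).add
          (m := 1) le_rfl (ε' := 1) (Or.inl rfl)
        rw [show m - 1 + 1 = m by omega, show (-1 : ℤ) * 1 = -1 by norm_num] at h1
        exact h1.two (by omega) hXe.add_one)
      by_cases hB : ∃ r : ℕ, r.Prime ∧ r ∣ N ∧ r ∣ X * v + 1
      · obtain ⟨r, hr, hrn, hrX⟩ := hB
        have h1 := h.iso A hr hrn (g := g) (by rw [hg]; exact hrX)
        have h2 := h.iso A hs hsn (g := g') (by rw [hg']; exact hsX)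
        rw [hg] at h1
        rw [hg'] at h2
        rcases Nat.even_or_odd m with hme | hmo
        · have : 3 ∣ X + 1 := by
            have h3 := add_one_dvd_odd (v := v) (k := m - 1) (by
              obtain ⟨l, hl⟩ := hme
              exact ⟨l - 1, by omega⟩)
            rw [hX]
            rw [hv'] at h3 ⊢
            exact h3
          exact hr3 (this.trans h2)
        · have : 3 ∣ X * v + 1 := by
            have h3 := add_one_dvd_odd (v := v) (k := m) hmo
            rw [hXv, hv'] at h3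
            rw [hv']; exact h3
          exact hr3 (this.trans h1)
      · push Not at hB
        have h1 : Nat.Coprime N (X * v + 1) := TA.coprime_of hB
        have h2 := Nat.le_of_dvd (by omega) (h1.dvd_of_dvd_mul_left hdd2)
        rw [hg, hv'] at hmax
        omega
    · -- `v = 3`
      rw [hv'] at hdd2 hnc hcl hXv
      obtain ⟨o₁, o₂, ho1, ho2, hd1, hd2, ho12, hlt⟩ : ∃ o₁ o₂ : ℕ, Odd o₁ ∧ Odd o₂ ∧ o₁ ∣ X * 3 + 1 ∧ o₂ ∣ X + 1 ∧
          8 * (o₁ * o₂) = (3 * X + 1) * (X + 1) ∧ o₂ < o₁ := by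
        rcases Nat.even_or_odd m with hme | hmo
        · have h1 : X * 3 % 8 = 1 := by
            rw [← hXv]; exact mod_eight_even (by decide) hme
          refine ⟨(X * 3 + 1) / 2, (X + 1) / 4, Nat.odd_iff.2 (by omega), Nat.odd_iff.2 (by omega),
            Nat.div_dvd_of_dvd (by omega), Nat.div_dvd_of_dvd (by omega), ?_, by omega⟩
          obtain ⟨a, ha⟩ : ∃ a, X * 3 + 1 = 2 * a := ⟨(X * 3 + 1) / 2, by omega⟩
          obtain ⟨b, hb⟩ : ∃ b, X + 1 = 4 * b := ⟨(X + 1) / 4, by omega⟩
          rw [mul_comm 3 X, ha, hb, Nat.mul_div_cancel_left _ (by norm_num), Nat.mul_div_cancel_left _ (by norm_num)]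
          ring
        · have h1 : X % 8 = 1 := by
            rw [hX, hv']; exact mod_eight_even (by decide) (by
              obtain ⟨l, hl⟩ := hmo
              exact ⟨l, by omega⟩)
          refine ⟨(X * 3 + 1) / 4, (X + 1) / 2, Nat.odd_iff.2 (by omega), Nat.odd_iff.2 (by omega),
            Nat.div_dvd_of_dvd (by omega), Nat.div_dvd_of_dvd (by omega), ?_, by omega⟩
          obtain ⟨a, ha⟩ : ∃ a, X * 3 + 1 = 4 * a := ⟨(X * 3 + 1) / 4, by omega⟩
          obtain ⟨b, hb⟩ : ∃ b, X + 1 = 2 * b := ⟨(X + 1) / 2, by omega⟩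
          rw [mul_comm 3 X, ha, hb, Nat.mul_div_cancel_left _ (by norm_num), Nat.mul_div_cancel_left _ (by norm_num)]
          ring
      obtain ⟨g, hg⟩ := E o₁ ((elt_tor_minus (F := F) (k := m) (N := o₁) (by omega)
        (by rw [← hvdef, hv', hXv]; exact hd1)).two (by omega) ho1)
      obtain ⟨g', hg'⟩ := E o₂ (by
        have h1 := (elt_tor_minus (F := F) (k := m - 1) (N := o₂) (by omega) (by rw [← hvdef]; exact hd2)).add
          (m := 1) le_rfl (ε' := 1) (Or.inl rfl)
        rw [show m - 1 + 1 = m by omega, show (-1 : ℤ) * 1 = -1 by norm_num] at h1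
        exact h1.two (by omega) ho2)
      have hN8 : Nat.Coprime N 8 := by
        have : Nat.Coprime N (2 ^ 3) := by
          apply Nat.Coprime.pow_right
          apply Nat.Coprime.symm
          rw [Nat.coprime_two_left]
          exact Nat.odd_iff.2 hNodd
        exact this
      have hdo : N ∣ o₁ * o₂ := by
        apply hN8.dvd_of_dvd_mul_left
        rw [ho12, mul_comm 3 X]
        exact hdd2
      have hpo1 : ∀ r : ℕ, r.Prime → r ≠ 2 → r ∣ X * 3 + 1 → r ∣ o₁ ∨ r ∣ o₂ := by
        intro r hr hr2' h1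
        have h2 : r ∣ 8 * (o₁ * o₂) := by rw [ho12, mul_comm 3 X]; exact h1.mul_right _
        rcases (Nat.Prime.dvd_mul hr).1 h2 with h3 | h3
        · exact absurd ((Nat.prime_dvd_prime_iff_eq hr Nat.prime_two).1
            (hr.dvd_of_dvd_pow (by exact h3 : r ∣ 2 ^ 3))) hr2'
        · exact (Nat.Prime.dvd_mul hr).1 h3
      have hpo2 : ∀ r : ℕ, r.Prime → r ≠ 2 → r ∣ X + 1 → r ∣ o₁ ∨ r ∣ o₂ := by
        intro r hr hr2' h1
        have h2 : r ∣ 8 * (o₁ * o₂) := by rw [ho12]; exact h1.mul_left _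
        rcases (Nat.Prime.dvd_mul hr).1 h2 with h3 | h3
        · exact absurd ((Nat.prime_dvd_prime_iff_eq hr Nat.prime_two).1
            (hr.dvd_of_dvd_pow (by exact h3 : r ∣ 2 ^ 3))) hr2'
        · exact (Nat.Prime.dvd_mul hr).1 h3
      have hs2 : s ∣ o₂ := by
        rcases hpo2 s hs (hr2 s hs hsn) hsX with h1 | h1
        · exact absurd hsX (hnc s hs hsn (h1.trans hd1))
        · exact h1
      have h2 := h.iso A hs hsn (g := g') (by rw [hg']; exact hs2)
      rw [hg', ← hN] at h2
      by_cases hB : ∃ r : ℕ, r.Prime ∧ r ∣ N ∧ r ∣ X * 3 + 1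
      · obtain ⟨r, hr, hrn, hrX⟩ := hB
        have hr1 : r ∣ o₁ := by
          rcases hpo1 r hr (hr2 r hr hrn) hrX with h1 | h1
          · exact h1
          · exact absurd (h1.trans hd2) (hnc r hr hrn hrX)
        have h1 := h.iso A hr hrn (g := g) (by rw [hg]; exact hr1)
        rw [hg, ← hN] at h1
        have hc : Nat.Coprime o₁ o₂ := by
          by_contra hcon
          obtain ⟨t, ht, h3, h4⟩ := Nat.Prime.not_coprime_iff_dvd.1 hcon
          exact hnc t ht (h3.trans h1) (h3.trans hd1) (h4.trans hd2)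
        have h3 : N = o₁ * o₂ := Nat.dvd_antisymm hdo (hc.mul_dvd_of_dvd_of_dvd h1 h2)
        refine mixed_three (X := X) A (by omega) ?_
        rw [← hN, h3, ho12]
      · push Not at hB
        have h1 : Nat.Coprime N o₁ := TA.coprime_of fun r hr hrn hrd => hB r hr hrn (hrd.trans hd1)
        have h3 := Nat.le_of_dvd ho2.pos (h1.dvd_of_dvd_mul_left hdo)
        have hmax := h.max A g
        rw [hg, ← hN] at hmax
        omega
  · have hcl' : ∀ r : ℕ, r.Prime → r ∣ N → r ∣ X * v + 1 := by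
      intro r hr hrn
      rcases hcl r hr hrn with h1 | h1
      · exact absurd ⟨r, hr, hrn, h1⟩ hA
      · exact h1
    have hdX : N ∣ X * v + 1 := by
      have h1 : Nat.Coprime N (X + 1) := TA.coprime_of fun r hr hrn => hnc r hr hrn (hcl' r hr hrn)
      exact h1.dvd_of_dvd_mul_right hdd2
    have hNle := Nat.le_of_dvd (by omega) hdX
    rcases Nat.even_or_odd m with hme | hmo
    · -- `m` even
      have hm1o : Odd (m - 1) := by
        obtain ⟨l, hl⟩ := hme
        exact ⟨l - 1, by omega⟩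
      have hcopX : ∀ r : ℕ, r.Prime → r ∣ X - 1 → r ∣ v + 1 → r = 2 := by
        intro r hr h1 h2
        have h3 : v + 1 ∣ X + 1 := add_one_dvd_odd hm1o
        exact two_of_dvd hr h1 (h2.trans h3) (by omega)
      rcases Nat.even_or_odd v with hve | hvo
      · have hXe : Even X := hve.pow_of_ne_zero (by omega)
        have hXodd : Odd (X - 1) := by
          obtain ⟨l, hl⟩ := hXe
          exact ⟨l - 1, by omega⟩
        obtain ⟨g, hg⟩ := E ((X - 1) * (v + 1)) (by
          refine elt_prod_odd (n₁ := m - 1) (n₂ := 1) (by omega) (by omega) (by norm_num : (1 : ℤ) * -1 = -1) hXodd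
            (elt_tor_plus (F := F) (k := m - 1) (by omega) (by rw [← hvdef]))
            (elt_tor_minus (F := F) (k := 1) le_rfl (by rw [← hvdef, pow_one])) hve.add_one ?_
          by_contra hcon
          obtain ⟨r, hr, h1, h2⟩ := Nat.Prime.not_coprime_iff_dvd.1 hcon
          have h3 := hcopX r hr h1 h2
          subst h3
          exact (Nat.not_even_iff_odd.2 hXodd) (even_iff_two_dvd.2 h1))
        have hmax := h.max A g
        rw [hg, ← hN] at hmax
        obtain ⟨Y, hY⟩ : ∃ Y, X = Y + 1 := ⟨X - 1, by omega⟩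
        rw [hY] at hmax hNle hX3
        have e1 : (Y + 1 - 1) * (v + 1) = Y * v + Y := by rw [Nat.add_sub_cancel]; ring
        have e2 : (Y + 1) * v = Y * v + v := by ring
        omega
      · have hXo : Odd X := hvo.pow
        have hve1 : Even (v + 1) := hvo.add_one
        have hv3 : 3 ≤ v := by
          obtain ⟨l, hl⟩ := hvo
          omega
        -- the order `(X - 1) (v + 1) / 4`
        have hel : Elt2 F m (-1) ((X - 1) / 2 * ((v + 1) / 2)) := by
          have hXm4 : X % 4 = v % 4 := by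
            have h8 := mod_eight_even hvo (k := m - 2) (by
              obtain ⟨l, hl⟩ := hme
              exact ⟨l - 1, by omega⟩)
            have : X = v ^ (m - 2) * v := by rw [hX, ← pow_succ]; congr 1; omega
            have h9 : v ^ (m - 2) % 4 = 1 := by omega
            rw [this, Nat.mul_mod, h9, one_mul, Nat.mod_mod]
          have h2X : 2 ∣ X - 1 := by
            obtain ⟨l, hl⟩ := hXo
            exact ⟨l, by omega⟩
          have h2v : 2 ∣ v + 1 := even_iff_two_dvd.1 hve1
          have hvm : v % 4 = 1 ∨ v % 4 = 3 := by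
            obtain ⟨l, hl⟩ := hvo
            omega
          rcases hvm with h4 | h4
          · have ho2 : Odd ((v + 1) / 2) := Nat.odd_iff.2 (by omega)
            have := elt_prod_even (F := F) (n₁ := 1) (n₂ := m - 1) (m := m) (ε := -1) le_rfl (by omega)
              (by norm_num : (-1 : ℤ) * 1 = -1) ho2
              (elt_tor_minus (F := F) (k := 1) le_rfl (by
                rw [← hvdef, pow_one]; exact Nat.div_dvd_of_dvd h2v))
              (elt_tor_plus (F := F) (k := m - 1) (N := X - 1) (by omega) (by rw [← hvdef]))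
              (even_iff_two_dvd.2 h2X) (coprime_half hcopX (Or.inr ho2) h2X h2v).symm
            rwa [mul_comm] at this
          · have ho2 : Odd ((X - 1) / 2) := Nat.odd_iff.2 (by omega)
            exact elt_prod_even (F := F) (n₁ := m - 1) (n₂ := 1) (m := m) (ε := -1) (by omega) (by omega)
              (by norm_num : (1 : ℤ) * -1 = -1) ho2
              (elt_tor_plus (F := F) (k := m - 1) (by omega) (by
                rw [← hvdef]; exact Nat.div_dvd_of_dvd h2X))
              (elt_tor_minus (F := F) (k := 1) (N := v + 1) le_rfl (by rw [← hvdef, pow_one]))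
              hve1 (coprime_half hcopX (Or.inl ho2) h2X h2v)
        obtain ⟨g, hg⟩ := E _ hel
        obtain ⟨Y, hY⟩ : ∃ Y, X = 2 * Y + 1 := hXo
        obtain ⟨w, hw⟩ : ∃ w, v = 2 * w + 1 := hvo
        have hx : orderOf g = Y * (w + 1) := by
          rw [hg, hY, hw, show 2 * Y + 1 - 1 = 2 * Y by omega, show 2 * w + 1 + 1 = 2 * (w + 1) by ring,
            Nat.mul_div_cancel_left _ two_pos, Nat.mul_div_cancel_left _ two_pos]
        have hXv' : X * v + 1 = 4 * (Y * w) + 2 * Y + 2 * w + 2 := by rw [hY, hw]; ring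
        have hmax := h.max A g
        rw [hx, ← hN] at hmax
        have hxe : Y * (w + 1) = Y * w + Y := by ring
        have hYw : 4 * w + 1 < Y := by omega
        -- `N = (X v + 1) / 2`
        have hNX : 2 * N = X * v + 1 := by
          obtain ⟨k, hk⟩ := hdX
          have hk0 : k ≠ 0 := by rintro rfl; omega
          have hk1 : k ≠ 1 := by
            rintro rfl
            omega
          have hk3 : k ≠ 3 := by
            rintro rfl
            omega
          have hk2 : k = 2 := by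
            by_contra h7
            have h8 : 4 ≤ k := by omega
            have h9 : N * 4 ≤ N * k := Nat.mul_le_mul_left _ h8
            omega
          rw [hk2] at hk
          omega
        have hYw2 : Y ≤ Y * w := Nat.le_mul_of_pos_right _ (by omega)
        have hbig := h.big A g (by rw [hx]; omega)
        rcases hbig with h6 | h6 | ⟨-, h6⟩
        · omega
        · omega
        · omega
    · -- `m` odd
      have hm1e : Even (m - 1) := by
        obtain ⟨l, hl⟩ := hmo
        exact ⟨l, by omega⟩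
      have hvX : v + 1 ∣ X * v + 1 := by rw [← hXv]; exact add_one_dvd_odd hmo
      have hNv : N * (v + 1) ∣ X * v + 1 :=
        (TA.coprime_of fun r hr hrn => hv2 r hr hrn).mul_dvd_of_dvd_of_dvd hdX hvX
      have hNvle := Nat.le_of_dvd (by omega) hNv
      rcases Nat.even_or_odd v with hve | hvo
      · have hXe : Even X := hve.pow_of_ne_zero (by omega)
        obtain ⟨g, hg⟩ := E (X + 1) (by
          have h1 := (elt_tor_minus (F := F) (k := m - 1) (N := X + 1) (by omega) (by rw [← hvdef])).add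
            (m := 1) le_rfl (ε' := 1) (Or.inl rfl)
          rw [show m - 1 + 1 = m by omega, show (-1 : ℤ) * 1 = -1 by norm_num] at h1
          exact h1.two (by omega) hXe.add_one)
        have hmax := h.max A g
        rw [hg, ← hN] at hmax
        have h3 : (X + 1) * (v + 1) ≤ N * (v + 1) := Nat.mul_le_mul_right _ hmax
        have h4 : (X + 1) * (v + 1) = X * v + X + v + 1 := by ring
        omega
      · have hXo : Odd X := hvo.pow
        have hX8' : X % 8 = 1 := mod_eight_even hvo hm1e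
        have hv3 : 3 ≤ v := by
          obtain ⟨l, hl⟩ := hvo
          omega
        have hv1e : Even (v - 1) := by
          obtain ⟨l, hl⟩ := hvo
          exact ⟨l, by omega⟩
        have ho2 : Odd ((X + 1) / 2) := Nat.odd_iff.2 (by omega)
        have hcopX : ∀ r : ℕ, r.Prime → r ∣ X + 1 → r ∣ v - 1 → r = 2 := by
          intro r hr h1 h2
          have h3 : v - 1 ∣ X - 1 := Nat.sub_one_dvd_pow_sub_one _ _
          exact two_of_dvd hr (h2.trans h3) h1 (by omega)
        obtain ⟨g, hg⟩ := E ((X + 1) / 2 * ((v - 1) / 2)) (by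
          refine elt_prod_even (n₁ := m - 1) (n₂ := 1) (by omega) (by omega) (by norm_num : (-1 : ℤ) * 1 = -1) ho2
            (elt_tor_minus (F := F) (k := m - 1) (by omega) ?_)
            (elt_tor_plus (F := F) (k := 1) le_rfl (by rw [← hvdef, pow_one])) hv1e ?_
          · exact Nat.div_dvd_of_dvd (by omega)
          · exact coprime_half hcopX (Or.inl ho2) (by omega) (even_iff_two_dvd.1 hv1e))
        have hmax := h.max A g
        rw [← hN] at hmax
        obtain ⟨w, hw⟩ : ∃ w, v = 2 * w + 1 := hvo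
        obtain ⟨Y, hY⟩ : ∃ Y, X + 1 = 2 * Y := ⟨(X + 1) / 2, by omega⟩
        have hx : orderOf g = Y * w := by
          rw [hg, hY, hw, show 2 * w + 1 - 1 = 2 * w by omega,
            Nat.mul_div_cancel_left _ two_pos, Nat.mul_div_cancel_left _ two_pos]
        rcases Nat.lt_or_ge v 5 with h5 | h5
        · obtain rfl : w = 1 := by omega
          have hv' : v = 3 := by omega
          rw [hv'] at hNv hNvle
          have hNX : 4 * N = X * 3 + 1 := by
            obtain ⟨k, hk⟩ := hNv
            have hk1 : k = 1 := by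
              have h6 : k ≠ 0 := by rintro rfl; omega
              by_contra h7
              have : 2 ≤ k := by omega
              have h8 : N * (3 + 1) * 2 ≤ N * (3 + 1) * k := Nat.mul_le_mul_left _ this
              omega
            rw [hk1] at hk
            omega
          have hbig := h.big A g (by omega)
          rcases hbig with h6 | h6 | ⟨-, h6⟩
          · omega
          · omega
          · omega
        · -- `4 x (v + 1) = (X + 1) (v² - 1)`
          have h6 : X * v + 1 < Y * w * (v + 1) := by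
            have h7 : 2 * v ≤ w * (v + 1) := by
              rw [hw]; nlinarith
            have h8 : Y * (2 * v) ≤ Y * (w * (v + 1)) := Nat.mul_le_mul_left _ h7
            have h9 : Y * (2 * v) = X * v + v := by
              calc Y * (2 * v) = (2 * Y) * v := by ring
                _ = (X + 1) * v := by rw [← hY]
                _ = _ := by ring
            have h10 : Y * w * (v + 1) = Y * (w * (v + 1)) := by ring
            omega
          have h7 : Y * w * (v + 1) ≤ N * (v + 1) := Nat.mul_le_mul_right _ (by rw [← hx]; exact hmax)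
          omega

end main

section rows

open Cfsg.Agent.H182.Orth Cfsg.Agent.H182.Sign Cfsg.Agent.LieClassical.OrthForms

variable {S : Type*} [Group S] {p f q : ℕ}

theorem not_pomegaPlus (h : TS S p q) (A : TA p f q) : ¬ IsPOmegaPlus S := by
  rintro ⟨F, _, _, m, hm, ⟨e⟩⟩
  replace h := h.congr e
  clear e
  have hcard := Cfsg.Agent.S0293.result (F := F) rfl m hm
  simp only [← Nat.card_eq_fintype_card] at hcard
  have hQ := sg_plusForm (F := F) m
  have hr2 : ∀ r : ℕ, r.Prime → r ∣ q ^ 2 + q + 1 → r ≠ 2 := fun r hr hrn => (A.prime_facts hr hrn).1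
  have hnc : ∀ r : ℕ, r.Prime → r ∣ q ^ 2 + q + 1 → ¬ H94.PG.Conn (POmega F (quadFormPlus m F)) 2 r :=
    fun r hr hrn hc => h.not_conn_two A hrn hc.symm
  refine orth_plus (F := F) (m := m) hm h A (fun n hn => hn.plus hm) ?_ ?_ (a := m * (m - 1)) ?_
  · intro r hr hrn
    refine ⟨fun h1 => ?_, fun i hi1 hi => ⟨fun h1 => ?_, fun h1 => ?_⟩⟩
    · have := H182.Orth.conn_two_of_dvd_card hQ hm hr (hr2 r hr hrn) h1
      rw [coe_plusForm] at this
      exact hnc r hr hrn this
    · have := H182.Orth.conn_two_pow_sub hQ hm hi1 hi hr (hr2 r hr hrn) h1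
      rw [coe_plusForm] at this
      exact hnc r hr hrn this
    · have := H182.Orth.conn_two_pow_add hQ hm hi1 hi hr (hr2 r hr hrn) h1
      rw [coe_plusForm] at this
      exact hnc r hr hrn this
  · intro r hr hrn
    have h1 := H182.Orth.plus_cases hQ hm hcard hr (hr2 r hr hrn) (hrn.trans (dvd_card h))
    rw [coe_plusForm] at h1
    rcases h1 with h1 | h1
    · exact absurd h1 (hnc r hr hrn)
    · exact h1
  · rw [← hcard]
    exact (dvd_card h).mul_left _

theorem not_pomegaMinus (h : TS S p q) (A : TA p f q) : ¬ IsPOmegaMinus S := by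
  rintro ⟨F, _, _, m, a, b, hm, hab, ⟨e⟩⟩
  replace h := h.congr e
  clear e
  have hcard := Cfsg.Agent.S0294.result (F := F) rfl m hm a b hab
  simp only [← Nat.card_eq_fintype_card] at hcard
  have hQ := sg_minusForm (F := F) (m - 1) hab
  rw [Nat.sub_add_cancel (by omega)] at hQ
  have hr2 : ∀ r : ℕ, r.Prime → r ∣ q ^ 2 + q + 1 → r ≠ 2 := fun r hr hrn => (A.prime_facts hr hrn).1
  have hnc : ∀ r : ℕ, r.Prime → r ∣ q ^ 2 + q + 1 → ¬ H94.PG.Conn (POmega F (quadFormMinus (m - 1) F a b)) 2 r :=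
    fun r hr hrn hc => h.not_conn_two A hrn hc.symm
  refine orth_minus (F := F) (m := m) hm h A (fun n hn => hn.minus hm hab) ?_ ?_ (a := m * (m - 1)) ?_
  · intro r hr hrn
    refine ⟨fun h1 => ?_, fun i hi1 hi => ⟨fun h1 => ?_, fun h1 => ?_⟩⟩
    · have := H182.Orth.conn_two_of_dvd_card hQ hm hr (hr2 r hr hrn) h1
      rw [coe_minusForm] at this
      exact hnc r hr hrn this
    · have := H182.Orth.conn_two_pow_sub hQ hm hi1 hi hr (hr2 r hr hrn) h1
      rw [coe_minusForm] at this
      exact hnc r hr hrn this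
    · have := H182.Orth.conn_two_pow_add hQ hm hi1 hi hr (hr2 r hr hrn) h1
      rw [coe_minusForm] at this
      exact hnc r hr hrn this
  · intro r hr hrn
    have h1 := H182.Orth.minus_cases hQ hm hcard hr (hr2 r hr hrn) (hrn.trans (dvd_card h))
    rw [coe_minusForm] at h1
    rcases h1 with h1 | h1
    · exact absurd h1 (hnc r hr hrn)
    · exact h1
  · rw [← hcard]
    exact (dvd_card h).mul_left _

end rows

end Cfsg.Agent.H366.T
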