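import Mathlib

/-!
# Arithmetic for `PSL_n(u)` and `q² + q + 1` (helper366, for S3455)
-/

set_option autoImplicit false

namespace Cfsg.Agent.H366.T

/-- `N g (u - 1) = u ^ n - 1`, `o g = u ^ (n - 1) - 1`, `N = q² + q + 1`, `o = q² - 1`: then `u = q`, `n = 3`. -/
theorem num_one {u n q g N o : ℕ} (hn : 3 ≤ n) (hu : 2 ≤ u) (hq : 11 ≤ q) (hg : 1 ≤ g)
    (hN : N * g * (u - 1) = u ^ n - 1) (ho : o * g = u ^ (n - 1) - 1) (hNq : N = q ^ 2 + q + 1)
    (hoq : o = q ^ 2 - 1) : u = q ∧ n = 3 := by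
  obtain ⟨v, rfl⟩ : ∃ v, u = v + 1 := ⟨u - 1, by omega⟩
  obtain ⟨k, rfl⟩ : ∃ k, n = k + 1 := ⟨n - 1, by omega⟩
  simp only [Nat.add_sub_cancel] at hN ho
  have h1 : 1 ≤ (v + 1) ^ k := Nat.one_le_pow _ _ (by omega)
  have h2 : 1 ≤ (v + 1) ^ (k + 1) := Nat.one_le_pow _ _ (by omega)
  have e1 : (v + 1) ^ k = o * g + 1 := by omega
  have e2 : (v + 1) ^ (k + 1) = N * g * v + 1 := by omega
  have hq2 : 121 ≤ q ^ 2 := by nlinarith
  have e3 : (o * g + 1) * (v + 1) = N * g * v + 1 := by rw [← e1, ← e2, pow_succ]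
  have e4 : o + 1 = q ^ 2 := by omega
  -- `(q² - 1) g = v ((q + 2) g - 1)`, i.e. `o g + v = v (q + 2) g`
  have e5 : o * g + v = v * ((q + 2) * g) := by
    have : N = o + (q + 2) := by omega
    rw [this] at e3
    nlinarith
  have h3 : v ≤ q - 1 := by
    by_contra hcon
    have hv : q ≤ v := by omega
    -- `v (q+2) g - v ≥ v (q + 1) g ≥ q (q+1) g > (q²-1) g`
    have h4 : v * ((q + 1) * g) ≤ o * g := by
      have h5 : v * ((q + 2) * g) = v * ((q + 1) * g) + v * g := by ring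
      have h6 : v * 1 ≤ v * g := Nat.mul_le_mul_left _ hg
      omega
    have h7 : q * ((q + 1) * g) ≤ v * ((q + 1) * g) := Nat.mul_le_mul_right _ hv
    have h8 : q * ((q + 1) * g) = (q * q + q) * g := by ring
    have h9 : o < q * q + q := by nlinarith
    have h10 : o * g < (q * q + q) * g := Nat.mul_lt_mul_of_pos_right h9 (by omega)
    omega
  have h4 : q - 1 ≤ v := by
    by_contra hcon
    have hv : v + 2 ≤ q := by omega
    have h5 : v * ((q + 2) * g) ≤ o * g := by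
      obtain ⟨w, rfl⟩ : ∃ w, q = v + 2 + w := ⟨q - (v + 2), by omega⟩
      have h6 : v * (v + 2 + w + 2) ≤ o := by nlinarith
      calc v * ((v + 2 + w + 2) * g) = v * (v + 2 + w + 2) * g := by ring
        _ ≤ o * g := Nat.mul_le_mul_right _ h6
    have h7 : 0 < v := by omega
    omega
  have hvq : v + 1 = q := by omega
  refine ⟨hvq, ?_⟩
  have hg1 : g = 1 := by
    obtain rfl : q = v + 1 := hvq.symm
    have h5 : o = v * (v + 2) := by
      have h6 : v * (v + 2) + 1 = (v + 1) ^ 2 := by ring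
      omega
    rw [h5] at e5
    have h6 : v * ((v + 2) * g + 1) = v * ((v + 1 + 2) * g) := by
      rw [← e5]; ring
    have h7 := Nat.eq_of_mul_eq_mul_left (by omega) h6
    have h8 : (v + 1 + 2) * g = (v + 2) * g + g := by ring
    omega
  subst hg1
  have h5 : (v + 1) ^ k = (v + 1) ^ 2 := by rw [e1, hvq]; omega
  have := Nat.pow_right_injective (a := v + 1) (by omega) h5
  omega

/-- the same with `o = q² - q`: impossible -/
theorem num_two {u n q g N o : ℕ} (hn : 3 ≤ n) (hu : 2 ≤ u) (hq : 11 ≤ q) (hg : 1 ≤ g)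
    (hN : N * g * (u - 1) = u ^ n - 1) (ho : o * g = u ^ (n - 1) - 1) (hNq : N = q ^ 2 + q + 1)
    (hoq : o = q ^ 2 - q) : False := by
  obtain ⟨v, rfl⟩ : ∃ v, u = v + 1 := ⟨u - 1, by omega⟩
  obtain ⟨k, rfl⟩ : ∃ k, n = k + 1 := ⟨n - 1, by omega⟩
  simp only [Nat.add_sub_cancel] at hN ho
  have h1 : 1 ≤ (v + 1) ^ k := Nat.one_le_pow _ _ (by omega)
  have h2 : 1 ≤ (v + 1) ^ (k + 1) := Nat.one_le_pow _ _ (by omega)
  have e1 : (v + 1) ^ k = o * g + 1 := by omega
  have e2 : (v + 1) ^ (k + 1) = N * g * v + 1 := by omega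
  have hq2 : 11 * q ≤ q ^ 2 := by nlinarith
  have e3 : (o * g + 1) * (v + 1) = N * g * v + 1 := by rw [← e1, ← e2, pow_succ]
  have e4 : o + q = q ^ 2 := by omega
  have e5 : o * g + v = v * ((2 * q + 1) * g) := by
    have : N = o + (2 * q + 1) := by omega
    rw [this] at e3
    nlinarith
  have h3 : 2 * v ≤ q - 1 := by
    by_contra hcon
    have hv : q ≤ 2 * v := by omega
    have h4 : v * (2 * q * g) ≤ o * g := by
      have h5 : v * ((2 * q + 1) * g) = v * (2 * q * g) + v * g := by ring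
      have h6 : v * 1 ≤ v * g := Nat.mul_le_mul_left _ hg
      omega
    have h7 : q * (q * g) ≤ 2 * v * (q * g) := Nat.mul_le_mul_right _ hv
    have h8 : v * (2 * q * g) = 2 * v * (q * g) := by ring
    have h9 : o < q * q := by nlinarith
    have h10 : o * g < q * q * g := Nat.mul_lt_mul_of_pos_right h9 (by omega)
    have h11 : q * (q * g) = q * q * g := by ring
    omega
  have h4 : q - 1 ≤ 2 * v := by
    by_contra hcon
    have hv : 2 * v + 2 ≤ q := by omega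
    have h5 : v * ((2 * q + 1) * g) ≤ o * g := by
      obtain ⟨w, rfl⟩ : ∃ w, q = 2 * v + 2 + w := ⟨q - (2 * v + 2), by omega⟩
      have h6 : v * (2 * (2 * v + 2 + w) + 1) ≤ o := by nlinarith
      calc v * ((2 * (2 * v + 2 + w) + 1) * g) = v * (2 * (2 * v + 2 + w) + 1) * g := by ring
        _ ≤ o * g := Nat.mul_le_mul_right _ h6
    have h7 : 0 < v := by omega
    omega
  have hvq : 2 * v + 1 = q := by omega
  have hg1 : g = 1 := by
    obtain rfl : q = 2 * v + 1 := hvq.symm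
    have h5 : o = v * (2 * (2 * v + 1)) := by
      have h6 : v * (2 * (2 * v + 1)) + (2 * v + 1) = (2 * v + 1) ^ 2 := by ring
      omega
    rw [h5] at e5
    have h6 : v * (2 * (2 * v + 1) * g + 1) = v * ((2 * (2 * v + 1) + 1) * g) := by
      rw [← e5]; ring
    have h7 := Nat.eq_of_mul_eq_mul_left (by omega) h6
    have h8 : (2 * (2 * v + 1) + 1) * g = 2 * (2 * v + 1) * g + g := by ring
    omega
  subst hg1
  obtain ⟨j, rfl⟩ : ∃ j, k = j + 1 := ⟨k - 1, by omega⟩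
  obtain rfl : q = 2 * v + 1 := hvq.symm
  -- `(v+1)^(j+1) = o + 1`, `o = 4v² + 2v`
  have h5 : (v + 1) ^ (j + 1) = 4 * v ^ 2 + 2 * v + 1 := by
    have h6 : 4 * v ^ 2 + 2 * v + (2 * v + 1) = (2 * v + 1) ^ 2 := by ring
    rw [e1]; omega
  have h6 : (v + 1) ∣ 4 * v ^ 2 + 2 * v + 1 := by rw [← h5]; exact dvd_pow_self _ (Nat.succ_ne_zero j)
  have h7 : 4 * v ^ 2 + 2 * v + 1 + 2 * (v + 1) = 4 * v * (v + 1) + 3 := by ring
  have h8 : (v + 1) ∣ 4 * v * (v + 1) + 3 := by
    rw [← h7]; exact dvd_add h6 (dvd_mul_left _ _)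
  have h9 : (v + 1) ∣ 3 := (Nat.dvd_add_right (dvd_mul_left _ _)).1 h8
  have h10 := Nat.le_of_dvd (by norm_num) h9
  omega

end Cfsg.Agent.H366.T
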