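import Cfsg.Agent.H366.TSp
import Cfsg.Agent.H366.TPslNum
import Cfsg.Agent.H371.PslThree
import Cfsg.Agent.H363.PslSpec
import Cfsg.Agent.S2475

/-!
# A linear group satisfying `TS` is `PSL_3(q)` (helper366, for S3455)
-/

set_option autoImplicit false

namespace Cfsg.Agent.H366.T

open Cfsg Matrix

section

variable {F : Type*} [Field F] [Fintype F] {p f q : ℕ}

theorem not_psl_two (h4 : 4 ≤ Fintype.card F) (h : TS (ProjectiveSpecialLinearGroup (Fin 2) F) p q)
    (A : TA p f q) : False := by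
  obtain ⟨t, ht⟩ := CharP.exists F
  have htp : Fact t.Prime := ⟨CharP.char_is_prime F t⟩
  have hs := Cfsg.Agent.S2475.result (F := F) t h4
  have h11 := A.h11
  have hq2 : 11 * q ≤ q ^ 2 := by nlinarith
  have hno := A.n_odd
  -- elements of prescribed order
  have hex : ∀ m : ℕ, m ∣ t ∨ m ∣ (Fintype.card F - 1) / Nat.gcd 2 (Fintype.card F - 1) ∨
      m ∣ (Fintype.card F + 1) / Nat.gcd 2 (Fintype.card F - 1) →
      ∃ g : ProjectiveSpecialLinearGroup (Fin 2) F, orderOf g = m := by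
    intro m hm
    have : m ∈ Set.range (orderOf : ProjectiveSpecialLinearGroup (Fin 2) F → ℕ) := by rw [hs]; exact hm
    exact this
  have hX : (Fintype.card F % 2 = 1 ∧
      (∃ g : ProjectiveSpecialLinearGroup (Fin 2) F, orderOf g = (Fintype.card F - 1) / 2) ∧
      ∃ g : ProjectiveSpecialLinearGroup (Fin 2) F, orderOf g = (Fintype.card F + 1) / 2) ∨
      (Fintype.card F % 2 = 0 ∧ (∃ g : ProjectiveSpecialLinearGroup (Fin 2) F, orderOf g = Fintype.card F - 1) ∧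
      ∃ g : ProjectiveSpecialLinearGroup (Fin 2) F, orderOf g = Fintype.card F + 1) := by
    rcases Nat.mod_two_eq_zero_or_one (Fintype.card F) with h1 | h1
    · right
      have hg : Nat.gcd 2 (Fintype.card F - 1) = 1 := by
        rw [← Nat.coprime_iff_gcd_eq_one, Nat.coprime_two_left]
        exact Nat.odd_iff.2 (by omega)
      rw [hg, Nat.div_one, Nat.div_one] at hex
      exact ⟨h1, hex _ (Or.inr (Or.inl dvd_rfl)), hex _ (Or.inr (Or.inr dvd_rfl))⟩
    · left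
      have hg : Nat.gcd 2 (Fintype.card F - 1) = 2 := Nat.gcd_eq_left (by omega)
      rw [hg] at hex
      exact ⟨h1, hex _ (Or.inr (Or.inl dvd_rfl)), hex _ (Or.inr (Or.inr dvd_rfl))⟩
  obtain ⟨g, hg⟩ := h.ex
  have hgr : q ^ 2 + q + 1 ∈ Set.range (orderOf : ProjectiveSpecialLinearGroup (Fin 2) F → ℕ) := ⟨g, hg⟩
  rw [hs] at hgr
  have hdiv : ∀ {X m : ℕ}, m ∣ X / Nat.gcd 2 (Fintype.card F - 1) → Nat.gcd 2 (Fintype.card F - 1) ∣ X → m ∣ X :=
    fun h1 h2 => h1.trans (Nat.div_dvd_of_dvd h2)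
  rcases hgr with h1 | h1 | h1
  · have h2 : q ^ 2 + q + 1 = t := (Nat.prime_dvd_prime_iff_eq
      (by
        rcases (Nat.dvd_prime htp.out).1 h1 with h3 | h3
        · have := A.n_ge; omega
        · rw [h3]; exact htp.out) htp.out).1 h1
    obtain ⟨n, -, hn⟩ := FiniteField.card F t
    have hn1 := n.pos
    have hodd : Fintype.card F % 2 = 1 := by
      rw [hn, Nat.pow_mod, ← h2, hno]
      simp
    rcases hX with ⟨-, ⟨a, ha⟩, ⟨b, hb⟩⟩ | ⟨h3, -⟩
    · by_cases he : (n : ℕ) = 1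
      · rw [he, pow_one, ← h2] at hn
        rw [hn] at ha
        have h5 : q * (q + 1) = q ^ 2 + q := by ring
        have h6 : (q ^ 2 + q) % 2 = 0 := by omega
        have h7 := h.big A a (by rw [ha]; omega)
        have h8 : 3 * q < q ^ 2 := by nlinarith
        omega
      · have h5 : t ^ 2 ≤ Fintype.card F := by
          rw [hn]
          exact Nat.pow_le_pow_right htp.out.pos (by omega)
        have h6 := h.max A b
        have h7 : 2 * t < t ^ 2 := by
          have := A.n_ge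
          nlinarith
        omega
    · omega
  · refine pm_false h A hX (by omega) (Or.inl (hdiv h1 (Nat.gcd_dvd_right _ _)))
  · refine pm_false h A hX (by omega) (Or.inr (hdiv h1 ?_))
    rcases Nat.mod_two_eq_zero_or_one (Fintype.card F) with h3 | h3
    · have hg : Nat.gcd 2 (Fintype.card F - 1) = 1 := by
        rw [← Nat.coprime_iff_gcd_eq_one, Nat.coprime_two_left]
        exact Nat.odd_iff.2 (by omega)
      rw [hg]; exact one_dvd _
    · exact (Nat.gcd_dvd_left _ _).trans (by omega)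

end

/-- an element of `SL_{k+1}(F)` of order `q ^ k - 1`, as a unit of determinant one -/
theorem exists_gl_det {F : Type*} [Field F] [Finite F] {k : ℕ} (hk : 1 ≤ k) :
    ∃ y : GL (Fin (k + 1)) F, y.det = 1 ∧ orderOf y = Nat.card F ^ k - 1 := by
  have : NeZero k := ⟨by omega⟩
  obtain ⟨K, _, _, hK, φ, hφ⟩ := LieExceptional.CyclicSylow.exists_singer F k
  obtain ⟨z, hz⟩ := IsCyclic.exists_ofOrder_eq_natCard (α := Kˣ)
  rw [Nat.card_units, hK] at hz
  set x : GL (Fin k) F := φ z with hx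
  have hxo : orderOf x = Nat.card F ^ k - 1 := by rw [hx, orderOf_injective φ hφ, hz]
  have hd0 : (x : Matrix (Fin k) (Fin k) F).det ≠ 0 := by
    have := (x.det).ne_zero
    simpa using this
  set B : Matrix (Fin 1) (Fin 1) F := ((x : Matrix (Fin k) (Fin k) F).det)⁻¹ • (1 : Matrix (Fin 1) (Fin 1) F) with hB
  have hBd : B.det = ((x : Matrix (Fin k) (Fin k) F).det)⁻¹ := by
    rw [hB, Matrix.det_smul, Matrix.det_one, mul_one, Fintype.card_fin, pow_one]
  have hM : (H371.Psl.mblk (x : Matrix (Fin k) (Fin k) F) B).det = 1 := by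
    rw [H371.Psl.det_mblk, hBd, mul_inv_cancel₀ hd0]
  let y : Matrix.SpecialLinearGroup (Fin (k + 1)) F := ⟨H371.Psl.mblk (x : Matrix (Fin k) (Fin k) F) B, hM⟩
  refine ⟨(y : GL (Fin (k + 1)) F), ?_, ?_⟩
  · exact Matrix.SpecialLinearGroup.coeToGL_det _
  · have hpow : ∀ m : ℕ, (y : GL (Fin (k + 1)) F) ^ m = 1 ↔ x ^ m = 1 := by
      intro m
      constructor
      · intro h1
        have h2 := congrArg (fun y : GL (Fin (k + 1)) F => (y : Matrix (Fin (k + 1)) (Fin (k + 1)) F)) h1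
        simp only [Units.val_pow_eq_pow_val, Units.val_one] at h2
        change H371.Psl.mblk (x : Matrix (Fin k) (Fin k) F) B ^ m = 1 at h2
        rw [H371.Psl.mblk_pow, ← H371.Psl.mblk_one] at h2
        apply Units.ext
        rw [Units.val_pow_eq_pow_val, Units.val_one]
        exact (H371.Psl.mblk_inj h2).1
      · intro h1
        have h1' : (x : Matrix (Fin k) (Fin k) F) ^ m = 1 := by
          rw [← Units.val_pow_eq_pow_val, h1, Units.val_one]
        have hBm : B ^ m = 1 := by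
          rw [hB, smul_pow, one_pow, inv_pow, ← Matrix.det_pow, h1', Matrix.det_one, inv_one, one_smul]
        apply Units.ext
        rw [Units.val_pow_eq_pow_val, Units.val_one]
        change H371.Psl.mblk (x : Matrix (Fin k) (Fin k) F) B ^ m = 1
        rw [H371.Psl.mblk_pow, h1', hBm, H371.Psl.mblk_one]
    rw [← hxo]
    apply Nat.dvd_antisymm
    · exact orderOf_dvd_of_pow_eq_one ((hpow _).2 (pow_orderOf_eq_one x))
    · exact orderOf_dvd_of_pow_eq_one ((hpow _).1 (pow_orderOf_eq_one _))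

/-- an element of `PSL_n(F)` of order `(q ^ (n - 1) - 1) / gcd (n, q - 1)` -/
theorem exists_order_sub {F : Type*} [Field F] [Finite F] {k : ℕ} (hk : 1 ≤ k) :
    ∃ x : ProjectiveSpecialLinearGroup (Fin (k + 1)) F,
      orderOf x * Nat.gcd (k + 1) (Nat.card F - 1) = Nat.card F ^ k - 1 := by
  have hq1 : 1 < Nat.card F := Finite.one_lt_card
  have hpos : 1 < Nat.card F ^ k := Nat.one_lt_pow (by omega) hq1
  obtain ⟨y, hyd, hyo⟩ := exists_gl_det (F := F) hk
  obtain ⟨x, hx⟩ := H363.PslSpec.exists_of_GL (by omega) y hyd hyo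
  have hg0 : 0 < Nat.gcd (k + 1) (Nat.card F - 1) := Nat.gcd_pos_of_pos_left _ (by omega)
  obtain ⟨w, hw⟩ : Nat.gcd (k + 1) (Nat.card F - 1) ∣ Nat.card F ^ k - 1 :=
    (Nat.gcd_dvd_right _ _).trans (Nat.sub_one_dvd_pow_sub_one _ _)
  have hw0 : w ≠ 0 := by rintro rfl; simp at hw; omega
  rw [hw, mul_comm] at hx
  obtain ⟨t, ht⟩ := Nat.dvd_of_mul_dvd_mul_right hg0 hx
  have hx0 : 0 < orderOf x := orderOf_pos x
  have ht0 : t ≠ 0 := by rintro rfl; rw [mul_zero] at ht; omega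
  refine ⟨x ^ t, ?_⟩
  rw [orderOf_pow' _ ht0, ht, Nat.gcd_eq_right (Dvd.intro_left _ rfl), Nat.mul_div_cancel _ (Nat.pos_of_ne_zero ht0),
    hw, mul_comm]

theorem dvd_of_primes {n u m : ℕ} {P : ℕ}
    (hd : n ∣ P * ∏ i : Fin m, (u ^ m - u ^ (i : ℕ)))
    (hP : ∀ r : ℕ, r.Prime → r ∣ n → ¬ r ∣ P) {j : ℕ} (hj1 : 1 ≤ j) (hj : j ≤ m)
    (h0 : ∀ r : ℕ, r.Prime → r ∣ n → ¬ r ∣ u ∧ ∀ i, 1 ≤ i → i ≤ m → i ≠ j → ¬ r ∣ u ^ i - 1) :
    n ∣ u ^ j - 1 := by
  have hcop : ∀ {X : ℕ}, (∀ r : ℕ, r.Prime → r ∣ n → ¬ r ∣ X) → Nat.Coprime n X := by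
    intro X hX
    by_contra hcon
    obtain ⟨r, hr, h1, h2⟩ := Nat.Prime.not_coprime_iff_dvd.1 hcon
    exact hX r hr h1 h2
  have h1 := (hcop hP).dvd_of_dvd_mul_left hd
  have hfac : ∀ i : ℕ, i < m → u ^ m - u ^ i = u ^ i * (u ^ (m - i) - 1) := by
    intro i hi
    rw [Nat.mul_sub, mul_one, ← pow_add]
    congr 2
    omega
  have h2 : ∏ i : Fin m, (u ^ m - u ^ (i : ℕ)) =
      (u ^ m - u ^ (m - j)) * ∏ i ∈ Finset.univ.erase (⟨m - j, by omega⟩ : Fin m), (u ^ m - u ^ (i : ℕ)) := by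
    exact (Finset.mul_prod_erase Finset.univ (fun i : Fin m => u ^ m - u ^ (i : ℕ))
      (Finset.mem_univ (⟨m - j, by omega⟩ : Fin m))).symm
  rw [h2] at h1
  have h3 : Nat.Coprime n (∏ i ∈ Finset.univ.erase (⟨m - j, by omega⟩ : Fin m), (u ^ m - u ^ (i : ℕ))) := by
    apply hcop
    intro r hr hrn hrd
    obtain ⟨i, hi, hi2⟩ := (hr.prime.dvd_finsetProd_iff _).1 hrd
    have hi1 : i ≠ (⟨m - j, by omega⟩ : Fin m) := Finset.ne_of_mem_erase hi
    have hij : (i : ℕ) ≠ m - j := fun h => hi1 (Fin.ext h)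
    rw [hfac _ i.2] at hi2
    rcases (Nat.Prime.dvd_mul hr).1 hi2 with h4 | h4
    · exact (h0 r hr hrn).1 (hr.dvd_of_dvd_pow h4)
    · exact (h0 r hr hrn).2 (m - i) (by have := i.2; omega) (by omega) (by have := i.2; omega) h4
  have h4 := h3.dvd_of_dvd_mul_right h1
  rw [hfac _ (by omega), Nat.sub_sub_self hj] at h4
  refine (hcop fun r hr hrn hrd => (h0 r hr hrn).1 (hr.dvd_of_dvd_pow hrd)).dvd_of_dvd_mul_left h4

theorem psl_small {N1 c : ℕ} {q : ℕ} (hN : N1 = q ^ 2 + q + 1) (h2 : N1 % 2 = 1) (h3 : ¬ 3 ∣ N1) (h133 : 133 ≤ N1)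
    (hd : N1 ∣ c) (hc : c = 168 ∨ c = 20160) : False := by
  have hco2 : Nat.Coprime N1 (2 ^ 6) := (Nat.coprime_pow_right_iff (by norm_num) _ _).2
    (by apply Nat.Coprime.symm; rw [Nat.coprime_two_left]; exact Nat.odd_iff.2 h2)
  have hco3 : Nat.Coprime N1 (3 ^ 2) := (Nat.coprime_pow_right_iff (by norm_num) _ _).2
    (((Nat.Prime.coprime_iff_not_dvd Nat.prime_three).2 h3).symm)
  have hd' : N1 ∣ 2 ^ 6 * (3 ^ 2 * 35) := by
    rcases hc with rfl | rfl
    · exact hd.trans (by norm_num)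
    · exact hd.trans (by norm_num)
  have h4 := hco3.dvd_of_dvd_mul_left (hco2.dvd_of_dvd_mul_left hd')
  have := Nat.le_of_dvd (by norm_num) h4
  omega

theorem card_four_aux (c : ℕ) (hcard : Nat.gcd 3 (4 - 1) * ((4 - 1) * c) = ∏ i : Fin 3, (4 ^ 3 - 4 ^ (i : ℕ))) :
    c = 20160 := by
  rw [Fin.prod_univ_three] at hcard
  norm_num at hcard
  omega

theorem card_two_aux (c : ℕ) (hcard : Nat.gcd 3 (2 - 1) * ((2 - 1) * c) = ∏ i : Fin 3, (2 ^ 3 - 2 ^ (i : ℕ))) :
    c = 168 := by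
  rw [Fin.prod_univ_three] at hcard
  norm_num at hcard
  omega

theorem pow_aux {u X : ℕ} (hu : 2 ≤ u) (hX : 1 < X) : ¬ X * u - 1 ≤ (X - 1) * (u - 1) := by
  obtain ⟨v, rfl⟩ : ∃ v, u = v + 1 := ⟨u - 1, by omega⟩
  obtain ⟨z, rfl⟩ : ∃ z, X = z + 1 := ⟨X - 1, by omega⟩
  simp only [Nat.add_sub_cancel]
  have h7 : (z + 1) * (v + 1) = z * v + z + v + 1 := by ring
  omega

/-- a large order -/
theorem big_aux {N o g v q : ℕ} (hN : N = q ^ 2 + q + 1) (hq : 11 ≤ q) (hg1 : 1 ≤ g) (hv1 : 1 ≤ v)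
    (e3 : o * g * (v + 1) + v = N * g * v) : q ^ 2 - 1 < 2 * o := by
  by_contra hcon
  have hq2 : 121 ≤ q ^ 2 := by nlinarith
  have h5 : 2 * o + 1 ≤ q ^ 2 := by omega
  have h6 : 2 * (o * g * (v + 1)) + (g * (v + 1)) ≤ q ^ 2 * (g * (v + 1)) := by
    calc 2 * (o * g * (v + 1)) + (g * (v + 1)) = (2 * o + 1) * (g * (v + 1)) := by ring
      _ ≤ _ := Nat.mul_le_mul_right _ h5
  have h8 : q ^ 2 * (g * (v + 1)) ≤ 2 * (q ^ 2 * g * v) := by
    have : g * (v + 1) ≤ 2 * (g * v) := by nlinarith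
    calc q ^ 2 * (g * (v + 1)) ≤ q ^ 2 * (2 * (g * v)) := Nat.mul_le_mul_left _ this
      _ = 2 * (q ^ 2 * g * v) := by ring
  have h9 : 2 * (N * g * v) = 2 * (q ^ 2 * g * v) + 2 * ((q + 1) * g * v) := by rw [hN]; ring
  have h10 : 12 * v ≤ (q + 1) * g * v := by
    apply Nat.mul_le_mul_right
    calc 12 = 12 * 1 := rfl
      _ ≤ (q + 1) * g := Nat.mul_le_mul (by omega) hg1
  have h11' : 0 < g * (v + 1) := Nat.mul_pos hg1 (by omega)
  omega

theorem psl_three {n : ℕ} (hn : 3 ≤ n) {S : Type*} [Group S] {F : Type*} [Field F] [Finite F] {p f q : ℕ}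
    (e : S ≃* ProjectiveSpecialLinearGroup (Fin n) F)
    (h : TS S p q) (A : TA p f q) : n = 3 ∧ Nat.card F = q := by
  classical
  let _ : Fintype F := Fintype.ofFinite F
  replace h := h.congr e
  clear e
  have h11 := A.h11
  set u := Nat.card F with hu
  have hu2 : 2 ≤ u := Finite.one_lt_card
  have hcard := Cfsg.Agent.S0243.result (F := F) (q := u) (Nat.card_eq_fintype_card).symm n (by omega)
  have hN2 := A.n_odd
  have hN3 : ¬ 3 ∣ q ^ 2 + q + 1 := fun h3 => (A.prime_facts Nat.prime_three h3).2.1 rfl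
  have hNge := A.n_ge
  have hdc := dvd_card h
  -- the small groups
  have hsmall : ¬ (n = 3 ∧ (u = 2 ∨ u = 4)) := by
    rintro ⟨rfl, h2⟩
    rcases h2 with h2 | h2
    · refine psl_small rfl hN2 hN3 hNge hdc (Or.inl ?_)
      rw [h2] at hcard
      exact card_two_aux _ hcard
    · refine psl_small rfl hN2 hN3 hNge hdc (Or.inr ?_)
      rw [h2] at hcard
      exact card_four_aux _ hcard
  have hodd : ∀ r : ℕ, r.Prime → r ∣ q ^ 2 + q + 1 → r ≠ 2 := fun r hr hrn => (A.prime_facts hr hrn).1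
  have htype : ∀ r : ℕ, r.Prime → r ∣ q ^ 2 + q + 1 →
      (¬ r ∣ u - 1 ∧ r ∣ u ^ (n - 1) - 1) ∨ (¬ r ∣ u - 1 ∧ r ∣ u ^ n - 1) := by
    intro r hr hrn
    rcases H371.Psl.cases_odd hn hr (hodd r hr hrn) (hrn.trans hdc) with h1 | h1 | h1
    · exact absurd h1 (h.not_pconn_two A hrn)
    · exact absurd h1 hsmall
    · exact h1
  have hchar : ∀ r : ℕ, r.Prime → r ∣ q ^ 2 + q + 1 → ¬ r ∣ u := by
    intro r hr hrn hru
    rcases H371.Psl.conn_two_small (F := F) hn hr (hodd r hr hrn) (Or.inl hru) with h1 | h1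
    · exact h.not_pconn_two A hrn h1
    · exact hsmall h1
  have hone : ∀ r : ℕ, r.Prime → r ∣ q ^ 2 + q + 1 → ¬ r ∣ u - 1 := by
    intro r hr hrn hru
    rcases H371.Psl.conn_two_small (F := F) hn hr (hodd r hr hrn) (Or.inr hru) with h1 | h1
    · exact h.not_pconn_two A hrn h1
    · exact hsmall h1
  have hlow : ∀ r : ℕ, r.Prime → r ∣ q ^ 2 + q + 1 → ∀ k, 1 ≤ k → k + 2 ≤ n → ¬ r ∣ u ^ k - 1 := by
    intro r hr hrn k hk1 hk2 hrk
    exact h.not_pconn_two A hrn (H371.Psl.adj_two_of_le hr (hodd r hr hrn) hk1 hk2 hrk (hone r hr hrn)).symm.conn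
  have hmix : ∀ r s : ℕ, r.Prime → s.Prime → r ∣ q ^ 2 + q + 1 → s ∣ q ^ 2 + q + 1 →
      r ∣ u ^ (n - 1) - 1 → s ∣ u ^ n - 1 → False := by
    intro r s hr hs hrn hsn hr1 hs1
    rcases H371.Psl.mixed (F := F) hn hr hs (hodd s hs hsn) (hone r hr hrn) (hone s hs hsn) hr1 hs1 with h1 | h1 | h1
    · exact h.not_pconn_two A hrn h1
    · exact h.not_pconn_two A hsn h1
    · exact hsmall h1
  have hd0 : q ^ 2 + q + 1 ∣ 1 * ∏ i : Fin n, (u ^ n - u ^ (i : ℕ)) := by
    rw [one_mul, ← hcard]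
    exact (hdc.mul_left _).mul_left _
  have hP1 : ∀ r : ℕ, r.Prime → r ∣ q ^ 2 + q + 1 → ¬ r ∣ 1 := fun r hr _ h1 => hr.one_lt.ne' (Nat.dvd_one.1 h1)
  set g := Nat.gcd n (u - 1) with hg
  have hg1 : 1 ≤ g := Nat.gcd_pos_of_pos_left _ (by omega)
  have hgu : g ∣ u - 1 := Nat.gcd_dvd_right _ _
  have hgle : g ≤ u - 1 := Nat.le_of_dvd (by omega) hgu
  obtain ⟨s, hs⟩ := H363.PslSpec.exists_singer (F := F) (n := n) (by omega)
  rw [← hu, ← hg] at hs
  have hcopu : Nat.Coprime (q ^ 2 + q + 1) (u - 1) := TA.coprime_of fun r hr hrn => hone r hr hrn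
  have hcopg : Nat.Coprime (q ^ 2 + q + 1) g := Nat.Coprime.coprime_dvd_right hgu hcopu
  have hdvd : ∀ m, u - 1 ∣ u ^ m - 1 := fun m => Nat.sub_one_dvd_pow_sub_one _ _
  obtain ⟨k, rfl⟩ : ∃ k, n = k + 1 := ⟨n - 1, by omega⟩
  simp only [Nat.add_sub_cancel] at htype hmix
  have huk1 : 1 < u ^ k := Nat.one_lt_pow (by omega) hu2
  have huk2 : 1 < u ^ (k + 1) := Nat.one_lt_pow (by omega) hu2
  have hsucc : u ^ (k + 1) = u ^ k * u := pow_succ _ _
  -- the order of the Singer cycle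
  have hgn : g ∣ (u ^ (k + 1) - 1) / (u - 1) := by
    have h3 : (u ^ (k + 1) - 1) / (u - 1) = ∑ i ∈ Finset.range (k + 1), u ^ i :=
      (Nat.geomSum_eq (by omega) (k + 1)).symm
    have h4 : ∀ m, ∑ i ∈ Finset.range m, u ^ i ≡ m [MOD g] := by
      intro m
      induction m with
      | zero => rfl
      | succ m ih =>
        rw [Finset.sum_range_succ]
        refine ih.add ?_
        have : u ≡ 1 [MOD g] := ((Nat.modEq_iff_dvd' (by omega)).mpr hgu).symm
        simpa using this.pow m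
    rw [h3]
    exact ((h4 (k + 1)).dvd_iff dvd_rfl).mpr (Nat.gcd_dvd_left _ _)
  have hsm : orderOf s * g * (u - 1) = u ^ (k + 1) - 1 := by
    rw [hs, Nat.div_mul_cancel hgn, Nat.div_mul_cancel (hdvd _)]
  by_cases hA : ∃ r : ℕ, r.Prime ∧ r ∣ q ^ 2 + q + 1 ∧ r ∣ u ^ k - 1
  · exfalso
    obtain ⟨r, hr, hrn, hrk⟩ := hA
    have hdk : q ^ 2 + q + 1 ∣ u ^ k - 1 := by
      refine dvd_of_primes (j := k) hd0 hP1 (by omega) (by omega) fun a ha han => ⟨hchar a ha han, ?_⟩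
      intro i hi1 hi2 hi3 hi4
      rcases Nat.lt_or_ge i (k + 1) with h5 | h5
      · exact hlow a ha han i hi1 (by omega) hi4
      · obtain rfl : i = k + 1 := by omega
        exact hmix r a hr ha hrn han hrk hi4
    have hdk2 : q ^ 2 + q + 1 ∣ (u ^ k - 1) / (u - 1) := by
      have : q ^ 2 + q + 1 ∣ (u ^ k - 1) / (u - 1) * (u - 1) := by rwa [Nat.div_mul_cancel (hdvd _)]
      exact hcopu.dvd_of_dvd_mul_right this
    have hpos : 0 < (u ^ k - 1) / (u - 1) := Nat.div_pos (Nat.le_of_dvd (by omega) (hdvd k)) (by omega)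
    have hle := Nat.le_of_dvd hpos hdk2
    have hmax := h.max A s
    have h5 : (u ^ k - 1) / (u - 1) * (u - 1) = u ^ k - 1 := Nat.div_mul_cancel (hdvd _)
    have h6 : orderOf s * g * (u - 1) ≤ (u ^ k - 1) / (u - 1) * (u - 1) * (u - 1) := by
      apply Nat.mul_le_mul_right
      exact Nat.mul_le_mul (hmax.trans hle) hgle
    rw [hsm, h5, hsucc] at h6
    exact pow_aux hu2 huk1 h6
  · push Not at hA
    have hdk : q ^ 2 + q + 1 ∣ u ^ (k + 1) - 1 := by
      refine dvd_of_primes (j := k + 1) hd0 hP1 (by omega) (by omega) fun a ha han => ⟨hchar a ha han, ?_⟩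
      intro i hi1 hi2 hi3 hi4
      rcases Nat.lt_or_ge i k with h5 | h5
      · exact hlow a ha han i hi1 (by omega) hi4
      · obtain rfl : i = k := by omega
        exact hA a ha han hi4
    rw [← hsm] at hdk
    have hds : q ^ 2 + q + 1 ∣ orderOf s := hcopg.dvd_of_dvd_mul_right (hcopu.dvd_of_dvd_mul_right hdk)
    have hos := h.eq_of_dvd_order A s hds
    obtain ⟨x, hx⟩ := exists_order_sub (F := F) (k := k) (by omega)
    rw [← hu, ← hg] at hx
    have hq2 : 121 ≤ q ^ 2 := by nlinarith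
    have hqq : 11 * q ≤ q ^ 2 := by nlinarith
    rw [hos] at hsm
    -- `x` is large
    have e1 : u ^ k = orderOf x * g + 1 := by omega
    have e2 : (orderOf x * g + 1) * u = (q ^ 2 + q + 1) * g * (u - 1) + 1 := by
      rw [← e1, ← hsucc, hsm]; omega
    have e3 : orderOf x * g * (u - 1 + 1) + (u - 1) = (q ^ 2 + q + 1) * g * (u - 1) := by
      have h5 : u - 1 + 1 = u := by omega
      rw [h5]
      have h6 : (orderOf x * g + 1) * u = orderOf x * g * u + u := by ring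
      omega
    have hbig : q ^ 2 - 1 < 2 * orderOf x := big_aux rfl h11 hg1 (by omega) e3
    rcases h.big A x hbig with h5 | h5 | ⟨-, h5⟩
    · exfalso
      rw [h5] at e3
      have : (q ^ 2 + q + 1) * g * (u - 1 + 1) = (q ^ 2 + q + 1) * g * (u - 1) + (q ^ 2 + q + 1) * g := by ring
      have h6 : 0 < (q ^ 2 + q + 1) * g := Nat.mul_pos (by omega) hg1
      omega
    · obtain ⟨h6, h7⟩ := num_one (n := k + 1) hn hu2 h11 hg1 hsm (by simpa using hx) rfl h5
      exact ⟨h7, h6⟩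
    · exact (num_two (n := k + 1) hn hu2 h11 hg1 hsm (by simpa using hx) rfl h5).elim

end Cfsg.Agent.H366.T
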