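import Mathlib
import Cfsg.Agent.S3856
import Cfsg.Agent.S3633
import Cfsg.Agent.S4001
import Cfsg.Agent.S3359
import Cfsg.Agent.H495.Frob
import Cfsg.Agent.H375.Reduce
import Cfsg.Agent.H366.Coclique
import Cfsg.Agent.H366.TOuter

/-!
# Groups with the element orders of `PSL(3, q)`: reduction (helper366, for S3455)

`reduce`: a finite group `G` with the element orders of `PSL_3(q)`, `q ≡ 3, 11 (mod 12)`, has normal subgroups
`N ≤ M`, `N` nilpotent, `M / N` simple with `TS`, the primes of `q² + q + 1` do not divide `|N|`, `|G / M|`.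
-/

set_option autoImplicit false
set_option linter.unusedSectionVars false

namespace Cfsg.Agent.H366.T

/-- `G` has the element orders of `PSL_3(q)`. -/
structure TG (G : Type*) [Group G] (p q : ℕ) : Prop where
  mem : ∀ n, (∃ g : G, orderOf g = n) ↔ Om p q n

namespace TA

variable {p f q : ℕ} (A : TA p f q)

include A

theorem exists_r2 : ∃ r : ℕ, r.Prime ∧ r ≠ 2 ∧ r ∣ q + 1 := by
  by_contra hcon
  push Not at hcon
  have h11 := A.h11
  have h3 := A.h3
  have hk := Nat.eq_prime_pow_of_unique_prime_dvd (n := q + 1) (p := 2) (by omega) (by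
    intro d hd hdq
    by_contra h
    exact hcon d hd h hdq)
  set k := (q + 1).primeFactorsList.length with hkdef
  have hk4 : 4 ≤ k := by
    by_contra hlt
    have : 2 ^ k ≤ 2 ^ 3 := Nat.pow_le_pow_right (by norm_num) (by omega)
    omega
  have h8 : 8 ∣ q + 1 := by
    rw [hk]
    exact pow_dvd_pow 2 (show 3 ≤ k by omega)
  rcases Nat.even_or_odd' k with ⟨j, hj | hj⟩
  · have h4 : 2 ^ k % 3 = 1 := by
      rw [hj, pow_mul, Nat.pow_mod]
      norm_num
    have h5 : 3 ∣ q := by omega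
    have h6 : p = 3 := by
      rw [A.hq] at h5
      exact ((Nat.prime_dvd_prime_iff_eq Nat.prime_three A.hp).1 (Nat.prime_three.dvd_of_dvd_pow h5)).symm
    have h7 : q % 8 = 1 ∨ q % 8 = 3 := by
      rw [A.hq, h6]
      have : ∀ n : ℕ, 3 ^ n % 8 = 1 ∨ 3 ^ n % 8 = 3 := by
        intro n
        induction n with
        | zero => norm_num
        | succ n ih => rw [pow_succ]; omega
      exact this f
    omega
  · have h4 : 2 ^ k % 3 = 2 := by
      rw [hj, pow_succ, pow_mul, Nat.mul_mod, Nat.pow_mod]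
      norm_num
    omega

theorem two_dvd : 2 ∣ q - 1 := by
  have := A.h4
  omega

theorem sq_sub : q ^ 2 - 1 = (q - 1) * (q + 1) := by
  have h11 := A.h11
  obtain ⟨k, rfl⟩ : ∃ k, q = k + 1 := ⟨q - 1, by omega⟩
  have : (k + 1) ^ 2 = k * (k + 2) + 1 := by ring
  rw [this, Nat.add_sub_cancel, Nat.add_sub_cancel]

/-- facts on an odd prime divisor of `q + 1` -/
theorem r2_facts {r : ℕ} (hr : r.Prime) (hr2 : r ≠ 2) (h : r ∣ q + 1) :
    r ≠ p ∧ ¬ r ∣ q - 1 ∧ ¬ r ∣ q ^ 2 + q + 1 ∧ r ≠ 3 ∨ (r = 3 ∧ r ≠ p ∧ ¬ r ∣ q - 1 ∧ ¬ r ∣ q ^ 2 + q + 1) := by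
  have h11 := A.h11
  have h1 : r ≠ p := by
    rintro rfl
    have h2 := (Nat.dvd_add_right A.dvd_q).1 h
    exact hr.one_lt.ne' (Nat.dvd_one.1 h2)
  have h2 : ¬ r ∣ q - 1 := by
    intro h2
    have h3 := Nat.dvd_sub h h2
    have h4 : q + 1 - (q - 1) = 2 := by omega
    rw [h4] at h3
    exact hr2 ((Nat.prime_dvd_prime_iff_eq hr Nat.prime_two).1 h3)
  have h3 : ¬ r ∣ q ^ 2 + q + 1 := by
    intro h3
    have e : q ^ 2 + q + 1 = q * (q + 1) + 1 := by ring
    rw [e] at h3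
    have h2 := (Nat.dvd_add_right (dvd_mul_of_dvd_right h q)).1 h3
    exact hr.one_lt.ne' (Nat.dvd_one.1 h2)
  by_cases h5 : r = 3
  · exact Or.inr ⟨h5, h1, h2, h3⟩
  · exact Or.inl ⟨h1, h2, h3, h5⟩

end TA

open Matrix in
/-- Primes of nonsolvable Frobenius complements. -/
theorem exists_mul_of_complement {G : Type*} [Group G] [Finite G] {C : Subgroup G}
    (hC : Cfsg.IsFrobeniusComplement C) (hns : ¬ Group.IsSolvable C) {s : ℕ} (hs : s.Prime) (hsC : s ∣ Nat.card C)
    (h30 : s ≠ 2 ∧ s ≠ 3 ∧ s ≠ 5) : (∃ x : G, orderOf x = 4 * s) ∧ (∃ x : G, orderOf x = 3 * s) := by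
  classical
  let f : G ≃* Shrink.{0} G := Shrink.mulEquiv.symm
  have hfin : Finite (Shrink.{0} G) := Finite.of_equiv G f.toEquiv
  obtain ⟨G₀, hG₀, hidx, S, M, hSM, hinf, hcomm, ⟨e⟩, -, hcop⟩ :=
    Cfsg.Agent.S3359.result (G := C) hns
      ⟨Shrink.{0} G, inferInstance, hfin, C.map f.toMonoidHom, H495.Frob.isFrobeniusComplement_map f hC,
        ⟨C.equivMapOfInjective f.toMonoidHom f.injective⟩⟩
  have hS : Nat.card S = 120 := by
    rw [Nat.card_congr e.toEquiv]
    exact Cfsg.Agent.PermutationGroups.AutSL25.natCard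
  have hG0 : Nat.card G₀ = 120 * Nat.card M := by
    rw [← hSM, Cfsg.Agent.OddOrderLocal.CommProd.card_sup_of_comm hcomm hinf, hS]
  have h1 : s ∣ 240 * Nat.card M := by
    have h2 := Subgroup.card_mul_index G₀
    rw [← h2, hG0] at hsC
    rcases hidx with h | h
    · rw [h, mul_one] at hsC
      exact hsC.trans (mul_dvd_mul_right (by norm_num) _)
    · rw [h, mul_right_comm] at hsC
      exact hsC
  have h2 : s ∣ Nat.card M := by
    rcases hs.dvd_mul.1 h1 with h2 | h2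
    · exfalso
      have e240 : 240 = 2 ^ 4 * 3 * 5 := by norm_num
      rw [e240] at h2
      rcases hs.dvd_mul.1 h2 with h3 | h3
      · rcases hs.dvd_mul.1 h3 with h4 | h4
        · exact h30.1 ((Nat.prime_dvd_prime_iff_eq hs Nat.prime_two).1 (hs.dvd_of_dvd_pow h4))
        · exact h30.2.1 ((Nat.prime_dvd_prime_iff_eq hs Nat.prime_three).1 h4)
      · exact h30.2.2 ((Nat.prime_dvd_prime_iff_eq hs Nat.prime_five).1 h3)
    · exact h2
  have hsf : Fact s.Prime := ⟨hs⟩
  obtain ⟨m, hm⟩ := exists_prime_orderOf_dvd_card' (G := M) s h2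
  have hm' : orderOf (m : C) = s := by rw [Subgroup.orderOf_coe, hm]
  have key : ∀ n : ℕ, Nat.Coprime n s → (∃ y : Matrix.SpecialLinearGroup (Fin 2) (ZMod 5), orderOf y = n) →
      ∃ x : G, orderOf x = n * s := by
    rintro n hn ⟨y, hy⟩
    have h3 : orderOf ((e.symm y : S) : C) = n := by rw [Subgroup.orderOf_coe, MulEquiv.orderOf_eq, hy]
    have h4 : Commute ((e.symm y : S) : C) (m : C) := hcomm _ (e.symm y).2 _ m.2
    refine ⟨(((e.symm y : S) : C) * (m : C) : C), ?_⟩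
    rw [Subgroup.orderOf_coe, h4.orderOf_mul_eq_mul_orderOf_of_coprime (by rw [h3, hm']; exact hn), h3, hm']
  constructor
  · apply key 4
    · have h6 : Nat.Coprime 2 s := (Nat.coprime_primes Nat.prime_two hs).2 h30.1.symm
      exact Nat.Coprime.pow_left 2 h6
    · refine ⟨⟨!![0, 4; 1, 0], by decide⟩, ?_⟩
      have e4 : (4 : ℕ) = 2 ^ (1 + 1) := by norm_num
      rw [e4]
      apply orderOf_eq_prime_pow
      · decide
      · decide
  · apply key 3
    · exact (Nat.coprime_primes Nat.prime_three hs).2 h30.2.1.symm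
    · have : Fact (Nat.Prime 3) := ⟨Nat.prime_three⟩
      apply exists_prime_orderOf_dvd_card' 3
      have h5 : Nat.card (Matrix.SpecialLinearGroup (Fin 2) (ZMod 5)) = 120 :=
        Cfsg.Agent.PermutationGroups.AutSL25.natCard
      rw [h5]
      norm_num

namespace TG

variable {G : Type*} [Group G] [Finite G] {p f q : ℕ} (H : TG G p q) (A : TA p f q)

include H

theorem om (g : G) : Om p q (orderOf g) := (H.mem _).1 ⟨g, rfl⟩

theorem dvd_card {n : ℕ} (h : Om p q n) : n ∣ Nat.card G := by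
  obtain ⟨g, rfl⟩ := (H.mem n).2 h
  exact orderOf_dvd_natCard g

include A

theorem p_dvd : p ∣ Nat.card G := H.dvd_card (Or.inr (Or.inr (dvd_mul_right _ _)))

theorem two_dvd : 2 ∣ Nat.card G := H.dvd_card (Or.inr (Or.inr (dvd_mul_of_dvd_right A.two_dvd p)))

/-- not soluble; soluble normal subgroups -/
theorem sol {r2 : ℕ} (hr : r2.Prime) (hr2 : r2 ≠ 2) (h : r2 ∣ q + 1) (K : Subgroup G) [K.Normal]
    (hK : Group.IsSolvable ↥K) :
    ¬ (p ∣ Nat.card K ∧ r2 ∣ Nat.card K) ∧ ¬ Group.IsSolvable G := by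
  classical
  obtain ⟨hrp, hr1, hrn⟩ : r2 ≠ p ∧ ¬ r2 ∣ q - 1 ∧ ¬ r2 ∣ q ^ 2 + q + 1 := by
    rcases A.r2_facts hr hr2 h with h | h
    · exact ⟨h.1, h.2.1, h.2.2.1⟩
    · exact ⟨h.2.1, h.2.2.1, h.2.2.2⟩
  obtain ⟨r, hrr, hrN⟩ := Nat.exists_prime_and_dvd A.n_one_lt.ne'
  have hrp' : r ≠ p := (A.prime_facts hrr hrN).2.2.1
  have hrr2 : r ≠ r2 := by rintro rfl; exact hrn hrN
  have n1 : ¬ Om p q (p * r2) := fun h => hr1 (A.dvd_of_mul_p (by rwa [mul_comm]))
  have n2 : ¬ Om p q (p * r) := A.not_mul_n hrr hrN A.p_not_dvd_n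
  have n3 : ¬ Om p q (r2 * r) := A.not_mul_n hrr hrN hrn
  have hq2 : r2 ∣ q ^ 2 - 1 := by rw [A.sq_sub]; exact dvd_mul_of_dvd_right h _
  have hco : ((∀ s ∈ ({p, r2, r} : Finset ℕ), s.Prime ∧ s ∣ Nat.card G) ∧ (∀ s ∈ ({p, r2, r} : Finset ℕ),
      ∀ t ∈ ({p, r2, r} : Finset ℕ), s ≠ t → ¬ ∃ x : G, orderOf x = s * t)) := by
    constructor
    · intro s hs
      rw [Finset.mem_insert, Finset.mem_insert, Finset.mem_singleton] at hs
      rcases hs with rfl | rfl | rfl
      · exact ⟨A.hp, H.p_dvd A⟩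
      · exact ⟨hr, H.dvd_card (Or.inr (Or.inl hq2))⟩
      · exact ⟨hrr, H.dvd_card (Or.inl hrN)⟩
    · intro s hs t ht hst hx
      have hO := (H.mem _).1 hx
      rw [Finset.mem_insert, Finset.mem_insert, Finset.mem_singleton] at hs ht
      rcases hs with rfl | rfl | rfl <;> rcases ht with rfl | rfl | rfl
      · exact hst rfl
      · exact n1 hO
      · exact n2 hO
      · exact n1 (by rwa [mul_comm])
      · exact hst rfl
      · exact n3 hO
      · exact n2 (by rwa [mul_comm])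
      · exact n3 (by rwa [mul_comm])
      · exact hst rfl
  have hcard : 3 ≤ ({p, r2, r} : Finset ℕ).card := by
    rw [Finset.card_insert_of_notMem, Finset.card_insert_of_notMem, Finset.card_singleton]
    · rw [Finset.mem_singleton]; exact hrr2.symm
    · rw [Finset.mem_insert, Finset.mem_singleton]
      push Not
      exact ⟨hrp.symm, hrp'.symm⟩
  have key := S3633.result (G := G) {p, r2, r} hcard hco K hK
  refine ⟨fun h => ?_, key.2⟩
  exact hrp (key.1 p (by simp) r2 (by simp) h.1 h.2).symm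

/-- **Not a Frobenius group.** -/
theorem not_frobenius {C : Subgroup G} (hC : Cfsg.IsFrobeniusComplement C) : False := by
  classical
  obtain ⟨r2, hr, hr2, h⟩ := A.exists_r2
  obtain ⟨hrp, hr1, hrn⟩ : r2 ≠ p ∧ ¬ r2 ∣ q - 1 ∧ ¬ r2 ∣ q ^ 2 + q + 1 := by
    rcases A.r2_facts hr hr2 h with h | h
    · exact ⟨h.1, h.2.1, h.2.2.1⟩
    · exact ⟨h.2.1, h.2.2.1, h.2.2.2⟩
  obtain ⟨K, -, hKn, hKnil, hKC, hcop, -, hall⟩ := H495.Frob.frob_data C hC
  have hd := H495.Frob.orderOf_dvd hall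
  have hKs : Group.IsSolvable K := inferInstance
  have hsol := H.sol A hr hr2 h K hKs
  have hpodd := A.podd
  have hq2 : 2 * r2 ∣ q ^ 2 - 1 := by rw [A.sq_sub]; exact mul_dvd_mul A.two_dvd h
  obtain ⟨x, hx⟩ := (H.mem (2 * p)).2 (Or.inr (Or.inr (by rw [mul_comm]; exact mul_dvd_mul_left p A.two_dvd)))
  obtain ⟨y, hy⟩ := (H.mem (2 * r2)).2 (Or.inr (Or.inl hq2))
  have hx' := hd x
  have hy' := hd y
  rw [hx] at hx'
  rw [hy] at hy'
  have hno : ∀ s : ℕ, s.Prime → s ∣ Nat.card K → s ∣ Nat.card C → False := by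
    intro s hs h1 h2
    exact hs.one_lt.ne' (Nat.eq_one_of_dvd_coprimes hcop h1 h2)
  have hpC : p ∣ Nat.card C ∧ r2 ∣ Nat.card C := by
    rcases hx' with h1 | h1 <;> rcases hy' with h2 | h2
    · exact absurd ⟨(dvd_mul_left _ _).trans h1, (dvd_mul_left _ _).trans h2⟩ hsol.1
    · exact (hno 2 Nat.prime_two ((dvd_mul_right _ _).trans h1) ((dvd_mul_right _ _).trans h2)).elim
    · exact (hno 2 Nat.prime_two ((dvd_mul_right _ _).trans h2) ((dvd_mul_right _ _).trans h1)).elim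
    · exact ⟨(dvd_mul_left _ _).trans h1, (dvd_mul_left _ _).trans h2⟩
  have hCns : ¬ Group.IsSolvable C := by
    intro hCs
    apply hsol.2
    have hs : Function.Surjective ((QuotientGroup.mk' K).comp C.subtype) := by
      intro g
      obtain ⟨g, rfl⟩ := QuotientGroup.mk'_surjective K g
      obtain ⟨⟨k, c⟩, hkc⟩ := hKC.2 g
      refine ⟨c, ?_⟩
      have h1 : (k : G) * (c : G) = g := hkc
      rw [← h1, map_mul]
      have h2 : QuotientGroup.mk' K (k : G) = 1 := (QuotientGroup.eq_one_iff _).2 k.2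
      rw [h2, one_mul]
      rfl
    have hQ : Group.IsSolvable (G ⧸ K) := Group.isSolvable_of_surjective hs
    exact Group.isSolvable_of_ker_le_range K.subtype (QuotientGroup.mk' K)
      (by rw [QuotientGroup.ker_mk', Subgroup.range_subtype])
  have key := fun s (hs : s.Prime) (h1 : s ∣ Nat.card C) => exists_mul_of_complement hC hCns hs h1
  by_cases hp3 : p = 3
  · have hr3 : r2 ≠ 3 := by rw [← hp3]; exact hrp
    have hr5 : r2 ≠ 5 := by
      rintro rfl
      have hf := A.fodd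
      have h5 : q % 5 = 3 ∨ q % 5 = 2 := by
        rw [A.hq, hp3]
        obtain ⟨j, hj⟩ : ∃ j, f = 2 * j + 1 := ⟨f / 2, by omega⟩
        rw [hj]
        clear hj hf
        induction j with
        | zero => norm_num
        | succ n ih =>
          have e : 3 ^ (2 * (n + 1) + 1) = 3 ^ (2 * n + 1) * 9 := by ring
          rw [e]
          omega
      omega
    obtain ⟨-, z, hz⟩ := key r2 hr hpC.2 ⟨hr2, hr3, hr5⟩
    have h1 := H.om z
    rw [hz, mul_comm, ← hp3] at h1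
    exact hr1 (A.dvd_of_mul_p h1)
  · have hp5 : p ≠ 5 := by
      intro h5
      have h4 := A.h4
      rw [A.hq, h5, Nat.pow_mod] at h4
      norm_num at h4
    obtain ⟨⟨z, hz⟩, -⟩ := key p A.hp hpC.1 ⟨by omega, hp3, hp5⟩
    have h1 := H.om z
    rw [hz] at h1
    exact A.not_four_p (dvd_refl _) h1

/-- primes joined to `2` do not divide `q² + q + 1`. -/
theorem not_dvd_of_reach {s : ℕ} (h : Relation.ReflTransGen (fun a b : ℕ => a.Prime ∧ b.Prime ∧ a ≠ b ∧
    a ∣ Nat.card G ∧ b ∣ Nat.card G ∧ ∃ g : G, orderOf g = a * b) 2 s) : ¬ s ∣ q ^ 2 + q + 1 := by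
  induction h with
  | refl =>
    have := A.n_odd
    omega
  | @tail a b _ hab ih =>
    obtain ⟨-, hb, -, -, -, hg⟩ := hab
    intro hbN
    exact A.not_mul_n hb hbN ih ((H.mem _).1 hg)

/-- **The reduction.** -/
theorem reduce : ∃ (N M : Subgroup G) (_ : N.Normal) (_ : M.Normal), N ≤ M ∧ Group.IsSolvable N ∧
    IsSimpleGroup (M ⧸ N.subgroupOf M) ∧ ¬ IsMulCommutative (M ⧸ N.subgroupOf M) ∧
    TS (M ⧸ N.subgroupOf M) p q ∧ (∀ s : ℕ, s.Prime → s ∣ Nat.card (G ⧸ M) → ¬ s ∣ q ^ 2 + q + 1) := by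
  classical
  obtain ⟨r2, hr, hr2, h⟩ := A.exists_r2
  obtain ⟨r, hrr, hrN⟩ := Nat.exists_prime_and_dvd A.n_one_lt.ne'
  have hrG : r ∣ Nat.card G := H.dvd_card (Or.inl hrN)
  have hdisc : (∃ B : Set ℕ, (∃ a ∈ B, a.Prime ∧ a ∣ Nat.card G) ∧ (∃ b ∉ B, b.Prime ∧ b ∣ Nat.card G) ∧
      ∀ a ∈ B, ∀ b ∉ B, a.Prime → b.Prime → a ∣ Nat.card G → b ∣ Nat.card G → ¬ ∃ g : G, orderOf g = a * b) := by
    refine ⟨{a | a ∣ q ^ 2 + q + 1}, ⟨r, hrN, hrr, hrG⟩, ⟨2, ?_, Nat.prime_two, H.two_dvd A⟩, ?_⟩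
    · have := A.n_odd
      show ¬ 2 ∣ _
      omega
    · intro a ha b hb hap _ _ _ hg
      have h1 := (H.mem _).1 hg
      rw [mul_comm] at h1
      exact A.not_mul_n hap ha hb h1
  rcases S3856.result (G := G) (even_iff_two_dvd.2 (H.two_dvd A)) hdisc with ⟨C, hC⟩ |
    ⟨H0, K0, hH0, hK0, hlt, h1, h2⟩ | ⟨N, M, hN, hM, hNM, h1, h2, h3, h4⟩
  · exact (H.not_frobenius A hC).elim
  · exfalso
    have := hH0
    have := hK0
    have h3 := (S4001.result H0 K0 hlt h1 h2).1
    exact (H.sol A hr hr2 h (⊥ : Subgroup G) inferInstance).2 h3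
  · refine ⟨N, M, hN, hM, hNM, ?_, h3, h4, ⟨?_, ?_⟩, ?_⟩
    · -- Thompson
      obtain ⟨y, hy⟩ := (H.mem r).2 (Or.inl hrN)
      have hnil : Group.IsNilpotent N := by
        apply H366.Coclique.nilpotent_of_fpf N hrr (y := y) (by rw [← hy, pow_orderOf_eq_one])
        intro m hm hc
        by_contra hm1
        have hom1 : orderOf m ≠ 1 := fun h => hm1 (orderOf_eq_one_iff.1 h)
        obtain ⟨s, hs, hsm⟩ := Nat.exists_prime_and_dvd hom1
        have hsN : s ∣ Nat.card N := by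
          refine hsm.trans ?_
          have := orderOf_dvd_natCard (⟨m, hm⟩ : N)
          rwa [← Subgroup.orderOf_coe] at this
        have hsn := H.not_dvd_of_reach A (h1 s hs hsN)
        have hsr : s ≠ r := by rintro rfl; exact hsn hrN
        obtain ⟨z, hz⟩ := H375.Reduce.exists_orderOf_mul ((Nat.coprime_primes hs hrr).2 hsr)
          (show Commute m y from hc.symm) hsm (by rw [hy])
        have h5 := H.om z
        rw [hz] at h5
        exact A.not_mul_n hrr hrN hsn h5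
      infer_instance
    · intro g
      obtain ⟨x, rfl⟩ := QuotientGroup.mk'_surjective _ g
      have h5 := H.om (x : G)
      have h6 : orderOf (QuotientGroup.mk' (N.subgroupOf M) x) ∣ orderOf (x : G) := by
        rw [Subgroup.orderOf_coe]
        exact orderOf_map_dvd _ _
      exact h5.of_dvd h6
    · obtain ⟨g, hg⟩ := (H.mem (q ^ 2 + q + 1)).2 (Or.inl dvd_rfl)
      have hgM : g ∈ M := by
        apply H375.Reduce.mem_of_coprime M g
        rw [hg]
        apply TA.coprime_of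
        intro s hs hsn hsM
        exact H.not_dvd_of_reach A (h2 s hs hsM) hsn
      refine ⟨QuotientGroup.mk' (N.subgroupOf M) ⟨g, hgM⟩, ?_⟩
      have h5 : orderOf (⟨g, hgM⟩ : M) = q ^ 2 + q + 1 := by rw [← hg, ← Subgroup.orderOf_coe]
      rw [H375.Reduce.orderOf_mk, h5]
      rw [h5]
      apply TA.coprime_of
      intro s hs hsn hsM
      refine H.not_dvd_of_reach A (h1 s hs ?_) hsn
      rwa [Nat.card_congr (Subgroup.subgroupOfEquivOfLe hNM).toEquiv] at hsM
    · intro s hs hsM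
      exact H.not_dvd_of_reach A (h2 s hs hsM)

end TG

end Cfsg.Agent.H366.T
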