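import Mathlib
import Cfsg.Prelude.Def_Classification2
import Cfsg.Agent.H366.TSp
import Cfsg.Agent.H366.TPsl
import Cfsg.Agent.H366.TPsu
import Cfsg.Agent.H366.TOrth
import Cfsg.Agent.H366.TAlt
import Cfsg.Agent.H366.TSpor
import Cfsg.Agent.H366.TCover
import Cfsg.Agent.H366.TRed
import Cfsg.Agent.H363.PslCard
import Cfsg.Agent.H371.CoverTwo
import Cfsg.Agent.H964.PrimeGraph

/-!
# Groups with the element orders of `PSL(3, q)`, `q ≡ 3, 11 (mod 12)` (helper366, for S3455): assembly
-/

set_option autoImplicit false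
set_option linter.unusedSectionVars false

universe u v

namespace Cfsg.Agent.H366.T

open Matrix Cfsg.Agent.ClassicalGeometry.AutPSL.Root Cfsg.Agent.ClassicalGeometry.AutPSL.Auto

/-- the elimination of the known simple groups, the exceptional ones assumed -/
theorem eq_psl (T : Cfsg.Agent.OrdDiv.OrderTable.{u}) {S : Type u} [Group S] {p f q : ℕ} (h : TS S p q) (A : TA p f q)
    (hna : ¬ IsMulCommutative S) (hk : IsKnownSimple' S) (hexc : ¬ IsExceptionalLieType S) {F : Type v} [Field F]
    [Fintype F] (hF : Fintype.card F = q) : Nonempty (S ≃* Matrix.ProjectiveSpecialLinearGroup (Fin 3) F) := by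
  rcases hk with h1 | h1 | h1 | h1 | h1 | h1 | h1 | h1 | h1 | h1
  · exfalso
    apply hna
    have hpf : Fact (Nat.card S).Prime := ⟨h1⟩
    have hcyc : IsCyclic S := isCyclic_of_prime_card rfl
    exact ⟨⟨fun a b => (IsCyclic.commGroup (α := S)).mul_comm a b⟩⟩
  · exact absurd h1 (not_alternating h A)
  · obtain ⟨K, _, _, n, hn, h2, ⟨e⟩⟩ := h1
    rcases hn.eq_or_lt with rfl | hn
    · exact (not_psl_two (h2 rfl) (h.congr e) A).elim
    · obtain ⟨rfl, hK⟩ := psl_three hn e h A
      obtain ⟨e'⟩ := H363.PslCard.psl_of_card (n := Fin 3) (F := K) (F' := F)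
        (by rw [← Nat.card_eq_fintype_card, hK, hF])
      exact ⟨e.trans e'⟩
  · exact absurd h1 (not_psp h A)
  · exact absurd h1 (not_psu h A)
  · exact absurd h1 (not_pomegaOdd h A)
  · exact absurd h1 (not_pomegaPlus h A)
  · exact absurd h1 (not_pomegaMinus h A)
  · exact absurd h1 hexc
  · exact absurd h1 (not_sporadic T h A)

section
variable {F : Type v} [Field F] [Fintype F] {p f : ℕ} [hp : Fact p.Prime] [CharP F p] (A : TA p f (Fintype.card F))

include A

/-- `SL_3(q) = PSL_3(q)` -/
theorem sl_equiv : Nonempty (Matrix.SpecialLinearGroup (Fin 3) F ≃* Matrix.ProjectiveSpecialLinearGroup (Fin 3) F) := by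
  refine ⟨MulEquiv.ofBijective (pr : Matrix.SpecialLinearGroup (Fin 3) F →* _) ⟨?_, pr_surjective⟩⟩
  rw [injective_iff_map_eq_one]
  intro g hg
  rw [pr_eq_one_iff, Matrix.SpecialLinearGroup.mem_center_iff] at hg
  obtain ⟨r, -, hr⟩ := hg
  have h1 := scalar_one A (C := Matrix.SpecialLinearGroup.toGL g) (by exact g.2) ⟨r, hr⟩
  apply Subtype.ext
  exact congrArg Units.val h1

/-- the spectrum -/
theorem tg {G : Type u} [Group G]
    (h : Set.range (orderOf : G → ℕ) = Set.range (orderOf : Matrix.ProjectiveSpecialLinearGroup (Fin 3) F → ℕ)) :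
    TG G p (Fintype.card F) := by
  constructor
  intro n
  have h1 : (∃ g : G, orderOf g = n) ↔ ∃ g : Matrix.ProjectiveSpecialLinearGroup (Fin 3) F, orderOf g = n :=
    Set.ext_iff.1 h n
  rw [h1, H964.PrimeGraph.mem_spec3 p, A.sub_cop]
  simp only [Nat.div_one]
  constructor
  · rintro (h | h | h | h | h)
    · exact Or.inl h
    · exact Or.inr (Or.inl h)
    · exact Or.inr (Or.inr (h.trans (dvd_mul_left _ _)))
    · exact Or.inr (Or.inr h)
    · exfalso
      have := A.podd
      omega
  · rintro (h | h | h)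
    · exact Or.inl h
    · exact Or.inr (Or.inl h)
    · exact Or.inr (Or.inr (Or.inr (Or.inl h)))

/-- **Assembly.** -/
theorem assemble {G : Type u} [Group G] [Finite G] (H : TG G p (Fintype.card F))
    (helim : ∀ (S : Type u) [Group S] [Finite S], IsSimpleGroup S → ¬ IsMulCommutative S → TS S p (Fintype.card F) →
      Nonempty (S ≃* Matrix.ProjectiveSpecialLinearGroup (Fin 3) F)) :
    Nonempty (G ≃* Matrix.ProjectiveSpecialLinearGroup (Fin 3) F) := by
  classical
  obtain ⟨N, M, hN, hM, hNM, hNs, hS, hna, hts, hGM⟩ := H.reduce A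
  obtain ⟨e⟩ := helim (M ⧸ N.subgroupOf M) hS hna hts
  obtain ⟨sl⟩ := sl_equiv A
  have hSL : IsSimpleGroup (Matrix.SpecialLinearGroup (Fin 3) F) := (sl.trans e.symm).isSimpleGroup
  -- the kernel is trivial
  have hN1 : N = ⊥ := by
    by_contra hne
    obtain ⟨L, hL, hLN, hV0, hab, l, hl, -, hexp⟩ := H371.CoverTwo.exists_chief N hNs hne
    set π := QuotientGroup.mk' L with hπ
    set V := N.map π with hV
    have hπs : Function.Surjective π := QuotientGroup.mk'_surjective L
    have hVn : V.Normal := Subgroup.Normal.map inferInstance π hπs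
    let ψ : (G ⧸ L) ⧸ V ≃* G ⧸ N := QuotientGroup.quotientQuotientEquivQuotient L N hLN
    let j : M ⧸ N.subgroupOf M →* G ⧸ N := QuotientGroup.lift (N.subgroupOf M) ((QuotientGroup.mk' N).comp M.subtype) (by
      intro x hx
      rw [Subgroup.mem_subgroupOf] at hx
      exact (QuotientGroup.eq_one_iff _).2 hx)
    have hj : Function.Injective j := by
      rw [injective_iff_map_eq_one]
      intro x hx
      obtain ⟨x, rfl⟩ := QuotientGroup.mk'_surjective _ x
      have h1 : ((x : G) : G ⧸ N) = 1 := hx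
      rw [QuotientGroup.eq_one_iff] at h1
      exact (QuotientGroup.eq_one_iff _).2 (Subgroup.mem_subgroupOf.2 h1)
    let φ : Matrix.SpecialLinearGroup (Fin 3) F →* (G ⧸ L) ⧸ V :=
      ψ.symm.toMonoidHom.comp (j.comp (sl.trans e.symm).toMonoidHom)
    have hφ : Function.Injective φ := ψ.symm.injective.comp (hj.comp (sl.trans e.symm).injective)
    have hω : ∀ g : G ⧸ L, Om p (Fintype.card F) (orderOf g) := by
      intro g
      obtain ⟨g, rfl⟩ := hπs g
      exact (H.om g).of_dvd (orderOf_map_dvd π g)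
    exact cover_false A hω V ⟨⟨fun a b => Subtype.ext (hab a a.2 b b.2)⟩⟩ hl hexp hV0 φ hφ
  subst hN1
  have e1 : M ≃* M ⧸ (⊥ : Subgroup G).subgroupOf M :=
    ((QuotientGroup.quotientMulEquivOfEq (by
      rw [Subgroup.bot_subgroupOf])).trans QuotientGroup.quotientBot).symm
  have e2 : M ≃* Matrix.ProjectiveSpecialLinearGroup (Fin 3) F := e1.trans e
  have hMs : IsSimpleGroup M := e1.isSimpleGroup
  have hMna : ¬ IsMulCommutative M := by
    intro hc
    apply hna
    refine ⟨⟨fun a b => ?_⟩⟩
    have := hc.is_comm.comm (e1.symm a) (e1.symm b)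
    apply e1.symm.injective
    rw [map_mul, map_mul, this]
  have hMts : TS M p (Fintype.card F) := hts.congr e1.symm
  -- the centralizer
  have hcen : ∀ c ∈ M, (∀ m ∈ M, m * c = c * m) → c = 1 := by
    intro c hc hcm
    have h1 : (⟨c, hc⟩ : M) ∈ Subgroup.center M := by
      rw [Subgroup.mem_center_iff]
      intro m
      exact Subtype.ext (hcm m m.2)
    rcases hMs.eq_bot_or_eq_top_of_normal (Subgroup.center M) inferInstance with h | h
    · rw [h, Subgroup.mem_bot] at h1
      exact congrArg Subtype.val h1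
    · exfalso
      apply hMna
      refine ⟨⟨fun a b => ?_⟩⟩
      have : b ∈ Subgroup.center M := by rw [h]; trivial
      exact Subgroup.mem_center_iff.1 this a
  have hC : Subgroup.centralizer (M : Set G) = ⊥ := by
    rw [Subgroup.eq_bot_iff_forall]
    intro c hc
    by_contra hc1
    rw [Subgroup.mem_centralizer_iff] at hc
    obtain ⟨s, hs, hsc⟩ := Nat.exists_prime_and_dvd (n := orderOf c) (fun h => hc1 (orderOf_eq_one_iff.1 h))
    -- an element of order `s`
    obtain ⟨k, hk⟩ := hsc
    have hpos := orderOf_pos c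
    have hk0 : k ≠ 0 := by rintro rfl; omega
    have hck : orderOf (c ^ k) = s := by
      rw [orderOf_pow' c hk0, hk, Nat.gcd_mul_left_left, Nat.mul_div_cancel _ (Nat.pos_of_ne_zero hk0)]
    have hckc : ∀ m ∈ M, m * c ^ k = c ^ k * m := fun m hm => by
      have : Commute m c := hc m hm
      exact this.pow_right k
    have hsM : s ∣ Nat.card (G ⧸ M) := by
      have h1 : orderOf (QuotientGroup.mk' M (c ^ k)) ∣ s := by rw [← hck]; exact orderOf_map_dvd _ _
      rcases (Nat.dvd_prime hs).1 h1 with h2 | h2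
      · exfalso
        have h3 : c ^ k ∈ M := (QuotientGroup.eq_one_iff _).1 (orderOf_eq_one_iff.1 h2)
        rw [hcen _ h3 hckc, orderOf_one] at hck
        exact hs.one_lt.ne hck
      · rw [← h2]
        exact orderOf_dvd_natCard _
    have hsn := hGM s hs hsM
    obtain ⟨r, hrr, hrN⟩ := Nat.exists_prime_and_dvd A.n_one_lt.ne'
    obtain ⟨m, hm⟩ := hMts.ex
    have hsr : s ≠ r := by rintro rfl; exact hsn hrN
    obtain ⟨z, hz⟩ := H375.Reduce.exists_orderOf_mul ((Nat.coprime_primes hs hrr).2 hsr)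
      (show Commute (c ^ k) (m : G) from (hckc m m.2).symm) hck.symm.dvd (by
        rw [Subgroup.orderOf_coe, hm]; exact hrN)
    have h5 := H.om z
    rw [hz] at h5
    exact A.not_mul_n hrr hrN hsn h5
  have htop := outer_top A M e2 hC H.om
  subst htop
  exact ⟨Subgroup.topEquiv.symm.trans e2⟩

end

end Cfsg.Agent.H366.T
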