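import Cfsg.Agent.H366.TBase

/-!
# Arithmetic for the even-dimensional orthogonal groups (helper366, for S3455)
-/

set_option autoImplicit false

namespace Cfsg.Agent.H366.T

theorem orth_cop {n v m a c : ℕ} (hm : 2 ≤ m)
    (hd : n ∣ v ^ a * c * ∏ i ∈ Finset.range (m - 1), (v ^ (2 * (i + 1)) - 1))
    (hlow : ∀ r : ℕ, r.Prime → r ∣ n → ¬ r ∣ v ∧ ∀ i, 1 ≤ i → i + 2 ≤ m → ¬ r ∣ v ^ i - 1 ∧ ¬ r ∣ v ^ i + 1) :
    n ∣ c * (v ^ (2 * (m - 1)) - 1) := by
  have hcop : ∀ {X : ℕ}, (∀ r : ℕ, r.Prime → r ∣ n → ¬ r ∣ X) → Nat.Coprime n X := by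
    intro X hX
    by_contra hcon
    obtain ⟨r, hr, h1, h2⟩ := Nat.Prime.not_coprime_iff_dvd.1 hcon
    exact hX r hr h1 h2
  obtain ⟨k, rfl⟩ : ∃ k, m = k + 2 := ⟨m - 2, by omega⟩
  have e1 : k + 2 - 1 = k + 1 := rfl
  rw [e1, Finset.prod_range_succ] at hd
  have h1 : v ^ a * c * ((∏ i ∈ Finset.range k, (v ^ (2 * (i + 1)) - 1)) * (v ^ (2 * (k + 1)) - 1)) =
      (v ^ a * ∏ i ∈ Finset.range k, (v ^ (2 * (i + 1)) - 1)) * (c * (v ^ (2 * (k + 1)) - 1)) := by ring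
  rw [h1] at hd
  refine (hcop ?_).dvd_of_dvd_mul_left hd
  intro r hr hrn hrd
  rcases (Nat.Prime.dvd_mul hr).1 hrd with h2 | h2
  · exact (hlow r hr hrn).1 (hr.dvd_of_dvd_pow h2)
  · obtain ⟨i, hi, hi2⟩ := (hr.prime.dvd_finsetProd_iff _).1 h2
    rw [Finset.mem_range] at hi
    have e2 : v ^ (2 * (i + 1)) - 1 = (v ^ (i + 1) + 1) * (v ^ (i + 1) - 1) := by
      rw [← Nat.sq_sub_sq, one_pow, mul_comm 2, pow_mul]
    rw [e2] at hi2
    obtain ⟨h3, h4⟩ := (hlow r hr hrn).2 (i + 1) (by omega) (by omega)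
    rcases (Nat.Prime.dvd_mul hr).1 hi2 with h5 | h5
    · exact h4 h5
    · exact h3 h5

theorem two_pow_split (v m : ℕ) : v ^ (2 * (m - 1)) - 1 = (v ^ (m - 1) + 1) * (v ^ (m - 1) - 1) := by
  rw [← Nat.sq_sub_sq, one_pow, mul_comm 2, pow_mul]

/-- the mixed case for `v = 3` -/
theorem mixed_three {p f q X : ℕ} (A : TA p f q) (hX : 9 ≤ X) (h : 8 * (q ^ 2 + q + 1) = (3 * X + 1) * (X + 1)) :
    False := by
  have h11 := A.h11
  obtain ⟨Y, rfl⟩ : ∃ Y, X = Y + 1 := ⟨X - 1, by omega⟩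
  have e : 8 * (q * (q + 1)) = (3 * Y + 10) * Y := by nlinarith
  have hq1 : q ∣ (3 * Y + 10) * Y := ⟨8 * (q + 1), by rw [← e]; ring⟩
  have hp10 : ¬ p ∣ 10 := by
    intro h10
    have h2 : p ∣ 2 * 5 := h10
    rcases (Nat.Prime.dvd_mul A.hp).1 h2 with h3 | h3
    · have := (Nat.prime_dvd_prime_iff_eq A.hp Nat.prime_two).1 h3
      have := A.podd
      omega
    · have h4 := (Nat.prime_dvd_prime_iff_eq A.hp (by norm_num : Nat.Prime 5)).1 h3
      have h5 := A.h4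
      rw [A.hq, h4, Nat.pow_mod] at h5
      simp at h5
  by_cases hpY : p ∣ Y
  · have hcop : Nat.Coprime q (3 * Y + 10) := by
      rw [A.hq]
      apply Nat.Coprime.pow_left
      rw [Nat.Prime.coprime_iff_not_dvd A.hp]
      intro h1
      exact hp10 ((Nat.dvd_add_right (hpY.mul_left 3)).1 h1)
    obtain ⟨k, rfl⟩ := hcop.dvd_of_dvd_mul_left hq1
    have hk : k ≠ 0 := by rintro rfl; omega
    have h2 : 8 * (q + 1) = (3 * (q * k) + 10) * k := by
      have : q * (8 * (q + 1)) = q * ((3 * (q * k) + 10) * k) := by linarith [e, show q * ((3 * (q * k) + 10) * k) = (3 * (q * k) + 10) * (q * k) by ring]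
      exact Nat.eq_of_mul_eq_mul_left (by omega) this
    rcases Nat.lt_or_ge k 2 with hk2 | hk2
    · obtain rfl : k = 1 := by omega
      omega
    · have h3 : 3 * (q * k) ≥ 3 * (q * 2) := Nat.mul_le_mul_left _ (Nat.mul_le_mul_left _ hk2)
      have h4 : (3 * (q * k) + 10) * k ≥ (3 * (q * 2) + 10) * 2 := Nat.mul_le_mul (by omega) hk2
      omega
  · have hcop : Nat.Coprime q Y := by
      rw [A.hq]
      apply Nat.Coprime.pow_left
      rwa [Nat.Prime.coprime_iff_not_dvd A.hp]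
    obtain ⟨k, hk⟩ := hcop.dvd_of_dvd_mul_right hq1
    rw [hk] at e
    have h2 : 8 * (q + 1) = k * Y := by
      have : q * (8 * (q + 1)) = q * (k * Y) := by rw [← mul_assoc q k Y]; linarith
      exact Nat.eq_of_mul_eq_mul_left (by omega) this
    have h3 : 24 * (q + 1) + 10 * k = k * (q * k) := by
      rw [← hk]; nlinarith
    rcases Nat.lt_or_ge k 5 with hk5 | hk5
    · have : k * (q * k) ≤ 4 * (q * 4) := Nat.mul_le_mul (by omega) (Nat.mul_le_mul_left _ (by omega))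
      omega
    · rcases Nat.lt_or_ge k 6 with hk6 | hk6
      · obtain rfl : k = 5 := by omega
        have := A.h4
        omega
      · obtain ⟨j, rfl⟩ : ∃ j, k = j + 6 := ⟨k - 6, by omega⟩
        have : (j + 6) * (q * (j + 6)) = q * (j * j) + 12 * (q * j) + 36 * q := by ring
        have h4 : 11 * j ≤ q * j := Nat.mul_le_mul_right _ h11
        omega

end Cfsg.Agent.H366.T
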