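import Cfsg.Agent.H366.TBase
import Cfsg.Agent.H20.FrobTools

/-!
# Sporadic orders and `q² + q + 1`; Sylow's theorem for `q = 11` (helper366, for S3455)
-/

set_option autoImplicit false

namespace Cfsg.Agent.H366.T

/-- binary search for the largest `m` with `m² + m + 1 ≤ N` -/
def bs (N : ℕ) : ℕ → ℕ → ℕ → ℕ
  | 0, lo, _ => lo
  | fuel + 1, lo, hi => if ((lo + hi) / 2) * ((lo + hi) / 2) + (lo + hi) / 2 + 1 ≤ N then bs N fuel ((lo + hi) / 2) hi
      else bs N fuel lo ((lo + hi) / 2)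

theorem bs_spec {N q : ℕ} (hq : q * q + q + 1 = N) : ∀ (fuel lo hi : ℕ), lo ≤ q → q < hi → hi ≤ lo + 2 ^ fuel →
    bs N fuel lo hi = q
  | 0, lo, hi, h1, h2, h3 => by
    rw [bs]
    simp at h3
    omega
  | fuel + 1, lo, hi, h1, h2, h3 => by
    rw [bs]
    have h4 : 2 ^ (fuel + 1) = 2 * 2 ^ fuel := by rw [pow_succ]; ring
    split_ifs with h
    · apply bs_spec hq fuel _ _ _ h2 (by omega)
      by_contra hcon
      have h5 : q + 1 ≤ (lo + hi) / 2 := by omega
      have h6 : (q + 1) * (q + 1) ≤ (lo + hi) / 2 * ((lo + hi) / 2) := Nat.mul_le_mul h5 h5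
      nlinarith
    · apply bs_spec hq fuel _ _ h1 _ (by omega)
      by_contra hcon
      have h5 : (lo + hi) / 2 ≤ q := by omega
      have h6 : (lo + hi) / 2 * ((lo + hi) / 2) ≤ q * q := Nat.mul_le_mul h5 h5
      omega

/-- the prime factors of `q² + q + 1` -/
theorem prime_mod_three {q r : ℕ} (hr : r.Prime) (h : r ∣ q ^ 2 + q + 1) (h3 : r ≠ 3) : r % 3 = 1 := by
  have : Fact r.Prime := ⟨hr⟩
  have h0 : ((q : ZMod r)) ^ 2 + q + 1 = 0 := by
    have := (ZMod.natCast_eq_zero_iff (q ^ 2 + q + 1) r).2 h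
    push_cast at this
    exact this
  have h1 : (q : ZMod r) ^ 3 = 1 := by linear_combination ((q : ZMod r) - 1) * h0
  have h2 : (q : ZMod r) ≠ 1 := by
    intro h2
    rw [h2] at h0
    have h4 : ((3 : ℕ) : ZMod r) = 0 := by push_cast; linear_combination h0
    rw [ZMod.natCast_eq_zero_iff] at h4
    exact h3 ((Nat.prime_dvd_prime_iff_eq hr Nat.prime_three).1 h4)
  have h4 : orderOf (q : ZMod r) = 3 := by
    have : Fact (Nat.Prime 3) := ⟨Nat.prime_three⟩
    exact orderOf_eq_prime h1 h2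
  have h5 : (q : ZMod r) ≠ 0 := by
    intro h5
    rw [h5] at h0
    simp at h0
  have h6 : 3 ∣ r - 1 := by
    rw [← h4]
    exact orderOf_dvd_of_pow_eq_one (ZMod.pow_card_sub_one_eq_one h5)
  have := hr.two_le
  omega

/-- the check -/
def okq (N : ℕ) : Bool :=
  let s := bs N 28 0 (2 ^ 28)
  (s * s + s + 1 != N) || (s == 11) || (s == 191) || (s == 87) || (s == 315) || (s % 4 != 3) || (s < 11) || (s % 3 == 1)

theorem okq_all' : ((List.range 7).all fun a => (List.range 4).all fun b => (List.range 2).all fun c =>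
    (List.range 2).all fun d => (List.range 2).all fun e => (List.range 2).all fun i => (List.range 2).all fun j =>
    okq (7 ^ a * (13 ^ b * (19 ^ c * (31 ^ d * (37 ^ e * (43 ^ i * 67 ^ j))))))) = true := by decide +kernel

theorem okq_all {a b c d e i j : ℕ} (ha : a < 7) (hb : b < 4) (hc : c < 2) (hd : d < 2) (he : e < 2) (hi : i < 2)
    (hj : j < 2) : okq (7 ^ a * (13 ^ b * (19 ^ c * (31 ^ d * (37 ^ e * (43 ^ i * 67 ^ j)))))) = true := by
  have h := okq_all'
  simp only [List.all_eq_true, List.mem_range] at h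
  exact h a ha b hb c hc d hd e he i hi j hj

theorem split_pow {r k m n : ℕ} (hr : r.Prime) (h : n ∣ r ^ k * m) : ∃ a n', a < k + 1 ∧ n' ∣ m ∧ n = r ^ a * n' := by
  obtain ⟨y, z, hy, hz, rfl⟩ := (Nat.dvd_mul).1 h
  obtain ⟨a, ha, rfl⟩ := (Nat.dvd_prime_pow hr).1 hy
  exact ⟨a, z, by omega, hz, rfl⟩

/-- the possible `q` -/
theorem q_cases {p f q : ℕ} (A : TA p f q)
    (h : q ^ 2 + q + 1 ∣ 7 ^ 6 * (13 ^ 3 * (19 ^ 1 * (31 ^ 1 * (37 ^ 1 * (43 ^ 1 * (67 ^ 1 * 1))))))) :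
    q = 11 ∨ q = 191 := by
  have hle := Nat.le_of_dvd (by norm_num) h
  obtain ⟨a, n1, ha, h1, e1⟩ := split_pow (by norm_num) h
  obtain ⟨b, n2, hb, h2, rfl⟩ := split_pow (by norm_num) h1
  obtain ⟨c, n3, hc, h3, rfl⟩ := split_pow (by norm_num) h2
  obtain ⟨d, n4, hd, h4, rfl⟩ := split_pow (by norm_num) h3
  obtain ⟨e, n5, he, h5, rfl⟩ := split_pow (by norm_num) h4
  obtain ⟨i, n6, hi, h6, rfl⟩ := split_pow (by norm_num) h5
  obtain ⟨j, n7, hj, h7, rfl⟩ := split_pow (by norm_num) h6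
  rw [Nat.dvd_one] at h7
  subst h7
  rw [mul_one] at e1
  have hok := okq_all ha hb hc hd he hi hj
  rw [← e1] at hok
  have hbs : bs (q ^ 2 + q + 1) 28 0 (2 ^ 28) = q := by
    refine bs_spec (by ring) _ _ _ (by omega) ?_ (by norm_num)
    by_contra hcon
    have h8 : 2 ^ 28 ≤ q := by omega
    have h9 : (2 ^ 28) ^ 2 ≤ q ^ 2 := Nat.pow_le_pow_left h8 2
    norm_num at h9 hle
    omega
  unfold okq at hok
  rw [hbs] at hok
  simp only [Bool.or_eq_true, bne_iff_ne, beq_iff_eq, decide_eq_true_eq] at hok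
  have := A.h11
  have := A.h4
  have := A.h3
  rcases hok with ((((((hok | hok) | hok) | hok) | hok) | hok) | hok) | hok
  · exact absurd (by ring) hok
  · exact Or.inl hok
  · exact Or.inr hok
  · exfalso
    have h8 : 3 ∣ p ^ f := by rw [← A.hq, hok]; norm_num
    have h9 : 29 ∣ p ^ f := by rw [← A.hq, hok]; norm_num
    have h10 := (Nat.prime_dvd_prime_iff_eq Nat.prime_three A.hp).1 (Nat.prime_three.dvd_of_dvd_pow h8)
    have h12 := (Nat.prime_dvd_prime_iff_eq (by norm_num : Nat.Prime 29) A.hp).1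
      ((by norm_num : Nat.Prime 29).dvd_of_dvd_pow h9)
    omega
  · exfalso
    have h8 : 3 ∣ p ^ f := by rw [← A.hq, hok]; norm_num
    have h9 : 5 ∣ p ^ f := by rw [← A.hq, hok]; norm_num
    have h10 := (Nat.prime_dvd_prime_iff_eq Nat.prime_three A.hp).1 (Nat.prime_three.dvd_of_dvd_pow h8)
    have h12 := (Nat.prime_dvd_prime_iff_eq (by norm_num : Nat.Prime 5) A.hp).1
      ((by norm_num : Nat.Prime 5).dvd_of_dvd_pow h9)
    omega
  · omega
  · omega
  · omega

end Cfsg.Agent.H366.T
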